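import Cfsg.Agent.Lib.Recog.NonCA.Basic
import Cfsg.Agent.Lib.Invol.CTClassify
import Cfsg.Agent.Lib.InvChar.PSLTwoFour
import Cfsg.Agent.Lib.Geom.PSLTwoCentralizer
import Cfsg.Agent.Lib.Geom.Solubilizer
import Cfsg.Agent.S4203

/-!
Centralisers in `PSL(2,q)`: abelian away from involutions; the involution centraliser.
-/

set_option autoImplicit false
set_option linter.style.haveILetI false

namespace CfsgLib.Recog.NonCA

open Matrix CfsgLib.Geom

variable {F : Type} [Field F]

local notation "S" => ProjectiveSpecialLinearGroup (Fin 2) F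
local notation "cenS(" x ")" => Subgroup.centralizer ({x} : Set S)

/-- Two elements commuting with an element which is not an involution commute. -/
theorem psl_comm_of {x a b : S} (hx : x ≠ 1) (hx2 : x * x ≠ 1 ∨ (2 : F) = 0)
    (ha : a * x = x * a) (hb : b * x = x * b) : a * b = b * a := by
  obtain ⟨A, rfl⟩ := QuotientGroup.mk_surjective x
  obtain ⟨B, rfl⟩ := QuotientGroup.mk_surjective a
  obtain ⟨C, rfl⟩ := QuotientGroup.mk_surjective b
  have hlift : ∀ D : Matrix.SpecialLinearGroup (Fin 2) F,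
      (QuotientGroup.mk D : S) * QuotientGroup.mk A = QuotientGroup.mk A * QuotientGroup.mk D →
        D.1 * A.1 = A.1 * D.1 := by
    intro D hD
    rw [← QuotientGroup.mk_mul, ← QuotientGroup.mk_mul, QuotientGroup.eq] at hD
    rcases CfsgLib.InvChar.PSLFour.coe_center_sl hD with h | h
    · have hh : D * A = A * D := inv_mul_eq_one.1 (Subtype.ext h)
      exact congrArg Subtype.val hh
    · have e : A.1 * D.1 = -(D.1 * A.1) := by
        have h' : ((D * A) * ((D * A)⁻¹ * (A * D))).1 = -(D.1 * A.1) := by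
          rw [Matrix.SpecialLinearGroup.coe_mul, h, Matrix.SpecialLinearGroup.coe_mul, mul_neg,
            mul_one]
        rwa [mul_inv_cancel_left] at h'
      by_cases h2 : (2 : F) = 0
      · rw [e]
        ext i j
        rw [Matrix.neg_apply]
        linear_combination (D.1 * A.1) i j * h2
      exfalso
      rcases hx2 with hx2 | hx2
      · apply hx2
        have hinv : D.1 * D.1.adjugate = 1 := by rw [Matrix.mul_adjugate, D.2, one_smul]
        have hAeq : A.1 = -(D.1 * A.1 * D.1.adjugate) := by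
          rw [← neg_mul, ← e, mul_assoc, hinv, mul_one]
        have htr : A.1.trace = -A.1.trace := by
          conv_lhs => rw [hAeq]
          rw [Matrix.trace_neg, Matrix.trace_mul_comm, ← mul_assoc, Matrix.adjugate_mul, D.2,
            one_smul, one_mul]
        have h0 : A.1.trace = 0 :=
          (mul_eq_zero.1 (show (2 : F) * A.1.trace = 0 by linear_combination htr)).resolve_left h2
        rw [Matrix.trace_fin_two] at h0
        have hd : A.1 0 0 * A.1 1 1 - A.1 0 1 * A.1 1 0 = 1 := by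
          rw [← Matrix.det_fin_two]; exact A.2
        have h11 : A.1 1 1 = -A.1 0 0 := by linear_combination h0
        rw [← QuotientGroup.mk_mul]
        refine CfsgLib.InvChar.PSLFour.mk_eq_one (c := -1) ?_
        rw [Matrix.SpecialLinearGroup.coe_mul]
        ext i j
        fin_cases i <;> fin_cases j <;>
          simp [Matrix.mul_apply, Fin.sum_univ_two, h11] at hd ⊢ <;>
            first | linear_combination -hd | linear_combination hd | ring
      · exact h2 hx2
  have hns : ¬ (A.1 0 1 = 0 ∧ A.1 1 0 = 0 ∧ A.1 0 0 = A.1 1 1) := by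
    rintro ⟨h01, h10, h00⟩
    refine hx (CfsgLib.InvChar.PSLFour.mk_eq_one (c := A.1 0 0) ?_)
    ext i j
    fin_cases i <;> fin_cases j <;> simp [h01, h10, h00]
  rw [← QuotientGroup.mk_mul, ← QuotientGroup.mk_mul]
  exact congrArg _ (Subtype.ext
    (CfsgLib.Invol.commute_of_commute_nonscalar hns (hlift B ha) (hlift C hb)))

theorem psl_centralizer_comm {x : S} (hx : x ≠ 1) (hx2 : x * x ≠ 1) :
    IsMulCommutative cenS(x) :=
  comm_iff.2 fun _ ha _ hb => psl_comm_of hx (Or.inl hx2) (mem_cen.1 ha) (mem_cen.1 hb)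

theorem sq_sub_one (q : ℕ) : q ^ 2 - 1 = (q + 1) * (q - 1) := by
  simpa using Nat.sq_sub_sq q 1

variable [Fintype F]

theorem two_eq_zero_of_even (h : Even (Fintype.card F)) : (2 : F) = 0 := by
  by_contra h2
  exact Nat.not_odd_iff_even.2 h
    (Nat.odd_iff.2 (FiniteField.odd_card_of_char_ne_two (ringChar_ne_two_of_ne h2)))

theorem psl_even_isCA (h : Even (Fintype.card F)) : IsCA S := fun x hx => by
  have hx1 : x ≠ 1 := fun e => hx (e ▸ one_mem _)
  exact comm_iff.2 fun _ ha _ hb =>
    psl_comm_of hx1 (Or.inr (two_eq_zero_of_even h)) (mem_cen.1 ha) (mem_cen.1 hb)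

theorem psl_two_mul_card (hodd : Odd (Fintype.card F)) :
    2 * Nat.card S = Fintype.card F * (Fintype.card F ^ 2 - 1) := by
  have h := CfsgLib.Classical.card_psl_two_mul (F := F)
  rwa [Moebius.gcd_two_of_odd hodd] at h

theorem eight_dvd_iff (hodd : Odd (Fintype.card F)) :
    8 ∣ Nat.card S ↔ 16 ∣ Fintype.card F ^ 2 - 1 := by
  have hm := psl_two_mul_card hodd
  have hco : Nat.Coprime 16 (Fintype.card F) := by
    rw [show (16 : ℕ) = 2 ^ 4 by norm_num]
    exact (Nat.coprime_two_left.2 hodd).pow_left 4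
  constructor
  · intro h
    refine hco.dvd_of_dvd_mul_left ?_
    rw [← hm]
    obtain ⟨c, hc⟩ := h
    exact ⟨c, by omega⟩
  · intro h
    obtain ⟨c, hc⟩ := h.mul_left (Fintype.card F)
    refine ⟨c, ?_⟩
    omega

/-- The order of the centraliser of an involution and the orders of its elements. -/
theorem involution_data (hodd : Odd (Fintype.card F)) (h5 : 5 ≤ Fintype.card F) {t : S}
    (ht : t * t = 1) (ht1 : t ≠ 1) :
    ∃ k : ℕ, Even k ∧ (2 * k + 1 = Fintype.card F ∨ 2 * k = Fintype.card F + 1) ∧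
      Nat.card cenS(t) = 2 * k ∧
      ∀ c : S, t * c = c * t → c * c ≠ 1 → Nat.card cenS(c) = k ∧ orderOf c ∣ k := by
  classical
  obtain ⟨E, _, _, f, hE, hQC⟩ := Moebius.exists_quadExt F
  have hord : orderOf t = 2 := orderOf_eq_prime (by rw [pow_two, ht]) ht1
  have hq2 : ¬ 2 ∣ Fintype.card F := fun h => Nat.not_even_iff_odd.2 hodd (even_iff_two_dvd.2 h)
  rcases Moebius.card_centralizer_cases f hE hQC (by omega) t ht1 with hc | ⟨k, hk, hdk, hck, -⟩
  · have hd := Subgroup.orderOf_dvd_natCard cenS(t) (self_mem_cen t)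
    rw [hord, hc] at hd
    exact absurd hd hq2
  rw [hord] at hdk
  rw [Moebius.gcd_two_of_odd hodd] at hk
  refine ⟨k, even_iff_two_dvd.2 hdk, by omega, hck ht, fun c hc hc2 => ?_⟩
  have htc : t ∈ cenS(c) := mem_cen.2 hc
  have h2c := Subgroup.orderOf_dvd_natCard _ htc
  rw [hord] at h2c
  have hc1 : c ≠ 1 := fun e => hc2 (by rw [e, one_mul])
  rcases Moebius.card_centralizer_cases f hE hQC (by omega) c hc1 with hc' | ⟨k', hk', hdk', -, hck'⟩
  · rw [hc'] at h2c
    exact absurd h2c hq2
  rw [hck' hc2] at h2c ⊢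
  rw [Moebius.gcd_two_of_odd hodd] at hk'
  have hkk : k' = k := by
    obtain ⟨a, ha⟩ := hdk
    obtain ⟨b, hb⟩ := h2c
    omega
  exact ⟨hkk, hkk ▸ hdk'⟩

theorem exists_involution (hodd : Odd (Fintype.card F)) :
    ∃ t : S, t * t = 1 ∧ t ≠ 1 := by
  obtain ⟨j, hj⟩ := hodd
  have h2 : 2 ∣ Nat.card S := by
    have hm := psl_two_mul_card (F := F) ⟨j, hj⟩
    have h4 : 4 ∣ Fintype.card F ^ 2 - 1 := by
      rw [sq_sub_one, hj, Nat.add_sub_cancel]
      exact ⟨j * (j + 1), by ring⟩
    obtain ⟨c, hc⟩ := h4.mul_left (Fintype.card F)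
    exact ⟨c, by omega⟩
  obtain ⟨t, ht⟩ := exists_prime_orderOf_dvd_card' 2 h2
  refine ⟨t, by rw [← pow_two]; exact orderOf_dvd_iff_pow_eq_one.1 (by rw [ht]), fun e => ?_⟩
  rw [e, orderOf_one] at ht
  omega

/-- For `q > 5` odd the involution centralisers are not abelian. -/
theorem psl_not_isCA (hodd : Odd (Fintype.card F)) (h5 : 5 < Fintype.card F) : ¬ IsCA S := by
  intro hCA
  obtain ⟨t, ht, ht1⟩ := exists_involution (F := F) hodd
  obtain ⟨k, hk2, hk, hcard, hdata⟩ := involution_data hodd h5.le ht ht1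
  have hk4 : 4 ≤ k := by
    obtain ⟨a, ha⟩ := hk2
    omega
  have hnc : t ∉ Subgroup.center S := by
    intro hc
    rw [cen_eq_top.2 hc, Subgroup.card_top] at hcard
    have hm := psl_two_mul_card (F := F) hodd
    have : 7 * 7 ≤ Fintype.card F ^ 2 := by
      rw [pow_two]; exact Nat.mul_le_mul (by omega) (by omega)
    have := Nat.mul_le_mul (show 5 ≤ Fintype.card F by omega) (show 48 ≤ Fintype.card F ^ 2 - 1 by omega)
    have h7 : Fintype.card F * (Fintype.card F ^ 2 - 1) ≥ Fintype.card F * 48 :=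
      Nat.mul_le_mul le_rfl (by omega)
    omega
  have hcomm := comm_iff.1 (hCA t hnc)
  by_cases hex : ∃ c ∈ cenS(t), c * c ≠ 1
  · obtain ⟨c, hc, hc2⟩ := hex
    have hle : cenS(t) ≤ cenS(c) := fun a ha => mem_cen.2 (hcomm a ha c hc)
    have := Nat.le_of_dvd Nat.card_pos (Subgroup.card_dvd_of_le hle)
    rw [hcard, (hdata c (mem_cen.1 hc).symm hc2).1] at this
    omega
  push Not at hex
  by_cases hs : ∃ s ∈ cenS(t), s ≠ 1 ∧ s ≠ t
  · obtain ⟨s, hs, hs1, hst⟩ := hs
    have hsub : (cenS(t) : Set S) ⊆ {1, t, s, t * s} := fun z hz => by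
      simpa using CfsgLib.InvChar.PSLFour.centralizer_four
        (CfsgLib.InvChar.PSLFour.two_ne_zero_of_odd hodd) t s z ht ht1 (hex s hs) hs1 hst.symm
        (mem_cen.1 hs).symm (mem_cen.1 hz) (hcomm z hz s hs)
    have hle : Nat.card cenS(t) ≤ 4 := by
      rw [← SetLike.coe_sort_coe, Nat.card_coe_set_eq]
      refine le_trans (Set.ncard_le_ncard hsub (Set.toFinite _)) ?_
      refine le_trans (Set.ncard_insert_le _ _) ?_
      refine Nat.succ_le_succ (le_trans (Set.ncard_insert_le _ _) ?_)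
      refine Nat.succ_le_succ (le_trans (Set.ncard_insert_le _ _) ?_)
      rw [Set.ncard_singleton]
    omega
  · push Not at hs
    have hle : Nat.card cenS(t) ≤ 2 := by
      rw [← SetLike.coe_sort_coe, Nat.card_coe_set_eq]
      refine le_trans (Set.ncard_le_ncard (t := {1, t}) (fun z hz => ?_) (Set.toFinite _)) ?_
      · by_cases hz1 : z = 1
        · exact Or.inl hz1
        · exact Or.inr (hs z hz hz1)
      · refine le_trans (Set.ncard_insert_le _ _) ?_
        rw [Set.ncard_singleton]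
    omega

/-- For `q = 5` all centralisers are abelian. -/
theorem psl_five_isCA (h5 : Fintype.card F = 5) : IsCA S := by
  intro x hx
  have hx1 : x ≠ 1 := fun e => hx (e ▸ one_mem _)
  by_cases hx2 : x * x = 1
  · obtain ⟨k, hk2, hk, hcard, -⟩ := involution_data (by rw [h5]; decide) h5.ge hx2 hx1
    haveI : Fact (Nat.Prime 2) := ⟨Nat.prime_two⟩
    obtain ⟨a, ha⟩ := hk2
    refine IsPGroup.isMulCommutative_of_card_eq_prime_sq (p := 2) ?_
    rw [hcard]
    omega
  · exact psl_centralizer_comm hx1 hx2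

theorem psl_small_solvable (h : Fintype.card F ≤ 3) : Group.IsSolvable S := by
  exact Moebius.isSolvable_psl_small h Cfsg.Agent.S4203.isSolvable_perm_four

end CfsgLib.Recog.NonCA
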