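import Cfsg.Agent.Lib.Recog.NonCA.Basic
import Cfsg.Agent.Lib.Recog.GenDihedral.ReduceBase
import Cfsg.Agent.Lib.Recog.PGroupImprimitive

/-!
Bad centralisers are not normal, and abelian normal subgroups are central.
-/

set_option autoImplicit false
set_option linter.unusedSectionVars false

namespace CfsgLib.Recog.NonCA

open CfsgLib.Recog.GenDihedral (isSolvable_of_odd_index isSolvable_of_two_index
  isSolvable_of_cyclic_sylow isSolvable_of_normal_sylow)

universe u

variable {G : Type u} [Group G] [Finite G]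

local notation "cen(" x ")" => Subgroup.centralizer ({x} : Set G)

theorem isSolvable_of_sylow_central (P : Sylow 2 G)
    (h : Subgroup.normalizer ((P : Subgroup G) : Set G) ≤
      Subgroup.centralizer ((P : Subgroup G) : Set G)) : Group.IsSolvable G := by
  have : Fact (Nat.Prime 2) := ⟨Nat.prime_two⟩
  set K := (MonoidHom.transferSylow P h).ker
  have hc := MonoidHom.ker_transferSylow_isComplement' P h
  refine isSolvable_of_two_index (N := K) (CfsgLib.FT.odd_order_solvable ?_) ?_
  · rw [← Nat.not_even_iff_odd, even_iff_two_dvd]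
    exact MonoidHom.not_dvd_card_ker_transferSylow P h
  · obtain ⟨n, hn⟩ := P.2.exists_card_eq
    exact IsPGroup.of_card (n := n) (by rw [← Subgroup.index_eq_card, hc.symm.index_eq_card, hn])

theorem Hyp.ne_top_of_solvable (hG : Hyp G) {H : Subgroup G} (h : Group.IsSolvable H) :
    H ≠ ⊤ := by
  rintro rfl
  exact hG.ns (Group.isSolvable_of_surjective (f := (⊤ : Subgroup G).subtype)
    fun g => ⟨⟨g, trivial⟩, rfl⟩)

theorem isSolvable_comap {B : Subgroup G} [B.Normal] (hB : Group.IsSolvable B)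
    {K : Subgroup (G ⧸ B)} (hK : Group.IsSolvable K) :
    Group.IsSolvable (K.comap (QuotientGroup.mk' B)) := by
  set H := K.comap (QuotientGroup.mk' B)
  let f : H →* K :=
    { toFun := fun h => ⟨QuotientGroup.mk' B h, h.2⟩
      map_one' := Subtype.ext (map_one _)
      map_mul' := fun a b => Subtype.ext (map_mul _ _ _) }
  refine Group.isSolvable_of_ker_le_range (Subgroup.inclusion (H := B) (K := H) ?_) f ?_
  · intro b hb
    rw [Subgroup.mem_comap, QuotientGroup.mk'_apply, (QuotientGroup.eq_one_iff b).2 hb]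
    exact K.one_mem
  · intro h hh
    have h1 : QuotientGroup.mk' B (h : G) = 1 := congrArg Subtype.val hh
    exact ⟨⟨h, (QuotientGroup.eq_one_iff _).1 h1⟩, Subtype.ext rfl⟩

theorem isSolvable_closure_pair {X : Type u} [Group X] {i j : X} (hi : i * i = 1)
    (hj : j * j = 1) : Group.IsSolvable (Subgroup.closure ({i, j} : Set X)) := by
  set K := Subgroup.closure ({i, j} : Set X)
  have hiK : i ∈ K := Subgroup.subset_closure (Set.mem_insert _ _)
  have hjK : j ∈ K := Subgroup.subset_closure (Set.mem_insert_of_mem _ rfl)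
  set R := Subgroup.zpowers (i * j)
  have hR : R ≤ K := Subgroup.zpowers_le.2 (mul_mem hiK hjK)
  have hinv : ∀ g : X, g = i ∨ g = j → g * (i * j) * g⁻¹ = (i * j)⁻¹ := by
    have h1 : i⁻¹ = i := inv_eq_of_mul_eq_one_right hi
    have h2 : j⁻¹ = j := inv_eq_of_mul_eq_one_right hj
    rintro g (rfl | rfl)
    · calc g * (g * j) * g⁻¹ = (g * g) * (j * g⁻¹) := by group
        _ = (g * j)⁻¹ := by rw [hi, mul_inv_rev, h1, h2, one_mul]
    · calc g * (i * g) * g⁻¹ = g * i * (g * g⁻¹) := by group
        _ = (i * g)⁻¹ := by rw [mul_inv_cancel, mul_one, mul_inv_rev, h1, h2]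
  have hnorm : K ≤ Subgroup.normalizer (R : Set X) := by
    rw [Subgroup.closure_le]
    intro g hg
    refine Subgroup.mem_normalizer_iff.2 fun r => ?_
    have key := hinv g hg
    have hmap : ∀ k : ℤ, g * (i * j) ^ k * g⁻¹ = (i * j) ^ (-k) := fun k => by
      rw [← conj_zpow, key, inv_zpow, zpow_neg]
    constructor
    · rintro ⟨k, rfl⟩
      exact ⟨-k, (hmap k).symm⟩
    · rintro ⟨k, hk⟩
      refine ⟨-k, ?_⟩
      have := hmap (-k)
      rw [neg_neg] at this
      simp only at hk ⊢
      rw [hk] at this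
      exact mul_left_cancel (mul_right_cancel this)
  have : (R.subgroupOf K).Normal := Subgroup.normal_subgroupOf_of_le_normalizer hnorm
  have hzs : ∀ {Y : Type u} [Group Y] (y : Y), Group.IsSolvable (Subgroup.zpowers y) := fun y =>
    Group.isSolvable_of_comm fun a b => mul_comm' a b
  have := hzs (i * j)
  have := hzs (⟨i, hiK⟩ : K)
  refine CfsgLib.Invol.MetacyclicTwo.solvable_of_extension (R.subgroupOf K) ?_ ?_
  · exact Group.isSolvable_of_isSolvable_injective (f := (Subgroup.subgroupOfEquivOfLe hR).toMonoidHom)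
      (MulEquiv.injective _)
  · refine Group.isSolvable_of_surjective (G := Subgroup.zpowers (⟨i, hiK⟩ : K))
      (f := (QuotientGroup.mk' (R.subgroupOf K)).comp (Subgroup.zpowers (⟨i, hiK⟩ : K)).subtype) ?_
    intro q
    obtain ⟨⟨k, hk⟩, rfl⟩ := QuotientGroup.mk'_surjective _ q
    set π := QuotientGroup.mk' (R.subgroupOf K)
    have hij : π ⟨j, hjK⟩ = (π ⟨i, hiK⟩)⁻¹ := by
      refine eq_inv_of_mul_eq_one_right ?_
      rw [← map_mul]
      exact (QuotientGroup.eq_one_iff _).2 (Subgroup.mem_zpowers _)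
    have hall : ∀ x : X, ∀ hx : x ∈ K, π ⟨x, hx⟩ ∈ Subgroup.zpowers (π ⟨i, hiK⟩) := by
      intro x hx
      induction hx using Subgroup.closure_induction with
      | mem x hx =>
        rcases hx with rfl | rfl
        · exact Subgroup.mem_zpowers _
        · rw [hij]; exact inv_mem (Subgroup.mem_zpowers _)
      | one => exact (map_one π).symm ▸ one_mem _
      | mul x y hx hy h1 h2 => exact (map_mul π ⟨x, hx⟩ ⟨y, hy⟩).symm ▸ mul_mem h1 h2
      | inv x hx h1 => exact (map_inv π ⟨x, hx⟩).symm ▸ inv_mem h1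
    obtain ⟨m, hm⟩ := hall k hk
    exact ⟨⟨⟨i, hiK⟩ ^ m, ⟨m, rfl⟩⟩, by
      rw [MonoidHom.comp_apply, Subgroup.subtype_apply, map_zpow]; exact hm⟩

theorem Bad.cen_not_normal (hG : Hyp G) {x : G} (hx : Bad x) : ¬ (cen(x)).Normal := by
  intro hn
  have : Fact (Nat.Prime 2) := ⟨Nat.prime_two⟩
  set M := cen(x) with hM
  have hmax : ∀ H : Subgroup G, M ≤ H → H = M ∨ H = ⊤ := fun H hH => by
    rcases eq_or_ne H ⊤ with h | h
    · exact Or.inr h
    · exact Or.inl (le_antisymm (hx.le_cen hG h hH) hH)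
  -- the quotient is cyclic, so `M` is not solvable
  have hMns : ¬ Group.IsSolvable M := by
    intro hs
    obtain ⟨g, hg⟩ : ∃ g, g ∉ M := by
      by_contra h
      push Not at h
      exact hx.ne_top (eq_top_iff.2 fun g _ => h g)
    have hcyc : ∀ q : G ⧸ M, q ∈ Subgroup.zpowers (QuotientGroup.mk' M g) := by
      intro q
      rcases hmax ((Subgroup.zpowers (QuotientGroup.mk' M g)).comap (QuotientGroup.mk' M))
        (QuotientGroup.le_comap_mk' _ _) with h | h
      · exact absurd (h ▸ (Subgroup.mem_comap.2 (Subgroup.mem_zpowers _) :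
          g ∈ (Subgroup.zpowers (QuotientGroup.mk' M g)).comap (QuotientGroup.mk' M))) hg
      · obtain ⟨y, rfl⟩ := QuotientGroup.mk'_surjective M q
        exact Subgroup.mem_comap.1 (h ▸ Subgroup.mem_top y)
    refine hG.ns (CfsgLib.Invol.MetacyclicTwo.solvable_of_extension M hs ?_)
    exact Group.isSolvable_of_surjective (f := (Subgroup.zpowers (QuotientGroup.mk' M g)).subtype)
      fun q => ⟨⟨q, hcyc q⟩, rfl⟩
  obtain ⟨R⟩ := (inferInstance : Nonempty (Sylow 2 M))
  set H := Subgroup.normalizer (((R : Subgroup M).map M.subtype) : Set G) with hH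
  have hsup : H ⊔ M = ⊤ := Sylow.normalizer_sup_eq_top R
  have hxH : x ∈ H := by
    refine Subgroup.mem_normalizer_iff.2 fun r => ⟨fun hr => ?_, fun hr => ?_⟩
    · obtain ⟨r', hr', rfl⟩ := Subgroup.mem_map.1 hr
      exact Subgroup.mem_map.2 ⟨r', hr', by
        rw [Subgroup.subtype_apply, ← mem_cen.1 r'.2, mul_inv_cancel_right]⟩
    · obtain ⟨r', hr', he⟩ := Subgroup.mem_map.1 hr
      refine Subgroup.mem_map.2 ⟨r', hr', ?_⟩
      rw [Subgroup.subtype_apply] at he ⊢
      calc (r' : G) = x⁻¹ * ((r' : G) * x) := by rw [mem_cen.1 r'.2]; group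
        _ = r := by rw [he]; group
  by_cases hHt : H = ⊤
  · have hn' : (R : Subgroup M).Normal := by
      refine ⟨fun r hr m => ?_⟩
      have hm : (m : G) ∈ H := hHt ▸ Subgroup.mem_top _
      obtain ⟨r', hr', he⟩ := Subgroup.mem_map.1
        ((Subgroup.mem_normalizer_iff.1 hm _).1 (Subgroup.mem_map_of_mem M.subtype hr))
      rwa [show m * r * m⁻¹ = r' from Subtype.ext he.symm]
    exact hMns (isSolvable_of_normal_sylow R hn')
  · refine hMns (isSolvable_of_sylow_central R fun m hm => ?_)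
    refine Subgroup.mem_centralizer_iff.2 fun r hr => Subtype.ext ?_
    have hmH : (m : G) ∈ H := by
      refine Subgroup.mem_normalizer_iff.2 fun y => ⟨fun hy => ?_, fun hy => ?_⟩
      · obtain ⟨r', hr', rfl⟩ := Subgroup.mem_map.1 hy
        exact Subgroup.mem_map.2 ⟨m * r' * m⁻¹, (Subgroup.mem_normalizer_iff.1 hm r').1 hr', rfl⟩
      · obtain ⟨r', hr', he⟩ := Subgroup.mem_map.1 hy
        refine Subgroup.mem_map.2 ⟨m⁻¹ * r' * m, (Subgroup.mem_normalizer_iff.1 hm _).2
          (by simpa [mul_assoc] using hr'), ?_⟩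
        rw [Subgroup.subtype_apply] at he
        simp [he, mul_assoc]
    have hrH : (r : G) ∈ H := Subgroup.le_normalizer (Subgroup.mem_map_of_mem M.subtype hr)
    by_contra hne
    have hle : H ≤ M := fun h hh =>
      mem_cen.2 (hG.central_of hHt hxH hrH hmH (mem_cen.1 r.2) (mem_cen.1 m.2) hne h hh)
    rw [sup_of_le_right hle] at hsup
    exact hx.ne_top hsup

theorem Bad.normalizer_eq (hG : Hyp G) {x : G} (hx : Bad x) {g : G}
    (hg : (cen(x)).map (MulAut.conj g).toMonoidHom = cen(x)) : g ∈ cen(x) := by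
  set M := cen(x)
  have hgN : g ∈ Subgroup.normalizer (M : Set G) := by
    refine Subgroup.mem_normalizer_iff.2 fun c => ⟨fun hc => ?_, fun hc => ?_⟩
    · rw [← hg]; exact Subgroup.mem_map_of_mem _ hc
    · rw [← hg] at hc
      obtain ⟨d, hd, he⟩ := Subgroup.mem_map.1 hc
      have hdc : d = c := by simpa [MulAut.conj_apply] using he
      exact hdc ▸ hd
  rcases eq_or_ne (Subgroup.normalizer (M : Set G)) ⊤ with h | h
  · exact absurd (Subgroup.normalizer_eq_top_iff.1 h) (hx.cen_not_normal hG)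
  · exact hx.le_cen hG h Subgroup.le_normalizer hgN

/-- An element whose centraliser is the same as that of a conjugate fixes it. -/
theorem Bad.mem_of_cen_conj_eq (hG : Hyp G) {x : G} (hx : Bad x) {g : G}
    (h : cen(g * x * g⁻¹) = cen(x)) : g ∈ cen(x) :=
  hx.normalizer_eq hG (by rw [← cen_conj, h])

/-- A bad element fixed modulo the centre is fixed. -/
theorem Bad.mem_of_comm_mod (hG : Hyp G) {x : G} (hx : Bad x) {g : G}
    (h : g * x * g⁻¹ * x⁻¹ ∈ Subgroup.center G) : g ∈ cen(x) := by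
  refine hx.mem_of_cen_conj_eq hG (hx.eq_of_mem hG (conj_notMem_center hx.1) fun c hc => ?_)
  have hz := mem_center.1 h
  calc c * (g * x * g⁻¹) = c * (g * x * g⁻¹ * x⁻¹) * x := by group
    _ = (g * x * g⁻¹ * x⁻¹) * (c * x) := by rw [hz c, mul_assoc]
    _ = (g * x * g⁻¹ * x⁻¹) * (x * c) := by rw [mem_cen.1 hc]
    _ = g * x * g⁻¹ * c := by group

end CfsgLib.Recog.NonCA
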