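import Cfsg.Agent.Lib.Recog.NonCA.Abelian

/-!
Abelian normal subgroups are central.
-/

set_option autoImplicit false
set_option linter.unusedSectionVars false
set_option maxHeartbeats 1000000

namespace CfsgLib.Recog.NonCA

open CfsgLib.Recog.GenDihedral (isSolvable_of_odd_index isSolvable_of_cyclic_sylow)

universe u

variable {G : Type u} [Group G] [Finite G]

local notation "cen(" x ")" => Subgroup.centralizer ({x} : Set G)

/-- The centraliser of a non-central abelian normal subgroup is abelian. -/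
theorem Hyp.centralizer_comm (hG : Hyp G) (A : Subgroup G) [A.Normal]
    (hA : ∀ a ∈ A, ∀ b ∈ A, a * b = b * a) (hne : ¬ A ≤ Subgroup.center G) :
    ∀ a ∈ Subgroup.centralizer (A : Set G), ∀ b ∈ Subgroup.centralizer (A : Set G),
      a * b = b * a := by
  obtain ⟨x, hxA, hxZ⟩ := Set.not_subset.1 hne
  intro a ha b hb
  by_contra hab
  have hBx : ∀ {c}, c ∈ Subgroup.centralizer (A : Set G) → ∀ y ∈ A, c * y = y * c :=
    fun hc y hy => (Subgroup.mem_centralizer_iff.1 hc y hy).symm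
  have hx : Bad x := ⟨hxZ, fun h => hab (comm_iff.1 h a (mem_cen.2 (hBx ha x hxA)) b
    (mem_cen.2 (hBx hb x hxA)))⟩
  refine hx.cen_not_normal hG ⟨fun c hc g => ?_⟩
  have hgx : g⁻¹ * x * g ∈ A := by
    simpa using Subgroup.Normal.conj_mem (inferInstance : A.Normal) x hxA g⁻¹
  have he : cen(x) = cen(g⁻¹ * x * g) :=
    hx.eq_of_noncomm hG (by simpa using conj_notMem_center (g := g⁻¹) hxZ) (hA x hxA _ hgx)
      (hBx ha _ hgx) (hBx hb _ hgx) (hBx ha x hxA) (hBx hb x hxA) hab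
  have hc' := mem_cen.1 (he ▸ hc : c ∈ cen(g⁻¹ * x * g))
  refine mem_cen.2 ?_
  calc g * c * g⁻¹ * x = g * (c * (g⁻¹ * x * g)) * g⁻¹ := by group
    _ = g * ((g⁻¹ * x * g) * c) * g⁻¹ := by rw [hc']
    _ = x * (g * c * g⁻¹) := by group

section Main

variable {B : Subgroup G} [B.Normal]

/-- Self-centralising abelian normal subgroup: if `g` of order two modulo `B` fixes only central
elements, no element of order four modulo `B` exists beside a non-central `b` with `b ^ 2` central. -/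
theorem no_four (hBc : ∀ a ∈ B, ∀ b ∈ B, a * b = b * a)
    (hinv : ∀ g, g ∉ B → g * g ∈ B → ∀ b ∈ B, g * b = b * g → b ∈ Subgroup.center G)
    {g : G} (hg2 : g * g ∉ B) (hg4 : g * g * (g * g) ∈ B) {b : G} (hb : b ∈ B)
    (hbZ : b ∉ Subgroup.center G) (hb2 : b * b ∈ Subgroup.center G) : False := by
  have hnorm : ∀ {h y : G}, y ∈ B → h * y * h⁻¹ ∈ B := fun {h y} hy =>
    Subgroup.Normal.conj_mem inferInstance y hy h
  set τ := g * g with hτ
  have hfix : ∀ w ∈ B, τ * w * τ⁻¹ = w → w ∈ Subgroup.center G := fun w hw e =>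
    hinv τ hg2 hg4 w hw (mul_inv_eq_iff_eq_mul.1 e)
  have hZ := fun {z : G} (hz : z ∈ Subgroup.center G) (y : G) => mem_center.1 hz y
  -- an element fixed by `g` up to a central element is central
  have hfix' : ∀ w ∈ B, w * w ∈ Subgroup.center G → g * w * g⁻¹ * w⁻¹ ∈ Subgroup.center G →
      w ∈ Subgroup.center G := by
    intro w hw hw2 hz
    set z := g * w * g⁻¹ * w⁻¹ with hzdef
    have hgw : g * w * g⁻¹ = z * w := by rw [hzdef]; group
    have hz2 : z * z = 1 := by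
      have h1 : (g * w * g⁻¹) * (g * w * g⁻¹) = w * w := by
        calc (g * w * g⁻¹) * (g * w * g⁻¹) = g * (w * w) * g⁻¹ := by group
          _ = w * w := by rw [hZ hw2 g, mul_inv_cancel_right]
      rw [hgw, show z * w * (z * w) = z * (w * z) * w by group, hZ hz w,
        show z * (z * w) * w = z * z * (w * w) by group] at h1
      exact mul_eq_right.1 h1
    refine hfix w hw ?_
    calc τ * w * τ⁻¹ = g * (g * w * g⁻¹) * g⁻¹ := by rw [hτ]; group
      _ = (g * z) * w * g⁻¹ := by rw [hgw]; group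
      _ = z * (g * w * g⁻¹) := by rw [hZ hz g]; group
      _ = w := by rw [hgw, ← mul_assoc, hz2, one_mul]
  refine hbZ (hfix' b hb hb2 ?_)
  set s := g * b * g⁻¹ * b⁻¹ with hs
  have hsB : s ∈ B := mul_mem (hnorm hb) (inv_mem hb)
  have hgb2 : (g * b * g⁻¹) * (g * b * g⁻¹) = b * b := by
    calc (g * b * g⁻¹) * (g * b * g⁻¹) = g * (b * b) * g⁻¹ := by group
      _ = b * b := by rw [hZ hb2 g, mul_inv_cancel_right]
  have hs2 : s * s = 1 := by
    calc s * s = (g * b * g⁻¹) * (b⁻¹ * (g * b * g⁻¹)) * b⁻¹ := by rw [hs]; group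
      _ = (g * b * g⁻¹) * ((g * b * g⁻¹) * b⁻¹) * b⁻¹ := by
        rw [hBc b⁻¹ (inv_mem hb) _ (hnorm hb)]
      _ = ((g * b * g⁻¹) * (g * b * g⁻¹)) * (b * b)⁻¹ := by group
      _ = 1 := by rw [hgb2, mul_inv_cancel]
  refine hfix' s hsB (hs2 ▸ one_mem _) ?_
  -- `g s g⁻¹ s⁻¹ = τ b τ⁻¹ b ⁻¹ s⁻²`
  have hbt : b * (τ * b * τ⁻¹) ∈ Subgroup.center G := by
    refine hinv τ hg2 hg4 _ (mul_mem hb (hnorm hb)) (mul_inv_eq_iff_eq_mul.1 ?_)
    have h1 : τ * (τ * b * τ⁻¹) * τ⁻¹ = b := by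
      rw [show τ * (τ * b * τ⁻¹) * τ⁻¹ = (τ * τ) * b * (τ * τ)⁻¹ by group,
        hBc _ hg4 b hb, mul_inv_cancel_right]
    calc τ * (b * (τ * b * τ⁻¹)) * τ⁻¹ = (τ * b * τ⁻¹) * (τ * (τ * b * τ⁻¹) * τ⁻¹) := by group
      _ = b * (τ * b * τ⁻¹) := by rw [h1, hBc _ (hnorm hb) b hb]
  have e : g * s * g⁻¹ * s⁻¹ = (τ * b * τ⁻¹ * b⁻¹) * (s * s)⁻¹ := by rw [hτ, hs]; group
  rw [e, hs2, inv_one, mul_one]
  have e2 : τ * b * τ⁻¹ * b⁻¹ = b⁻¹ * (b * (τ * b * τ⁻¹)) * b⁻¹ := by group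
  rw [e2, hZ hbt b⁻¹, mul_assoc, show b⁻¹ * b⁻¹ = (b * b)⁻¹ by group]
  exact mul_mem hbt (inv_mem hb2)

theorem Hyp.involution_fixed_central (hG : Hyp G) (hBc : ∀ a ∈ B, ∀ b ∈ B, a * b = b * a)
    (hCB : ∀ c : G, (∀ b ∈ B, c * b = b * c) → c ∈ B) :
    ∀ g, g ∉ B → g * g ∈ B → ∀ b ∈ B, g * b = b * g → b ∈ Subgroup.center G := by
  intro g hgB hg2 b hb hgb
  have hBs : Group.IsSolvable B :=
    Group.isSolvable_of_comm fun a c => Subtype.ext (hBc a a.2 c c.2)
  set π := QuotientGroup.mk' B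
  have hsq : ∀ {k : G}, k * k ∈ B → π k * π k = 1 := fun hk => by
    rw [← map_mul]; exact (QuotientGroup.eq_one_iff _).2 hk
  -- all involutions modulo `B` fix the same elements of `B`
  have key : ∀ h, h ∉ B → h * h ∈ B → ∀ c ∈ B, h * c = c * h →
      ∀ k, k * k ∈ B → k * c = c * k := by
    intro h hh hh2 c hc hhc k hk
    set K := (Subgroup.closure ({π h, π k} : Set (G ⧸ B))).comap π with hKdef
    have hK : K ≠ ⊤ := hG.ne_top_of_solvable
      (isSolvable_comap hBs (isSolvable_closure_pair (hsq hh2) (hsq hk)))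
    have hBK : B ≤ K := QuotientGroup.le_comap_mk' _ _
    have hhK : h ∈ K := Subgroup.subset_closure (Set.mem_insert _ _)
    have hkK : k ∈ K := Subgroup.subset_closure (Set.mem_insert_of_mem _ rfl)
    by_contra hne
    refine hh (hCB h fun y hy => ?_)
    exact hG.commute_of hK (hBK hc) hhK (hBK hy) hkK hhc (hBc y hy c hc) hne
  -- so these elements form a normal subgroup
  set B₀ : Subgroup G := B ⊓ cen(g) with hB₀
  have hn : B₀.Normal := by
    refine ⟨fun c hc x => ?_⟩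
    have hcB : c ∈ B := hc.1
    have hcg := mem_cen.1 hc.2
    have hgx : x⁻¹ * g * x * (x⁻¹ * g * x) ∈ B := by
      rw [show x⁻¹ * g * x * (x⁻¹ * g * x) = x⁻¹ * (g * g) * x⁻¹⁻¹ by group]
      exact Subgroup.Normal.conj_mem inferInstance _ hg2 _
    have h1 := key g hgB hg2 c hcB hcg.symm _ hgx
    refine ⟨Subgroup.Normal.conj_mem inferInstance c hcB x, mem_cen.2 ?_⟩
    calc x * c * x⁻¹ * g = x * (c * (x⁻¹ * g * x)) * x⁻¹ := by group
      _ = x * ((x⁻¹ * g * x) * c) * x⁻¹ := by rw [h1]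
      _ = g * (x * c * x⁻¹) := by group
  by_contra hbZ
  have hB₀B : ∀ {c}, c ∈ B₀ → c ∈ B := fun hc => hc.1
  refine hgB (hCB g fun y hy => hG.centralizer_comm B₀
    (fun a ha c hc => hBc a (hB₀B ha) c (hB₀B hc)) (fun h => hbZ (h ⟨hb, mem_cen.2 hgb.symm⟩))
    g ?_ y ?_)
  · exact Subgroup.mem_centralizer_iff.2 fun c hc => mem_cen.1 hc.2
  · exact Subgroup.mem_centralizer_iff.2 fun c hc => hBc c (hB₀B hc) y hy

theorem Hyp.quot_facts (hG : Hyp G) (hBc : ∀ a ∈ B, ∀ b ∈ B, a * b = b * a)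
    (hCB : ∀ c : G, (∀ b ∈ B, c * b = b * c) → c ∈ B) (hBZ : ¬ B ≤ Subgroup.center G) :
    False := by
  have : Fact (Nat.Prime 2) := ⟨Nat.prime_two⟩
  have hinv := hG.involution_fixed_central hBc hCB
  have hBs : Group.IsSolvable B :=
    Group.isSolvable_of_comm fun a c => Subtype.ext (hBc a a.2 c c.2)
  have hnorm : ∀ {h y : G}, y ∈ B → h * y * h⁻¹ ∈ B := fun {h y} hy =>
    Subgroup.Normal.conj_mem inferInstance y hy h
  have hZ := fun {z : G} (hz : z ∈ Subgroup.center G) (y : G) => mem_center.1 hz y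
  obtain ⟨b₀, hb₀, hb₀Z⟩ := Set.not_subset.1 hBZ
  -- an involution modulo `B` inverts `B` modulo the centre
  have hσ : ∀ g, g ∉ B → g * g ∈ B → ∀ b ∈ B, b * (g * b * g⁻¹) ∈ Subgroup.center G := by
    intro g hg hg2 b hb
    refine hinv g hg hg2 _ (mul_mem hb (hnorm hb)) (mul_inv_eq_iff_eq_mul.1 ?_)
    have h1 : g * (g * b * g⁻¹) * g⁻¹ = b := by
      rw [show g * (g * b * g⁻¹) * g⁻¹ = (g * g) * b * (g * g)⁻¹ by group, hBc _ hg2 b hb,
        mul_inv_cancel_right]
    calc g * (b * (g * b * g⁻¹)) * g⁻¹ = (g * b * g⁻¹) * (g * (g * b * g⁻¹) * g⁻¹) := by group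
      _ = b * (g * b * g⁻¹) := by rw [h1, hBc _ (hnorm hb) b hb]
  set π := QuotientGroup.mk' B
  have hπ : ∀ {h : G}, π h = 1 ↔ h ∈ B := QuotientGroup.eq_one_iff _
  obtain ⟨P⟩ := (inferInstance : Nonempty (Sylow 2 G))
  set Pb := P.mapSurjective (f := π) (QuotientGroup.mk'_surjective B) with hPb
  have hPbmem : ∀ {y : G ⧸ B}, y ∈ (Pb : Subgroup (G ⧸ B)) ↔ ∃ p ∈ (P : Subgroup G), π p = y :=
    fun {y} => by rw [hPb, Sylow.coe_mapSurjective, Subgroup.mem_map]
  have hXns : ¬ Group.IsSolvable (G ⧸ B) := fun h =>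
    hG.ns (CfsgLib.Invol.MetacyclicTwo.solvable_of_extension B hBs h)
  have hncyc : ¬ IsCyclic (Pb : Subgroup (G ⧸ B)) := fun h =>
    hXns (isSolvable_of_cyclic_sylow Pb h)
  have hbot : (Pb : Subgroup (G ⧸ B)) ≠ ⊥ := fun h => hncyc (by rw [h]; infer_instance)
  -- a central involution of the image of `P`
  have : Nontrivial (Pb : Subgroup (G ⧸ B)) := (Subgroup.nontrivial_iff_ne_bot _).2 hbot
  have := (IsPGroup.center_nontrivial Pb.2 : Nontrivial (Subgroup.center (Pb : Subgroup (G ⧸ B))))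
  obtain ⟨n, hn0, hn⟩ := (Pb.2.to_subgroup _).nontrivial_iff_card.1 this
  obtain ⟨z, hz⟩ := exists_prime_orderOf_dvd_card'
    (G := Subgroup.center (Pb : Subgroup (G ⧸ B))) 2 (hn ▸ dvd_pow_self 2 hn0.ne')
  set zb : G ⧸ B := ((z : (Pb : Subgroup (G ⧸ B))) : G ⧸ B) with hzb
  have hzb2 : zb * zb = 1 := by
    have : z * z = 1 := by
      rw [← pow_two]
      exact orderOf_dvd_iff_pow_eq_one.1 (dvd_of_eq hz)
    rw [hzb, ← Subgroup.coe_mul, ← Subgroup.coe_mul, this]; rfl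
  have hzb1 : zb ≠ 1 := fun e => by
    rw [orderOf_eq_one_iff.2 (Subtype.ext (Subtype.ext e) : z = 1)] at hz
    exact absurd hz (by norm_num)
  have hzbP : zb ∈ (Pb : Subgroup (G ⧸ B)) := (z : (Pb : Subgroup (G ⧸ B))).2
  have hzbc : ∀ y ∈ (Pb : Subgroup (G ⧸ B)), y * zb = zb * y := fun y hy =>
    congrArg Subtype.val (Subgroup.mem_center_iff.1 z.2 ⟨y, hy⟩)
  obtain ⟨τ, hτP, hτ⟩ := hPbmem.1 hzbP
  have hτB : τ ∉ B := fun h => hzb1 (by rw [← hτ]; exact hπ.2 h)
  have hτ2 : τ * τ ∈ B := hπ.1 (by rw [map_mul, hτ, hzb2])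
  by_cases hone : ∀ y ∈ (Pb : Subgroup (G ⧸ B)), y * y = 1 → y = 1 ∨ y = zb
  · -- a unique involution
    have hex : ∃ y ∈ (Pb : Subgroup (G ⧸ B)), y * y ≠ 1 := by
      by_contra h
      push Not at h
      refine hncyc (isCyclic_of_surjective (Subgroup.inclusion
        (Subgroup.zpowers_le.2 hzbP : Subgroup.zpowers zb ≤ (Pb : Subgroup (G ⧸ B)))) ?_)
      rintro ⟨y, hy⟩
      rcases hone y hy (h y hy) with rfl | rfl
      · exact ⟨1, rfl⟩
      · exact ⟨⟨zb, Subgroup.mem_zpowers zb⟩, rfl⟩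
    -- every element outside `B` of `P` has a power in `τ B`
    have hpow : ∀ p ∈ (P : Subgroup G), p ∉ B → ∃ m : ℕ, π (p ^ m) = zb := by
      intro p hp hpB
      have hy : π p ∈ (Pb : Subgroup (G ⧸ B)) := hPbmem.2 ⟨p, hp, rfl⟩
      obtain ⟨k, hk⟩ := (IsPGroup.iff_orderOf.1 Pb.2) ⟨π p, hy⟩
      rw [← Subgroup.orderOf_coe] at hk
      rcases k with _ | k
      · exact absurd (hπ.1 (orderOf_eq_one_iff.1 hk)) hpB
      · refine ⟨2 ^ k, ?_⟩
        rw [map_pow]
        refine (hone _ (pow_mem hy _) ?_).resolve_left ?_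
        · rw [← pow_add, ← two_mul, ← pow_succ', ← hk, pow_orderOf_eq_one]
        · intro h
          have := Nat.le_of_dvd (by positivity) (orderOf_dvd_of_pow_eq_one h)
          rw [hk, pow_succ] at this
          have := Nat.two_pow_pos k
          omega
    obtain ⟨g, hgP, hg2, hg4⟩ : ∃ g ∈ (P : Subgroup G), g * g ∉ B ∧ g * g * (g * g) ∈ B := by
      obtain ⟨y, hy, hy2⟩ := hex
      obtain ⟨k, hk⟩ := (IsPGroup.iff_orderOf.1 Pb.2) ⟨y, hy⟩
      rw [← Subgroup.orderOf_coe] at hk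
      change orderOf y = _ at hk
      rcases k with _ | _ | k
      · exact absurd (by rw [orderOf_eq_one_iff.1 hk, mul_one]) hy2
      · exact absurd (by rw [← pow_two]; exact orderOf_dvd_iff_pow_eq_one.1 (dvd_of_eq hk)) hy2
      · obtain ⟨p, hp, hpy⟩ := hPbmem.1 hy
        refine ⟨p ^ 2 ^ k, pow_mem hp _, fun h => ?_, ?_⟩
        · have h1 : y ^ (2 ^ k + 2 ^ k) = 1 := by rw [pow_add, ← hpy, ← map_pow, ← map_mul]; exact hπ.2 h
          have := Nat.le_of_dvd (by positivity) (orderOf_dvd_of_pow_eq_one h1)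
          rw [hk, pow_succ, pow_succ] at this
          have := Nat.two_pow_pos k
          omega
        · refine hπ.1 ?_
          rw [map_mul, map_mul, map_pow, hpy, ← pow_add, ← pow_add,
            show 2 ^ k + 2 ^ k + (2 ^ k + 2 ^ k) = 2 ^ (k + 1 + 1) by ring, ← hk, pow_orderOf_eq_one]
    have hno : ∀ b ∈ B, b * b ∈ Subgroup.center G → b ∈ Subgroup.center G := fun b hb hb2 =>
      by_contra fun h => no_four hBc hinv hg2 hg4 hb h hb2
    -- the 2-elements of `B` are central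
    have hPB : ∀ p ∈ (P : Subgroup G), p ∈ B → p ∈ Subgroup.center G := by
      intro p hp hpB
      obtain ⟨k, hk⟩ := (IsPGroup.iff_orderOf.1 P.2) ⟨p, hp⟩
      rw [← Subgroup.orderOf_coe] at hk
      have : ∀ i, p ^ 2 ^ i ∈ Subgroup.center G → p ∈ Subgroup.center G := by
        intro i
        induction i with
        | zero => simp
        | succ i ih =>
          intro h
          refine ih (hno _ (pow_mem hpB _) ?_)
          rwa [← pow_add, ← two_mul, ← pow_succ']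
      exact this k (by rw [← hk, pow_orderOf_eq_one]; exact one_mem _)
    have hτc : ∀ p ∈ (P : Subgroup G), p * τ = τ * p := by
      intro p hp
      by_cases hpB : p ∈ B
      · exact (hZ (hPB p hp hpB) τ).symm
      · obtain ⟨m, hm⟩ := hpow p hp hpB
        have hc : (p ^ m)⁻¹ * τ ∈ Subgroup.center G := hPB _ (mul_mem (inv_mem (pow_mem hp _)) hτP)
          (hπ.1 (by rw [map_mul, map_inv, hm, hτ, inv_mul_cancel]))
        calc p * τ = p * p ^ m * ((p ^ m)⁻¹ * τ) := by group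
          _ = p ^ m * (p * ((p ^ m)⁻¹ * τ)) := by rw [← pow_succ', pow_succ]; group
          _ = p ^ m * (((p ^ m)⁻¹ * τ) * p) := by rw [hZ hc p]
          _ = τ * p := by group
    obtain ⟨a, ha, c, hc, hac⟩ : ∃ a ∈ (P : Subgroup G), ∃ c ∈ (P : Subgroup G), a * c ≠ c * a := by
      by_contra h
      push Not at h
      refine hncyc ?_
      refine CfsgLib.Recog.PGroupImprimitive.isCyclic_of_comm_unique Pb.2 (fun x y => ?_)
        fun X Y hX hY => ?_
      · obtain ⟨p, hp, hpx⟩ := hPbmem.1 x.2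
        obtain ⟨r, hr, hry⟩ := hPbmem.1 y.2
        exact Subtype.ext (by rw [Subgroup.coe_mul, Subgroup.coe_mul, ← hpx, ← hry, ← map_mul,
          ← map_mul, h p hp r hr])
      · have key : ∀ X : Subgroup (Pb : Subgroup (G ⧸ B)), Nat.card X = 2 →
            X = Subgroup.zpowers ⟨zb, hzbP⟩ := fun X hX => by
          obtain ⟨x, hx⟩ := exists_prime_orderOf_dvd_card' (G := X) 2 (by rw [hX])
          have hxz : ((x : (Pb : Subgroup (G ⧸ B))) : G ⧸ B) = zb := by
            refine (hone _ (x : (Pb : Subgroup (G ⧸ B))).2 ?_).resolve_left fun e => ?_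
            · rw [← Subgroup.coe_mul, ← Subgroup.coe_mul, ← pow_two,
                orderOf_dvd_iff_pow_eq_one.1 (dvd_of_eq hx)]
              rfl
            · rw [orderOf_eq_one_iff.2 (Subtype.ext (Subtype.ext e) : x = 1)] at hx
              exact absurd hx (by norm_num)
          refine (Subgroup.eq_of_le_of_card_ge (Subgroup.zpowers_le.2 ?_) ?_).symm
          · rw [← (Subtype.ext hxz : (x : (Pb : Subgroup (G ⧸ B))) = ⟨zb, hzbP⟩)]
            exact x.2
          · rw [Nat.card_zpowers, hX, ← Subgroup.orderOf_coe, Subtype.coe_mk, ← hxz,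
              Subgroup.orderOf_coe, Subgroup.orderOf_coe, hx]
        rw [key X hX, key Y hY]
    set H := (Pb : Subgroup (G ⧸ B)).comap π with hH
    have hHne : H ≠ ⊤ := by
      have := Pb.2.isNilpotent
      exact hG.ne_top_of_solvable (isSolvable_comap hBs inferInstance)
    have hPH : ∀ p ∈ (P : Subgroup G), p ∈ H := fun p hp => hPbmem.2 ⟨p, hp, rfl⟩
    have hτb := hG.central_of hHne (hPH τ hτP) (hPH a ha) (hPH c hc) (hτc a ha) (hτc c hc) hac
      b₀ (QuotientGroup.le_comap_mk' _ _ hb₀)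
    exact hb₀Z (hinv τ hτB hτ2 b₀ hb₀ hτb.symm)
  · -- a four-group
    push Not at hone
    obtain ⟨w, hwP, hw2, hw1, hwz⟩ := hone
    obtain ⟨g, hgP, hg⟩ := hPbmem.1 hwP
    have hgB : g ∉ B := fun h => hw1 (by rw [← hg]; exact hπ.2 h)
    have hg2 : g * g ∈ B := hπ.1 (by rw [map_mul, hg, hw2])
    have hkB : g * τ ∉ B := fun h => hwz (by
      have h1 : w * zb = 1 := by rw [← hg, ← hτ, ← map_mul]; exact hπ.2 h
      rw [eq_inv_of_mul_eq_one_left h1, inv_eq_of_mul_eq_one_right hzb2])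
    have hk2 : g * τ * (g * τ) ∈ B := hπ.1 (by
      rw [map_mul, map_mul, hg, hτ, mul_assoc, ← mul_assoc zb, ← hzbc w hwP,
        mul_assoc w zb zb, hzb2, mul_one, hw2])
    have hsq : ∀ b ∈ B, b * b ∈ Subgroup.center G := by
      intro b hb
      have h1 := hσ τ hτB hτ2 b hb
      have h2 := hσ g hgB hg2 b hb
      have h3 := hσ (g * τ) hkB hk2 b hb
      set z₁ := b * (τ * b * τ⁻¹)
      set z₂ := b * (g * b * g⁻¹)
      set z₃ := b * (g * τ * b * (g * τ)⁻¹) with hz₃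
      have e : g * τ * b * (g * τ)⁻¹ = z₁ * z₂⁻¹ * b := by
        calc g * τ * b * (g * τ)⁻¹ = g * (b⁻¹ * z₁) * g⁻¹ := by simp only [z₁]; group
          _ = (g * b * g⁻¹)⁻¹ * (g * z₁ * g⁻¹) := by group
          _ = (g * b * g⁻¹)⁻¹ * z₁ := by rw [hZ h1 g, mul_inv_cancel_right]
          _ = z₂⁻¹ * b * z₁ := by simp only [z₂]; group
          _ = z₁ * z₂⁻¹ * b := by rw [hZ h1]; group
      have h4 : z₁ * z₂⁻¹ ∈ Subgroup.center G := mul_mem h1 (inv_mem h2)
      have e2 : b * b = z₃ * (z₁ * z₂⁻¹)⁻¹ := by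
        rw [hz₃, e, ← mul_assoc, hZ h4 b, mul_assoc (z₁ * z₂⁻¹), hZ (inv_mem h4)]
        group
      rw [e2]
      exact mul_mem h3 (inv_mem h4)
    have hS : ∀ g, g * g ∈ B → ∀ b ∈ B, g * b * g⁻¹ * b⁻¹ ∈ Subgroup.center G := by
      intro g hg2 b hb
      by_cases hgB : g ∈ B
      · rw [hBc g hgB b hb, mul_inv_cancel_right, mul_inv_cancel]; exact one_mem _
      · have h := hσ g hgB hg2 b hb
        rw [show g * b * g⁻¹ * b⁻¹ = b⁻¹ * (b * (g * b * g⁻¹)) * b⁻¹ by group, hZ h b⁻¹,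
          mul_assoc, show b⁻¹ * b⁻¹ = (b * b)⁻¹ by group]
        exact mul_mem h (inv_mem (hsq b hb))
    have hexp : ∀ p ∈ (P : Subgroup G), p * p ∈ B := by
      intro p hp
      by_contra hp2
      obtain ⟨k, hk⟩ := (IsPGroup.iff_orderOf.1 Pb.2) ⟨π p, hPbmem.2 ⟨p, hp, rfl⟩⟩
      rw [← Subgroup.orderOf_coe] at hk
      change orderOf (π p) = _ at hk
      rcases k with _ | _ | k
      · exact hp2 (hπ.1 (by rw [map_mul, orderOf_eq_one_iff.1 hk, mul_one]))
      · exact hp2 (hπ.1 (by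
          rw [map_mul, ← pow_two]
          exact orderOf_dvd_iff_pow_eq_one.1 (dvd_of_eq hk)))
      · refine no_four hBc hinv (g := p ^ 2 ^ k) (fun h => ?_) (hπ.1 ?_) hb₀ hb₀Z (hsq b₀ hb₀)
        · have h1 : π p ^ (2 ^ k + 2 ^ k) = 1 := by rw [pow_add, ← map_pow, ← map_mul]; exact hπ.2 h
          have := Nat.le_of_dvd (by positivity) (orderOf_dvd_of_pow_eq_one h1)
          rw [hk, pow_succ, pow_succ] at this
          have := Nat.two_pow_pos k
          omega
        · rw [map_mul, map_mul, map_pow, ← pow_add, ← pow_add,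
            show 2 ^ k + 2 ^ k + (2 ^ k + 2 ^ k) = 2 ^ (k + 1 + 1) by ring, ← hk, pow_orderOf_eq_one]
    let S : Subgroup G :=
      { carrier := {g | ∀ b ∈ B, g * b * g⁻¹ * b⁻¹ ∈ Subgroup.center G}
        one_mem' := fun b _ => by simp [one_mem]
        mul_mem' := fun {g h} hg hh b hb => by
          have := mul_mem (hg _ (hnorm (h := h) hb)) (hh b hb)
          rwa [show g * (h * b * h⁻¹) * g⁻¹ * (h * b * h⁻¹)⁻¹ * (h * b * h⁻¹ * b⁻¹) =
            g * h * b * (g * h)⁻¹ * b⁻¹ by group] at this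
        inv_mem' := fun {g} hg b hb => by
          have := inv_mem (hg _ (hnorm (h := g⁻¹) hb))
          rwa [show (g * (g⁻¹ * b * g⁻¹⁻¹) * g⁻¹ * (g⁻¹ * b * g⁻¹⁻¹)⁻¹)⁻¹ =
            g⁻¹ * b * g⁻¹⁻¹ * b⁻¹ by group] at this }
    have : S.Normal := ⟨fun s hs x b hb => by
      have := Subgroup.Normal.conj_mem (inferInstance : (Subgroup.center G).Normal) _
        (hs _ (hnorm (h := x⁻¹) hb)) x
      rwa [show x * (s * (x⁻¹ * b * x⁻¹⁻¹) * s⁻¹ * (x⁻¹ * b * x⁻¹⁻¹)⁻¹) * x⁻¹ =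
        x * s * x⁻¹ * b * (x * s * x⁻¹)⁻¹ * b⁻¹ by group] at this⟩
    have hcomm : ∀ g ∈ S, ∀ h ∈ S, g * h * g⁻¹ * h⁻¹ ∈ B := by
      intro g hg h hh
      refine hCB _ fun b hb => ?_
      have hgh : g * h * b * (g * h)⁻¹ = h * g * b * (h * g)⁻¹ := by
        have e1 : ∀ g h : G, g ∈ S → h ∈ S → g * h * b * (g * h)⁻¹ =
            (h * b * h⁻¹ * b⁻¹) * (g * b * g⁻¹ * b⁻¹) * b := fun g h hg hh => by
          have := hZ (hh b hb) g
          calc g * h * b * (g * h)⁻¹ = g * ((h * b * h⁻¹ * b⁻¹) * b) * g⁻¹ := by group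
            _ = (g * (h * b * h⁻¹ * b⁻¹)) * b * g⁻¹ := by group
            _ = (h * b * h⁻¹ * b⁻¹) * (g * b * g⁻¹ * b⁻¹) * b := by rw [this]; group
        rw [e1 g h hg hh, e1 h g hh hg, hZ (hg b hb) (h * b * h⁻¹ * b⁻¹)]
      have h0 : (h * g)⁻¹ * (g * h) * b * ((h * g)⁻¹ * (g * h))⁻¹ = b := by
        calc _ = (h * g)⁻¹ * (g * h * b * (g * h)⁻¹) * (h * g) := by group
          _ = b := by rw [hgh]; group
      -- conjugate the last identity by `h g`
      have h5 : g * h * g⁻¹ * h⁻¹ * (h * g * b * (h * g)⁻¹) * (g * h * g⁻¹ * h⁻¹)⁻¹ =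
          h * g * b * (h * g)⁻¹ := by
        conv_lhs => rw [show g * h * g⁻¹ * h⁻¹ * (h * g * b * (h * g)⁻¹) * (g * h * g⁻¹ * h⁻¹)⁻¹
          = g * h * b * (g * h)⁻¹ by group, hgh]
      have h6 : ∀ b' ∈ B, g * h * g⁻¹ * h⁻¹ * b' * (g * h * g⁻¹ * h⁻¹)⁻¹ * b'⁻¹ ∈
          Subgroup.center G := mul_mem (mul_mem (mul_mem hg hh) (inv_mem hg)) (inv_mem hh)
      have h7 := hZ (hh b hb)
      have h8 := hZ (hg b hb)
      refine mul_inv_eq_iff_eq_mul.1 ?_
      have e3 : h * g * b * (h * g)⁻¹ = (g * b * g⁻¹ * b⁻¹) * (h * b * h⁻¹ * b⁻¹) * b := by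
        calc h * g * b * (h * g)⁻¹ = h * ((g * b * g⁻¹ * b⁻¹) * b) * h⁻¹ := by group
          _ = (h * (g * b * g⁻¹ * b⁻¹)) * b * h⁻¹ := by group
          _ = _ := by rw [h8 h]; group
      rw [e3] at h5
      set c := g * h * g⁻¹ * h⁻¹
      set u := (g * b * g⁻¹ * b⁻¹) * (h * b * h⁻¹ * b⁻¹)
      have hu : u ∈ Subgroup.center G := mul_mem (hg b hb) (hh b hb)
      rw [show c * (u * b) * c⁻¹ = (c * u) * b * c⁻¹ by group, hZ hu c,
        show u * c * b * c⁻¹ = u * (c * b * c⁻¹) by group] at h5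
      exact mul_left_cancel h5
    have hSs : Group.IsSolvable S := by
      have : Group.IsSolvable (S ⧸ B.subgroupOf S) := Group.isSolvable_of_comm fun x y => by
        induction x using QuotientGroup.induction_on with
        | H x =>
          induction y using QuotientGroup.induction_on with
          | H y =>
            refine (QuotientGroup.eq).2 (Subgroup.mem_subgroupOf.2 ?_)
            have := hcomm _ (inv_mem y.2) _ (inv_mem x.2)
            simp only [Subgroup.coe_mul, Subgroup.coe_inv]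
            convert this using 1
            group
      refine Group.isSolvable_of_ker_le_range (G' := B)
        (Subgroup.inclusion (H := B) (K := S) fun y hy b hb => by
          rw [hBc y hy b hb, mul_inv_cancel_right, mul_inv_cancel]; exact one_mem _)
        (QuotientGroup.mk' (B.subgroupOf S)) ?_
      rw [QuotientGroup.ker_mk']
      intro y hy
      exact ⟨⟨y, Subgroup.mem_subgroupOf.1 hy⟩, Subtype.ext rfl⟩
    refine hG.ns (isSolvable_of_odd_index (N := S) hSs fun h2 => P.not_dvd_index ?_)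
    exact h2.trans (Subgroup.index_dvd_of_le fun p hp => hS p (hexp p hp))

end Main

/-- **Abelian normal subgroups are central.** -/
theorem Hyp.abelian_le_center (hG : Hyp G) (A : Subgroup G) [A.Normal]
    (hA : ∀ a ∈ A, ∀ b ∈ A, a * b = b * a) : A ≤ Subgroup.center G := by
  by_contra hne
  set B := Subgroup.centralizer (A : Set G) with hB
  have hAB : A ≤ B := fun a ha => Subgroup.mem_centralizer_iff.2 fun b hb => hA b hb a ha
  refine hG.quot_facts (B := B) (hG.centralizer_comm A hA hne) (fun c hc => ?_)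
    fun h => hne (hAB.trans h)
  exact Subgroup.mem_centralizer_iff.2 fun a ha => (hc a (hAB ha)).symm

end CfsgLib.Recog.NonCA
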