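import Cfsg.Agent.Lib.Recog.NonCA.Defs

/-!
First properties: centralisers of bad elements are self-normalising maximal subgroups.
-/

set_option autoImplicit false

namespace CfsgLib.Recog.NonCA

universe u v

variable {G : Type u} [Group G]

local notation "cen(" x ")" => Subgroup.centralizer ({x} : Set G)

theorem mem_cen {x g : G} : g ∈ cen(x) ↔ g * x = x * g :=
  Subgroup.mem_centralizer_singleton_iff

theorem mem_center {x : G} : x ∈ Subgroup.center G ↔ ∀ g : G, g * x = x * g :=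
  Subgroup.mem_center_iff

theorem cen_eq_top {x : G} : cen(x) = ⊤ ↔ x ∈ Subgroup.center G := by
  rw [eq_top_iff, mem_center]
  exact ⟨fun h g => mem_cen.1 (h (Subgroup.mem_top g)), fun h g _ => mem_cen.2 (h g)⟩

theorem self_mem_cen (x : G) : x ∈ cen(x) := mem_cen.2 rfl

theorem comm_iff {H : Subgroup G} :
    IsMulCommutative H ↔ ∀ a ∈ H, ∀ b ∈ H, a * b = b * a := by
  constructor
  · intro h a ha b hb
    exact congrArg Subtype.val (h.is_comm.comm ⟨a, ha⟩ ⟨b, hb⟩)
  · intro h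
    exact ⟨⟨fun a b => Subtype.ext (h a a.2 b b.2)⟩⟩

theorem exists_noncomm {H : Subgroup G} (h : ¬ IsMulCommutative H) :
    ∃ a ∈ H, ∃ b ∈ H, a * b ≠ b * a := by
  simpa [comm_iff] using h

theorem commute_of_not_bad {x a b : G} (h : ¬ Bad x) (hx : x ∉ Subgroup.center G)
    (ha : a * x = x * a) (hb : b * x = x * b) : a * b = b * a :=
  comm_iff.1 (not_not.1 fun hc => h ⟨hx, hc⟩) a (mem_cen.2 ha) b (mem_cen.2 hb)

theorem IsCA.not_bad (h : IsCA G) (x : G) : ¬ Bad x := fun hb => hb.2 (h x hb.1)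

theorem isCA_iff : IsCA G ↔ ∀ x : G, ¬ Bad x :=
  ⟨fun h => h.not_bad, fun h x hx => not_not.1 fun hc => h x ⟨hx, hc⟩⟩

/-- In a CA-subgroup `H`, an element centralising two non-commuting elements is central. -/
theorem central_of_isCA {H : Subgroup G} (hH : IsCA H) {x a b : G} (hx : x ∈ H) (ha : a ∈ H)
    (hb : b ∈ H) (hax : a * x = x * a) (hbx : b * x = x * b) (hab : a * b ≠ b * a) :
    ∀ h ∈ H, h * x = x * h := by
  intro h hh
  by_contra hne
  have hnc : (⟨x, hx⟩ : H) ∉ Subgroup.center H := fun hc =>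
    hne (congrArg Subtype.val (Subgroup.mem_center_iff.1 hc ⟨h, hh⟩))
  refine hab (congrArg Subtype.val ((hH _ hnc).is_comm.comm
    ⟨⟨a, ha⟩, Subgroup.mem_centralizer_singleton_iff.2 (Subtype.ext hax)⟩
    ⟨⟨b, hb⟩, Subgroup.mem_centralizer_singleton_iff.2 (Subtype.ext hbx)⟩) |> fun e =>
      congrArg Subtype.val e)

theorem Hyp.central_of (hG : Hyp G) {H : Subgroup G} (hH : H ≠ ⊤) {x a b : G} (hx : x ∈ H)
    (ha : a ∈ H) (hb : b ∈ H) (hax : a * x = x * a) (hbx : b * x = x * b)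
    (hab : a * b ≠ b * a) : ∀ h ∈ H, h * x = x * h :=
  central_of_isCA (hG.sub H hH) hx ha hb hax hbx hab

/-- In a proper subgroup, the centraliser of a non-central element is abelian. -/
theorem Hyp.commute_of (hG : Hyp G) {H : Subgroup G} (hH : H ≠ ⊤) {x a b h : G} (hx : x ∈ H)
    (ha : a ∈ H) (hb : b ∈ H) (hh : h ∈ H) (hax : a * x = x * a) (hbx : b * x = x * b)
    (hhx : h * x ≠ x * h) : a * b = b * a := by
  by_contra hab
  exact hhx (hG.central_of hH hx ha hb hax hbx hab h hh)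

theorem IsCA.subgroup (h : IsCA G) (H : Subgroup G) : IsCA H := by
  intro x hx
  have hx' : (x : G) ∉ Subgroup.center G := fun hc => hx (Subgroup.mem_center_iff.2 fun g =>
    Subtype.ext (mem_center.1 hc g))
  refine ⟨⟨fun a b => Subtype.ext (Subtype.ext ?_)⟩⟩
  exact commute_of_not_bad (h.not_bad _) hx'
    (congrArg Subtype.val (Subgroup.mem_centralizer_singleton_iff.1 a.2))
    (congrArg Subtype.val (Subgroup.mem_centralizer_singleton_iff.1 b.2))

theorem IsCA.of_equiv {G' : Type v} [Group G'] (e : G' ≃* G) (h : IsCA G) : IsCA G' := by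
  intro x hx
  have hx' : e x ∉ Subgroup.center G := fun hc => hx (Subgroup.mem_center_iff.2 fun g =>
    e.injective (by rw [map_mul, map_mul]; exact mem_center.1 hc (e g)))
  refine ⟨⟨fun a b => Subtype.ext (e.injective ?_)⟩⟩
  simp only [Subgroup.coe_mul, map_mul]
  refine commute_of_not_bad (h.not_bad _) hx' ?_ ?_ <;> rw [← map_mul, ← map_mul]
  · rw [Subgroup.mem_centralizer_singleton_iff.1 a.2]
  · rw [Subgroup.mem_centralizer_singleton_iff.1 b.2]

theorem IsCA.hyp (h : IsCA G) (hns : ¬ Group.IsSolvable G) : Hyp G :=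
  ⟨hns, fun H _ => h.subgroup H⟩

theorem Hyp.subgroup (hG : Hyp G) {H : Subgroup G} (hH : ¬ Group.IsSolvable H) : Hyp H := by
  by_cases ht : H = ⊤
  · subst ht
    refine ⟨hH, fun K hK => ?_⟩
    have hne : K.map (⊤ : Subgroup G).subtype ≠ ⊤ := by
      intro e
      apply hK
      rw [eq_top_iff]
      intro k _
      have hk : (k : G) ∈ K.map (⊤ : Subgroup G).subtype := by rw [e]; trivial
      obtain ⟨k', hk', he⟩ := Subgroup.mem_map.1 hk
      rwa [show k = k' from Subtype.ext he.symm]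
    exact (hG.sub _ hne).of_equiv
      (K.equivMapOfInjective _ (⊤ : Subgroup G).subtype_injective)
  · exact (hG.sub H ht).hyp hH



theorem Bad.ne_top {x : G} (hx : Bad x) : cen(x) ≠ ⊤ := fun h => hx.1 (cen_eq_top.1 h)

theorem Bad.le_cen {x : G} (hG : Hyp G) (hx : Bad x) {H : Subgroup G} (hH : H ≠ ⊤)
    (hle : cen(x) ≤ H) : H ≤ cen(x) := by
  obtain ⟨a, ha, b, hb, hab⟩ := exists_noncomm hx.2
  exact fun h hh => mem_cen.2 (hG.central_of hH (hle (self_mem_cen x)) (hle ha) (hle hb)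
    (mem_cen.1 ha) (mem_cen.1 hb) hab h hh)

theorem Bad.eq_of_mem {x : G} (hG : Hyp G) (hx : Bad x) {y : G} (hy : y ∉ Subgroup.center G)
    (h : ∀ c ∈ cen(x), c * y = y * c) : cen(y) = cen(x) :=
  le_antisymm (hx.le_cen hG (fun e => hy (cen_eq_top.1 e)) fun c hc => mem_cen.2 (h c hc))
    fun c hc => mem_cen.2 (h c hc)

/-- An element centralising two non-commuting elements of `C(x)`, with `x` in its centraliser,
has the same centraliser. -/
theorem Bad.eq_of_noncomm {x y a b : G} (hG : Hyp G) (hx : Bad x) (hy : y ∉ Subgroup.center G)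
    (hxy : x * y = y * x) (hay : a * y = y * a) (hby : b * y = y * b) (hax : a * x = x * a)
    (hbx : b * x = x * b) (hab : a * b ≠ b * a) : cen(x) = cen(y) := by
  have hby' : Bad y := ⟨hy, fun h => hab (comm_iff.1 h a (mem_cen.2 hay) b (mem_cen.2 hby))⟩
  have h1 : cen(y) ≤ cen(x) := fun c hc => mem_cen.2 (hG.central_of hby'.ne_top
    (mem_cen.2 hxy) (mem_cen.2 hay) (mem_cen.2 hby) hax hbx hab c hc)
  exact le_antisymm (hby'.le_cen hG hx.ne_top h1) h1

theorem cen_conj (g x : G) : cen(g * x * g⁻¹) = (cen(x)).map (MulAut.conj g).toMonoidHom := by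
  ext c
  rw [Subgroup.mem_map]
  constructor
  · intro hc
    refine ⟨g⁻¹ * c * g, mem_cen.2 ?_, by simp [MulAut.conj_apply, mul_assoc]⟩
    have h := mem_cen.1 hc
    calc g⁻¹ * c * g * x = g⁻¹ * (c * (g * x * g⁻¹)) * g := by group
      _ = g⁻¹ * ((g * x * g⁻¹) * c) * g := by rw [h]
      _ = x * (g⁻¹ * c * g) := by group
  · rintro ⟨d, hd, rfl⟩
    refine mem_cen.2 ?_
    simp only [MulEquiv.coe_toMonoidHom, MulAut.conj_apply]
    have h := mem_cen.1 hd
    calc g * d * g⁻¹ * (g * x * g⁻¹) = g * (d * x) * g⁻¹ := by group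
      _ = g * (x * d) * g⁻¹ := by rw [h]
      _ = g * x * g⁻¹ * (g * d * g⁻¹) := by group

theorem conj_notMem_center {g x : G} (hx : x ∉ Subgroup.center G) :
    g * x * g⁻¹ ∉ Subgroup.center G := fun h => hx <| by
  have := Subgroup.Normal.conj_mem (inferInstance : (Subgroup.center G).Normal) _ h g⁻¹
  simpa [mul_assoc] using this

theorem Bad.conj {x : G} (hx : Bad x) (g : G) : Bad (g * x * g⁻¹) := by
  refine ⟨conj_notMem_center hx.1, fun h => hx.2 ?_⟩
  rw [cen_conj] at h
  rw [comm_iff] at h ⊢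
  intro a ha b hb
  have := h _ (Subgroup.mem_map_of_mem _ ha) _ (Subgroup.mem_map_of_mem _ hb)
  simpa [← map_mul] using this

end CfsgLib.Recog.NonCA
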