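import Cfsg.Agent.Lib.Recog.NonCA.PSLCover
import Cfsg.Agent.Lib.KnownC.AutPSLMain
import Cfsg.Agent.Lib.KnownC.AutPSLOut
import Cfsg.Agent.Lib.Classical.SLTwoCent

/-!
Unipotent elements of `PSL(2,q)`: centralisers, automorphisms fixing the unipotent subgroup, and
the abelian preimage in characteristic two.
-/

set_option autoImplicit false
set_option linter.style.haveILetI false
set_option linter.unusedSectionVars false

namespace CfsgLib.Recog.NonCA

open Matrix CfsgLib.Geom
open scoped commutatorElement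

universe u

variable {F : Type} [Field F]

local notation "S" => ProjectiveSpecialLinearGroup (Fin 2) F
local notation "SL2" => Matrix.SpecialLinearGroup (Fin 2) F

theorem uSL_val (c : F) : (uSL c).1 = !![1, c; 0, 1] := rfl

/-- A commuting pair in `PSL(2,q)` lifts to matrices commuting up to a sign. -/
theorem lift_comm_cases {A B : SL2}
    (h : (QuotientGroup.mk A : S) * QuotientGroup.mk B = QuotientGroup.mk B * QuotientGroup.mk A) :
    A.1 * B.1 = B.1 * A.1 ∨ A.1 * B.1 = -(B.1 * A.1) := by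
  rw [← QuotientGroup.mk_mul, ← QuotientGroup.mk_mul, eq_comm, QuotientGroup.eq] at h
  have e := congrArg Subtype.val (mul_inv_cancel_left (B * A) (A * B))
  rw [Matrix.SpecialLinearGroup.coe_mul] at e
  rcases CfsgLib.InvChar.PSLFour.coe_center_sl h with h | h <;> rw [h] at e
  · left; simpa using e.symm
  · right; simpa using e.symm

theorem mk_uSL_of_shape {X : SL2} {a : F} (h00 : X.1 0 0 = a) (h10 : X.1 1 0 = 0)
    (h11 : X.1 1 1 = a) : (QuotientGroup.mk X : S) ∈ uGrp F := by
  have hd : X.1 0 0 * X.1 1 1 - X.1 0 1 * X.1 1 0 = 1 := by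
    rw [← Matrix.det_fin_two]; exact X.2
  rw [h00, h10, h11, mul_zero, sub_zero] at hd
  refine ⟨a * X.1 0 1, ?_⟩
  rw [uP, QuotientGroup.eq, Subgroup.mem_center_iff]
  intro g
  have hv : ((uSL (a * X.1 0 1))⁻¹ * X).1 = a • (1 : Matrix (Fin 2) (Fin 2) F) := by
    have e : X.1 = (uSL (a * X.1 0 1)).1 * (a • (1 : Matrix (Fin 2) (Fin 2) F)) := by
      ext i j
      fin_cases i <;> fin_cases j <;>
        simp [uSL_val, h00, h10, h11, Matrix.mul_apply, Fin.sum_univ_two]
      linear_combination -(X.1 0 1) * hd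
    calc ((uSL (a * X.1 0 1))⁻¹ * X).1
        = ((uSL (a * X.1 0 1))⁻¹).1 * X.1 := Matrix.SpecialLinearGroup.coe_mul _ _
      _ = ((uSL (a * X.1 0 1))⁻¹).1 * ((uSL (a * X.1 0 1)).1 * (a • 1)) := congrArg _ e
      _ = ((uSL (a * X.1 0 1))⁻¹ * uSL (a * X.1 0 1)).1 * (a • 1) := by
          rw [Matrix.SpecialLinearGroup.coe_mul, mul_assoc]
      _ = a • 1 := by rw [inv_mul_cancel, Matrix.SpecialLinearGroup.coe_one, one_mul]
  refine Subtype.ext ?_
  show g.1 * ((uSL (a * X.1 0 1))⁻¹ * X).1 = ((uSL (a * X.1 0 1))⁻¹ * X).1 * g.1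
  rw [hv, mul_smul_one, smul_one_mul]

/-- The centraliser of a unipotent element. -/
theorem mem_uGrp_of_comm {c : F} (hc : c ≠ 0) {x : S} (h : x * uP c = uP c * x) : x ∈ uGrp F := by
  obtain ⟨X, rfl⟩ := QuotientGroup.mk_surjective x
  have hd : X.1 0 0 * X.1 1 1 - X.1 0 1 * X.1 1 0 = 1 := by
    rw [← Matrix.det_fin_two]; exact X.2
  have key : X.1 1 0 = 0 ∧ X.1 0 0 = X.1 1 1 := by
    rcases lift_comm_cases h with e | e <;>
      · have e00 := congrFun (congrFun e 0) 0
        have e01 := congrFun (congrFun e 0) 1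
        have e10 := congrFun (congrFun e 1) 0
        simp only [Matrix.neg_apply, Matrix.mul_apply, Fin.sum_univ_two] at e00 e01 e10
        simp [uSL_val] at e00 e01 e10
        by_cases h2 : (2 : F) = 0
        · refine ⟨(mul_eq_zero.1 (show c * X.1 1 0 = 0 by grind)).resolve_left hc, ?_⟩
          exact sub_eq_zero.1 ((mul_eq_zero.1
            (show c * (X.1 0 0 - X.1 1 1) = 0 by grind)).resolve_left hc)
        · grind
  exact mk_uSL_of_shape rfl key.1 key.2.symm

variable [Fintype F]

/-- An element which is not an involution centralises at most one involution. -/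
theorem involution_unique {x w w' : S} (hx : x * x ≠ 1) (hw : w * w = 1) (hw1 : w ≠ 1)
    (hw' : w' * w' = 1) (hw1' : w' ≠ 1) (h : w * x = x * w) (h' : w' * x = x * w') : w = w' := by
  by_contra hne
  have hx1 : x ≠ 1 := fun e => hx (by rw [e, one_mul])
  have hcomm : w * w' = w' * w := psl_comm_of hx1 (Or.inl hx) h h'
  by_cases h2 : (2 : F) = 0
  · obtain ⟨W, rfl⟩ := QuotientGroup.mk_surjective w
    obtain ⟨X, rfl⟩ := QuotientGroup.mk_surjective x
    have hscal : ∀ {Y : SL2}, Y.1 = 1 ∨ Y.1 = -1 → (QuotientGroup.mk Y : S) = 1 := by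
      rintro Y (e | e)
      · exact CfsgLib.InvChar.PSLFour.mk_eq_one (c := 1) (by rw [e, one_smul])
      · exact CfsgLib.InvChar.PSLFour.mk_eq_one (c := -1) (by rw [e, neg_smul, one_smul])
    have hsign : ∀ M : Matrix (Fin 2) (Fin 2) F, -M = M := fun M => by
      ext i j
      rw [Matrix.neg_apply]
      linear_combination -(M i j) * h2
    have hW : W.1 * W.1 = 1 := by
      rw [← QuotientGroup.mk_mul, QuotientGroup.eq_one_iff] at hw
      rcases CfsgLib.InvChar.PSLFour.coe_center_sl hw with e | e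
      · rwa [Matrix.SpecialLinearGroup.coe_mul] at e
      · rw [Matrix.SpecialLinearGroup.coe_mul, hsign] at e; exact e
    have hXW : Commute X W := by
      refine Subtype.ext ?_
      rw [Matrix.SpecialLinearGroup.coe_mul, Matrix.SpecialLinearGroup.coe_mul]
      rcases lift_comm_cases h.symm with e | e
      · exact e
      · rwa [hsign] at e
    obtain ⟨a, b, hab⟩ := CfsgLib.Classical.exists_coeff_of_commute
      (fun hs => hw1 (hscal (CfsgLib.Classical.isScalarSL_cases hs))) hXW
    have hXX : (X * X).1 = (a * a + b * b) • (1 : Matrix (Fin 2) (Fin 2) F) := by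
      have e : ∀ i j, (W.1 * W.1) i j = (1 : Matrix (Fin 2) (Fin 2) F) i j := fun i j => by rw [hW]
      rw [Matrix.SpecialLinearGroup.coe_mul, hab]
      ext i j
      have := e i j
      fin_cases i <;> fin_cases j <;>
        simp [Matrix.mul_apply, Fin.sum_univ_two] at this ⊢ <;> grind
    exact hx (by rw [← QuotientGroup.mk_mul]; exact CfsgLib.InvChar.PSLFour.mk_eq_one hXX)
  · have key := CfsgLib.InvChar.PSLFour.centralizer_four h2 w w' x hw hw1 hw' hw1' hne hcomm
      h.symm h'.symm
    have hp : w * w' * (w * w') = 1 := by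
      calc w * w' * (w * w') = w * (w' * w) * w' := by group
        _ = w * (w * w') * w' := by rw [hcomm]
        _ = (w * w) * (w' * w') := by group
        _ = 1 := by rw [hw, hw', one_mul]
    rcases key with e | e | e | e <;> subst e
    · exact hx (one_mul 1)
    · exact hx hw
    · exact hx hw'
    · exact hx hp

/-- An automorphism fixing the unipotent subgroup pointwise is inner. -/
theorem aut_fix_uGrp (β : MulAut S) (h : ∀ c : F, β (uP c) = uP c) :
    ∃ v : S, β = MulAut.conj v := by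
  rcases CfsgLib.KnownC.mulAut_psl_cases (le_refl 2) β with ⟨g, σ, rfl⟩ | ⟨h3, -⟩
  swap
  · omega
  have hb : ∀ c : F, g.1 * (uSL (σ c)).1 = (uSL c).1 * g.1 ∨
      g.1 * (uSL (σ c)).1 = -((uSL c).1 * g.1) := by
    intro c
    have h0 := h c
    rw [uP, CfsgLib.KnownC.semiAut_mk, eq_comm, QuotientGroup.eq] at h0
    have hY : (CfsgLib.KnownC.slConj g (CfsgLib.KnownC.slField σ (uSL c))).1 =
        g.1 * (uSL (σ c)).1 * (g⁻¹).1 := by
      rw [CfsgLib.KnownC.slConj_coe, CfsgLib.KnownC.slField_coe]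
      congr 2
      ext i j
      fin_cases i <;> fin_cases j <;> simp [uSL_val]
    have e := congrArg Subtype.val (mul_inv_cancel_left (uSL c)
      (CfsgLib.KnownC.slConj g (CfsgLib.KnownC.slField σ (uSL c))))
    rw [Matrix.SpecialLinearGroup.coe_mul, hY] at e
    rcases CfsgLib.InvChar.PSLFour.coe_center_sl h0 with h1 | h1 <;> rw [h1] at e
    · left
      rw [mul_one] at e
      rw [e, mul_assoc, Units.inv_mul, mul_one]
    · right
      rw [mul_neg, mul_one] at e
      rw [← neg_mul, e, mul_assoc, Units.inv_mul, mul_one]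
  have hdet : g.1 0 0 * g.1 1 1 - g.1 0 1 * g.1 1 0 ≠ 0 := by
    rw [← Matrix.det_fin_two]
    exact ((Matrix.isUnit_iff_isUnit_det g.1).1 g.isUnit).ne_zero
  have key : g.1 1 0 = 0 ∧ g.1 0 0 = g.1 1 1 := by
    have h1 := hb 1
    rw [map_one] at h1
    rcases h1 with e | e <;>
      have e00 := congrFun (congrFun e 0) 0 <;>
      have e01 := congrFun (congrFun e 0) 1 <;>
      have e10 := congrFun (congrFun e 1) 0 <;>
      simp only [Matrix.neg_apply, Matrix.mul_apply, Fin.sum_univ_two] at e00 e01 e10 <;>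
      simp [uSL_val] at e00 e01 e10
    · exact ⟨e00, by linear_combination e01⟩
    · by_cases h2 : (2 : F) = 0
      · have h10 : g.1 1 0 = 0 := by linear_combination e00 - g.1 0 0 * h2
        refine ⟨h10, ?_⟩
        linear_combination e01 - g.1 0 1 * h2 - g.1 1 1 * h2
      · have h10 : g.1 1 0 = 0 := by
          have h20 : 2 * g.1 1 0 = 0 := by linear_combination e10
          exact (mul_eq_zero.1 h20).resolve_left h2
        have h00 : 2 * g.1 0 0 = 0 := by linear_combination e00 - h10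
        refine absurd ?_ hdet
        rw [(mul_eq_zero.1 h00).resolve_left h2, h10]
        ring
  have hne : g.1 0 0 ≠ 0 := fun e => hdet (by rw [e, key.1]; ring)
  have hσ : σ = RingEquiv.refl F := by
    ext c
    show σ c = c
    rcases hb c with e | e <;>
      · have e00 := congrFun (congrFun e 0) 0
        have e01 := congrFun (congrFun e 0) 1
        simp only [Matrix.neg_apply, Matrix.mul_apply, Fin.sum_univ_two] at e00 e01
        simp [uSL_val, key.1, ← key.2] at e00 e01
        grind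
  subst hσ
  refine ⟨uP (g.1 0 1 / g.1 0 0), ?_⟩
  rw [uP, CfsgLib.KnownC.conj_eq_semiAut, CfsgLib.KnownC.semiAut_eq_iff (le_refl 2)]
  refine ⟨rfl, ?_⟩
  rw [Subgroup.mem_center_iff]
  intro k
  obtain ⟨a, ha⟩ : ∃ a, g.1 0 1 / g.1 0 0 = a := ⟨_, rfl⟩
  rw [ha]
  obtain ⟨r, hr⟩ : ∃ r, g.1 0 0 = r := ⟨_, rfl⟩
  have e : g.1 = r • (Matrix.SpecialLinearGroup.toGL (uSL a)).1 := by
    rw [← ha, ← hr]
    show g.1 = g.1 0 0 • (uSL (g.1 0 1 / g.1 0 0)).1
    ext i j
    fin_cases i <;> fin_cases j <;> simp [uSL_val, key.1, ← key.2, mul_div_cancel₀ _ hne]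
  refine Units.ext ?_
  show k.1 * (((Matrix.SpecialLinearGroup.toGL (uSL _))⁻¹).1 * g.1) =
    ((Matrix.SpecialLinearGroup.toGL (uSL _))⁻¹).1 * g.1 * k.1
  conv_lhs => rw [e]
  conv_rhs => rw [e]
  rw [mul_smul_comm, Units.inv_mul, mul_smul_one, smul_one_mul]

/-- The preimage of the unipotent subgroup is abelian, `q ≥ 8` even. -/
theorem comm_of_mem_uGrp_even {L : Type u} [Group L] (φ : L →* S)
    (hker : ∀ z : L, φ z = 1 → z ∈ Subgroup.center L) (hφ : Function.Surjective φ)
    (heven : Even (Fintype.card F)) (h8 : 8 ≤ Fintype.card F) {a b : L} (ha : φ a ∈ uGrp F)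
    (hb : φ b ∈ uGrp F) : a * b = b * a := by
  classical
  choose l hl using fun c : F => hφ (uP c)
  obtain ⟨x, hx⟩ := ha
  obtain ⟨y, hy⟩ := hb
  suffices h : ∀ x y : F, ⁅l x, l y⁆ = 1 by
    rw [← commutatorElement_eq_one_iff_mul_comm,
      comm_congr φ hker (hx.symm.trans (hl x).symm) (hy.symm.trans (hl y).symm)]
    exact h x y
  have h2 : (2 : F) = 0 := two_eq_zero_of_even heven
  have hc : ∀ x y (g : L), g * ⁅l x, l y⁆ = ⁅l x, l y⁆ * g := fun x y g =>
    Subgroup.mem_center_iff.1 (hker _ (by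
      rw [map_commutatorElement, hl, hl, commutatorElement_eq_one_iff_mul_comm, uP_mul, uP_mul,
        add_comm])) g
  have hadd1 : ∀ x x' y, ⁅l (x + x'), l y⁆ = ⁅l x', l y⁆ * ⁅l x, l y⁆ := fun x x' y => by
    rw [comm_congr φ hker (show φ (l (x + x')) = φ (l x * l x') by
      rw [map_mul, hl, hl, hl, uP_mul]) (rfl : φ (l y) = φ (l y))]
    have e : ⁅l x * l x', l y⁆ = l x * ⁅l x', l y⁆ * (l x)⁻¹ * ⁅l x, l y⁆ := by
      simp only [commutatorElement_def]
      group
    rw [e, hc x' y (l x), mul_inv_cancel_right]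
  have hadd2 : ∀ x y y', ⁅l x, l (y + y')⁆ = ⁅l x, l y⁆ * ⁅l x, l y'⁆ := fun x y y' => by
    rw [comm_congr φ hker (rfl : φ (l x) = φ (l x)) (show φ (l (y + y')) = φ (l y * l y') by
      rw [map_mul, hl, hl, hl, uP_mul])]
    have e : ⁅l x, l y * l y'⁆ = ⁅l x, l y⁆ * (l y * ⁅l x, l y'⁆ * (l y)⁻¹) := by
      simp only [commutatorElement_def]
      group
    rw [e, hc x y' (l y), mul_inv_cancel_right]
  have hscale : ∀ s x y : F, s ≠ 0 → ⁅l (s * s * x), l (s * s * y)⁆ = ⁅l x, l y⁆ := fun s x y hs => by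
    obtain ⟨h, hh⟩ := exists_torus hs
    obtain ⟨g, rfl⟩ := hφ h
    have e : ∀ c, φ (l (s * s * c)) = φ (g * l c * g⁻¹) := fun c => by
      rw [map_mul, map_mul, map_inv, hl, hl, hh]
    rw [comm_congr φ hker (e x) (e y), ← conjugate_commutatorElement, hc, mul_inv_cancel_right]
  have hsquare : ∀ a : F, IsSquare a :=
    FiniteField.isSquare_of_char_two (CharP.ringChar_of_prime_eq_zero Nat.prime_two
      (by exact_mod_cast h2))
  have hdiv : ∀ a y : F, a ≠ 0 → ⁅l a, l y⁆ = ⁅l 1, l (y / a)⁆ := fun a y ha => by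
    obtain ⟨s, rfl⟩ := hsquare a
    have hs : s ≠ 0 := fun e => ha (by rw [e, zero_mul])
    have h := hscale s 1 (y / (s * s)) hs
    rwa [mul_one, mul_div_cancel₀ y ha] at h
  obtain ⟨b, hb⟩ : ∃ b : F, b * (b + 1) * (b * b + b + 1) ≠ 0 := by
    by_contra hc
    push Not at hc
    let P : Polynomial F := Polynomial.X * (Polynomial.X + 1) *
      (Polynomial.X * Polynomial.X + Polynomial.X + 1)
    have hdeg : P.natDegree ≤ 4 := by simp only [P]; compute_degree
    have hP0 : P ≠ 0 := by
      have hm : P.Monic := by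
        have h1 : (Polynomial.X + 1 : Polynomial F).Monic := by monicity!
        have h2 : (Polynomial.X * Polynomial.X + Polynomial.X + 1 : Polynomial F).Monic := by monicity!
        exact (Polynomial.monic_X.mul h1).mul h2
      exact hm.ne_zero
    have := Finset.card_le_card (show (Finset.univ : Finset F) ⊆ P.roots.toFinset from fun t _ => by
      rw [Multiset.mem_toFinset, Polynomial.mem_roots hP0]
      simpa [P, Polynomial.IsRoot] using hc t)
    rw [Finset.card_univ] at this
    have h1 := Multiset.toFinset_card_le P.roots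
    have h3 := P.card_roots'
    omega
  rw [mul_ne_zero_iff, mul_ne_zero_iff] at hb
  obtain ⟨⟨hb0, hb1⟩, hbq⟩ := hb
  have hab : 1 + b ≠ 0 := by rwa [add_comm] at hb1
  have hc0 : 1 / (1 + b) - 1 - 1 / b ≠ 0 := by
    intro e
    apply hbq
    field_simp at e
    linear_combination -e
  have hone : ∀ y : F, ⁅l 1, l y⁆ = 1 := fun y => by
    set c : F := 1 / (1 + b) - 1 - 1 / b with hcdef
    have h := hadd1 1 b (y / c)
    rw [hdiv _ _ hab, hdiv _ _ hb0] at h
    have e : y / c / (1 + b) = y + (y / c / b + y / c) := by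
      have : y = c * (y / c) := by rw [mul_div_cancel₀ y hc0]
      conv_rhs => arg 1; rw [this, hcdef]
      ring
    rw [e, hadd2, hadd2] at h
    exact mul_eq_right.1 h
  intro x y
  rcases eq_or_ne x 0 with rfl | hx
  · have h := hadd1 0 0 y
    rw [add_zero] at h
    exact mul_eq_left.1 h.symm
  · rw [hdiv x y hx, hone]

end CfsgLib.Recog.NonCA
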