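import Cfsg.Agent.Lib.Recog.NonCA.Residual
import Cfsg.Agent.Lib.Recog.NonCA.PSLUnip

/-!
A perfect group over `PSL(2,q)` without bad elements of 2-power order is a CA-group.
-/

set_option autoImplicit false
set_option linter.style.haveILetI false
set_option linter.unusedSectionVars false

namespace CfsgLib.Recog.NonCA

open Matrix CfsgLib.Geom

universe u

variable {G : Type u} [Group G] {F : Type} [Field F]

local notation "Z(G)" => Subgroup.center G
local notation "S" => ProjectiveSpecialLinearGroup (Fin 2) F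

theorem mul_comm_of_hom {L : Type u} [Group L] (φ : L →* S)
    (hker : ∀ z : L, φ z = 1 → z ∈ Subgroup.center L) {a b : L} {g : S}
    (hφ : Function.Surjective φ) (ha : φ a ∈ Subgroup.zpowers g)
    (hb : φ b ∈ Subgroup.zpowers g) : a * b = b * a := by
  obtain ⟨G, rfl⟩ := hφ g
  obtain ⟨i, hi⟩ := Subgroup.mem_zpowers_iff.1 ha
  obtain ⟨j, hj⟩ := Subgroup.mem_zpowers_iff.1 hb
  rw [← map_zpow] at hi hj
  rw [← commutatorElement_eq_one_iff_mul_comm, comm_congr φ hker hi.symm hj.symm,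
    commutatorElement_eq_one_iff_mul_comm]
  exact ((Commute.refl G).zpow_zpow i j).eq

variable [Finite G]

/-- Commuting 2-elements in the centraliser of a non-involution lie in a cyclic group. -/
theorem exists_zpowers_two [Fintype F] {x a b : S} (hx : x * x ≠ 1) (ha : a * x = x * a)
    (hb : b * x = x * b) {i j : ℕ} (hai : a ^ 2 ^ i = 1) (hbj : b ^ 2 ^ j = 1) :
    ∃ g : S, a ∈ Subgroup.zpowers g ∧ b ∈ Subgroup.zpowers g := by
  haveI : Fact (Nat.Prime 2) := ⟨Nat.prime_two⟩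
  have hx1 : x ≠ 1 := fun e => hx (by rw [e, one_mul])
  have hc : ∀ u v : S, u * x = x * u → v * x = x * v → u * v = v * u := fun u v hu hv =>
    psl_comm_of hx1 (Or.inl hx) hu hv
  let V : Subgroup S :=
    { carrier := {y | y * x = x * y ∧ ∃ k, y ^ 2 ^ k = 1}
      one_mem' := ⟨by rw [one_mul, mul_one], 0, one_pow _⟩
      mul_mem' := fun {u v} ⟨hu, k, hk⟩ ⟨hv, l, hl⟩ => ⟨by
          rw [mul_assoc, hv, ← mul_assoc, hu, mul_assoc], k + l, by
          rw [(show Commute u v from hc u v hu hv).mul_pow, pow_add, pow_mul, hk, one_pow, mul_comm,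
            pow_mul, hl, one_pow, one_mul]⟩
      inv_mem' := fun {u} ⟨hu, k, hk⟩ => ⟨by
          rw [inv_mul_eq_iff_eq_mul, ← mul_assoc, eq_mul_inv_iff_mul_eq, hu], k, by
          rw [inv_pow, hk, inv_one]⟩ }
  have hVp : IsPGroup 2 V := fun v => by
    obtain ⟨k, hk⟩ := v.2.2
    exact ⟨k, Subtype.ext (by rw [SubmonoidClass.coe_pow, hk, Subgroup.coe_one])⟩
  have : IsCyclic V := CfsgLib.Recog.PGroupImprimitive.isCyclic_of_comm_unique hVp
    (fun u v => Subtype.ext (hc u v u.2.1 v.2.1)) fun H K hH hK => by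
      obtain ⟨w, hw⟩ := exists_prime_orderOf_dvd_card' (G := H) 2 (by rw [hH])
      obtain ⟨w', hw'⟩ := exists_prime_orderOf_dvd_card' (G := K) 2 (by rw [hK])
      rw [← Subgroup.orderOf_coe, ← Subgroup.orderOf_coe] at hw hw'
      have hprop : ∀ {u : S}, orderOf u = 2 → u * u = 1 ∧ u ≠ 1 := fun {u} hu =>
        ⟨by rw [← pow_two]; exact orderOf_dvd_iff_pow_eq_one.1 (dvd_of_eq hu),
          fun e => by simp [e] at hu⟩
      have hww : (w : V) = (w' : V) := Subtype.ext (involution_unique hx (hprop hw).1 (hprop hw).2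
        (hprop hw').1 (hprop hw').2 (w : V).2.1 (w' : V).2.1)
      have hgen : ∀ {J : Subgroup V} (u : J), Nat.card J = 2 → orderOf ((u : V) : S) = 2 →
          J = Subgroup.zpowers (u : V) := fun {J} u hJ hu =>
        (Subgroup.eq_of_le_of_card_ge (Subgroup.zpowers_le.2 u.2)
          (by rw [Nat.card_zpowers, ← Subgroup.orderOf_coe, hu, hJ])).symm
      rw [hgen w hH hw, hgen w' hK hw', hww]
  obtain ⟨⟨g, hg⟩, hgen⟩ := IsCyclic.exists_generator (α := V)
  refine ⟨g, ?_, ?_⟩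
  · obtain ⟨k, hk⟩ := Subgroup.mem_zpowers_iff.1 (hgen ⟨a, ha, i, hai⟩)
    exact Subgroup.mem_zpowers_iff.2 ⟨k, congrArg Subtype.val hk⟩
  · obtain ⟨k, hk⟩ := Subgroup.mem_zpowers_iff.1 (hgen ⟨b, hb, j, hbj⟩)
    exact Subgroup.mem_zpowers_iff.2 ⟨k, congrArg Subtype.val hk⟩

theorem Hyp.isCA_of_psl (hG : Hyp G) (hperf : commutator G = ⊤)
    (hno : ∀ y : G, Bad y → ∀ k : ℕ, y ^ 2 ^ k ≠ 1) [Fintype F]
    (e : G ⧸ Z(G) ≃* S) (hq : 4 ≤ Fintype.card F) : IsCA G := by
  classical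
  refine isCA_iff.2 fun x hx => ?_
  set φ : G →* S := e.toMonoidHom.comp (QuotientGroup.mk' Z(G)) with hφdef
  have hφ : Function.Surjective φ := e.surjective.comp (QuotientGroup.mk'_surjective _)
  have hker : ∀ z : G, φ z = 1 → z ∈ Z(G) := fun z hz =>
    (QuotientGroup.eq_one_iff z).1 (e.map_eq_one_iff.1 hz)
  have hker' : ∀ z ∈ Z(G), φ z = 1 := fun z hz => by
    show e (QuotientGroup.mk' Z(G) z) = 1
    rw [QuotientGroup.mk'_apply, (QuotientGroup.eq_one_iff z).2 hz, map_one]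
  -- the image of `x` is not an involution
  have hx2 : φ x * φ x ≠ 1 := by
    intro h2
    rw [← map_mul] at h2
    have hsq : x * x ∈ Z(G) := hker _ h2
    obtain ⟨k, m, hm, hn⟩ := Nat.exists_eq_two_pow_mul_odd (orderOf_pos x).ne'
    by_cases hxm : x ^ m ∈ Z(G)
    · refine hx.1 ?_
      obtain ⟨r, rfl⟩ := hm
      rw [show x = ((x * x) ^ r)⁻¹ * x ^ (2 * r + 1) by
        rw [← pow_two, ← pow_mul, pow_succ, inv_mul_cancel_left]]
      exact mul_mem (inv_mem (pow_mem hsq r)) hxm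
    · refine hno (x ^ m) ⟨hxm, fun h => hx.2 (comm_iff.2 fun a ha b hb => ?_)⟩ k
        (by rw [← pow_mul, mul_comm, ← hn, pow_orderOf_eq_one])
      exact comm_iff.1 h a (mem_cen.2 ((show Commute a x from mem_cen.1 ha).pow_right m).eq) b
        (mem_cen.2 ((show Commute b x from mem_cen.1 hb).pow_right m).eq)
  have hx1 : φ x ≠ 1 := fun h => hx2 (by rw [h, one_mul])
  obtain ⟨a, ha, b, hb, hab⟩ := exists_noncomm hx.2
  have hax : φ a * φ x = φ x * φ a := by rw [← map_mul, ← map_mul, mem_cen.1 ha]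
  have hbx : φ b * φ x = φ x * φ b := by rw [← map_mul, ← map_mul, mem_cen.1 hb]
  have hc : cm a b ∈ Z(G) := hker _ (by
    rw [cm, map_mul, map_mul, map_mul, map_inv, map_inv,
      psl_comm_of hx1 (Or.inl hx2) hax hbx, mul_inv_cancel_right, mul_inv_cancel])
  set c := cm a b with hcdef
  have hc1 : c ≠ 1 := fun h => hab (cm_eq_one.1 h)
  obtain ⟨p, hp, hpd⟩ := Nat.exists_prime_and_dvd
    (show orderOf c ≠ 1 from fun h => hc1 (orderOf_eq_one_iff.1 h))
  haveI : Fact p.Prime := ⟨hp⟩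
  obtain ⟨i, m, hm, hn⟩ := Nat.exists_eq_pow_mul_and_not_dvd (orderOf_pos a).ne' p hp.ne_one
  obtain ⟨j, l, hl, hnb⟩ := Nat.exists_eq_pow_mul_and_not_dvd (orderOf_pos b).ne' p hp.ne_one
  obtain ⟨A, hA⟩ : ∃ A, A = a ^ m := ⟨_, rfl⟩
  obtain ⟨B, hB⟩ : ∃ B, B = b ^ l := ⟨_, rfl⟩
  have hAp : A ^ p ^ i = 1 := by rw [hA, ← pow_mul, mul_comm, ← hn, pow_orderOf_eq_one]
  have hBp : B ^ p ^ j = 1 := by rw [hB, ← pow_mul, mul_comm, ← hnb, pow_orderOf_eq_one]
  have hcAb : cm A b = c ^ m := by rw [hA, cm_pow_left hc]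
  have hcAB : cm A B = c ^ (m * l) := by
    rw [hB, cm_pow_right (a := A) (by rw [hcAb]; exact pow_mem hc m), hcAb, ← pow_mul]
  have hAB : A * B ≠ B * A := fun h => by
    have h1 : c ^ (m * l) = 1 := by rw [← hcAB]; exact cm_eq_one.2 h
    rcases hp.dvd_mul.1 (hpd.trans (orderOf_dvd_of_pow_eq_one h1)) with h2 | h2
    · exact hm h2
    · exact hl h2
  have hcABz : cm A B ∈ Z(G) := hcAB ▸ pow_mem hc _
  have hAx : A * x = x * A := hA ▸ ((show Commute a x from mem_cen.1 ha).pow_left m).eq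
  have hBx : B * x = x * B := hB ▸ ((show Commute b x from mem_cen.1 hb).pow_left l).eq
  by_cases hp2 : p = 2
  · subst hp2
    obtain ⟨g, hga, hgb⟩ := exists_zpowers_two (x := φ x) hx2
      (show φ A * φ x = φ x * φ A by rw [← map_mul, ← map_mul, hAx])
      (show φ B * φ x = φ x * φ B by rw [← map_mul, ← map_mul, hBx])
      (i := i) (j := j) (by rw [← map_pow, hAp, map_one]) (by rw [← map_pow, hBp, map_one])
    exact hAB (mul_comm_of_hom φ hker hφ hga hgb)
  by_cases h9 : Fintype.card F = 9 → p ≠ 3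
  · obtain ⟨-, hnd⟩ := center_sylow_trivial hperf e hp2 h9
    apply hAB
    apply cm_eq_one.1
    have h1 : cm A B ^ p ^ i = 1 := by
      rw [← cm_pow_left hcABz, hAp, cm_center_left (one_mem _)]
    by_contra hne
    obtain ⟨t, -, ht⟩ := (Nat.dvd_prime_pow hp).1 (orderOf_dvd_of_pow_eq_one h1)
    rcases t with _ | t
    · exact hne (orderOf_eq_one_iff.1 (by rw [ht, pow_zero]))
    · refine hnd (Dvd.dvd.trans ?_ ((Subgroup.orderOf_mk (a := cm A B) hcABz) ▸
        orderOf_dvd_natCard (⟨cm A B, hcABz⟩ : Z(G))))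
      rw [ht]
      exact dvd_pow_self p t.succ_ne_zero
  push Not at h9
  obtain ⟨h9, rfl⟩ := h9
  -- three-elements of `PSL(2,9)`
  have hU9 : Nat.card (uGrp F) = 3 ^ 2 := by rw [card_uGrp, h9]; rfl
  have hfac : (Nat.card S).factorization 3 = 2 := by
    have h := psl_two_mul_card (F := F) (by rw [h9]; decide)
    rw [h9] at h
    have : Nat.card S = 3 ^ 2 * 40 := by norm_num at h ⊢; omega
    rw [this, Nat.factorization_mul (by norm_num) (by norm_num), Finsupp.add_apply,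
      Nat.Prime.factorization_pow Nat.prime_three, Finsupp.single_eq_same,
      Nat.factorization_eq_zero_of_not_dvd (by norm_num)]
  set U : Sylow 3 S := Sylow.ofCard (uGrp F) (by rw [hfac, hU9])
  obtain ⟨P, hP⟩ := (IsPGroup.of_card (p := 3) (G := Subgroup.zpowers (φ A))
    (n := ((Nat.dvd_prime_pow hp).1 (orderOf_dvd_of_pow_eq_one
      (show φ A ^ 3 ^ i = 1 by rw [← map_pow, hAp, map_one]))).choose)
    (by rw [Nat.card_zpowers]; exact ((Nat.dvd_prime_pow hp).1 (orderOf_dvd_of_pow_eq_one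
      (show φ A ^ 3 ^ i = 1 by rw [← map_pow, hAp, map_one]))).choose_spec.2)).exists_le_sylow
  obtain ⟨g, hg⟩ := MulAction.exists_smul_eq S P U
  obtain ⟨k, rfl⟩ := hφ g
  have hconjA : φ k * φ A * (φ k)⁻¹ ∈ uGrp F := by
    have h1 : MulAut.conj (φ k) (φ A) ∈ ((φ k) • P : Sylow 3 S).toSubgroup :=
      Subgroup.smul_mem_pointwise_smul (φ A) (MulAut.conj (φ k)) _ (hP (Subgroup.mem_zpowers _))
    rw [hg] at h1
    simpa [U, MulAut.conj_apply] using h1
  have hAne : φ A ≠ 1 := fun h => hAB (mem_center.1 (hker A h) B).symm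
  obtain ⟨cA, hcA⟩ := hconjA
  have hcA0 : cA ≠ 0 := fun h => hAne (by
    rw [h, uP_zero] at hcA
    calc φ A = (φ k)⁻¹ * (φ k * φ A * (φ k)⁻¹) * φ k := by group
      _ = 1 := by rw [← hcA, mul_one, inv_mul_cancel])
  have hin : ∀ y : G, φ y * φ A = φ A * φ y → φ k * φ y * (φ k)⁻¹ ∈ uGrp F := fun y hy =>
    mem_uGrp_of_comm hcA0 (by
      rw [hcA]
      calc φ k * φ y * (φ k)⁻¹ * (φ k * φ A * (φ k)⁻¹) = φ k * (φ y * φ A) * (φ k)⁻¹ := by group
        _ = φ k * (φ A * φ y) * (φ k)⁻¹ := by rw [hy]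
        _ = _ := by group)
  obtain ⟨cB, hcB⟩ := hin B (by
    have h1 : φ (cm A B) = 1 := hker' _ hcABz
    rw [cm, map_mul, map_mul, map_mul, map_inv, map_inv, mul_inv_eq_one, mul_inv_eq_iff_eq_mul]
      at h1
    exact h1.symm)
  obtain ⟨cX, hcX⟩ := hin x (by rw [← map_mul, ← map_mul, hAx])
  -- coordinates
  have h3 : (3 : F) = 0 := by
    obtain ⟨q, hq⟩ := CharP.exists F
    obtain ⟨n, hqp, hcard⟩ := FiniteField.card F q
    have hd : q ∣ 3 ^ 2 := by rw [show (3 : ℕ) ^ 2 = 9 from rfl, ← h9, hcard]; exact dvd_pow_self q n.ne_zero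
    obtain rfl := (Nat.prime_dvd_prime_iff_eq hqp Nat.prime_three).1 (hqp.dvd_of_dvd_pow hd)
    exact_mod_cast CharP.cast_eq_zero F 3
  have hpow : ∀ (n : ℕ) (d : F), (uP d : S) ^ n = uP ((n : F) * d) := by
    intro n d
    induction n with
    | zero => rw [pow_zero, Nat.cast_zero, zero_mul, uP_zero]
    | succ n ih => rw [pow_succ, ih, uP_mul, Nat.cast_succ, add_mul, one_mul]
  let f : Fin 3 × Fin 3 → F := fun r => ((r.1 : ℕ) : F) * cA + ((r.2 : ℕ) : F) * cB
  have hmk : ∀ n m : ℕ, φ k * φ (A ^ n * B ^ m) * (φ k)⁻¹ = uP ((n : F) * cA + (m : F) * cB) := by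
    intro n m
    rw [map_mul, map_pow, map_pow, ← uP_mul, ← hpow, ← hpow, hcA, hcB, conj_pow, conj_pow]
    group

  have hC3 : cm A B ^ 3 = 1 := by
    have hA3 : A ^ 3 ∈ Z(G) := hker _ (by
      have h1 := hmk 3 0
      rw [pow_zero, mul_one, Nat.cast_ofNat, h3, zero_mul, Nat.cast_zero, zero_mul, add_zero,
        uP_zero, mul_inv_eq_one, mul_eq_left] at h1
      exact h1)
    rw [← cm_pow_left hcABz, cm_center_left hA3]
  have hrel : ∀ n m : ℕ, φ (A ^ n * B ^ m) = 1 → 3 ∣ n ∧ 3 ∣ m := by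
    intro n m h
    have hz : A ^ n * B ^ m ∈ Z(G) := hker _ h
    have e1 : cm A (A ^ n * B ^ m) = cm A B ^ m := by
      rw [cm_mul_right (by rw [cm_pow_right hcABz]; exact pow_mem hcABz m),
        cm_eq_one.2 ((Commute.refl A).pow_right n).eq, one_mul, cm_pow_right hcABz]
    have e2 : cm (A ^ n * B ^ m) B = cm A B ^ n := by
      rw [cm_mul_left (by rw [cm_eq_one.2 ((Commute.refl B).pow_left m).eq]; exact one_mem _),
        cm_eq_one.2 ((Commute.refl B).pow_left m).eq, mul_one, cm_pow_left hcABz]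
    rw [cm_center_right hz] at e1
    rw [cm_center_left hz] at e2
    have ho : orderOf (cm A B) = 3 := orderOf_eq_prime hC3 fun h => hAB (cm_eq_one.1 h)
    exact ⟨ho ▸ orderOf_dvd_of_pow_eq_one e2.symm, ho ▸ orderOf_dvd_of_pow_eq_one e1.symm⟩
  have hf : Function.Injective f := by
    rintro ⟨n, m⟩ ⟨n', m'⟩ he
    simp only [f] at he
    have h1 : φ (A ^ (n.1 + 2 * n'.1) * B ^ (m.1 + 2 * m'.1)) = 1 := by
      have h1 := hmk (n.1 + 2 * n'.1) (m.1 + 2 * m'.1)
      rw [show ((n.1 + 2 * n'.1 : ℕ) : F) * cA + ((m.1 + 2 * m'.1 : ℕ) : F) * cB = 0 by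
        push_cast
        linear_combination he + (((n'.1 : ℕ) : F) * cA + ((m'.1 : ℕ) : F) * cB) * h3, uP_zero,
        mul_inv_eq_one, mul_eq_left] at h1
      exact h1
    obtain ⟨h1, h2⟩ := hrel _ _ h1
    refine Prod.ext (Fin.ext ?_) (Fin.ext ?_)
    · have := n.2; have := n'.2; dsimp only; omega
    · have := m.2; have := m'.2; dsimp only; omega
  obtain ⟨⟨n, m⟩, hnm⟩ := ((Fintype.bijective_iff_injective_and_card f).2
    ⟨hf, by rw [Fintype.card_prod, Fintype.card_fin, h9]⟩).2 cX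
  have hxe : φ x = φ (A ^ n.1 * B ^ m.1) := by
    have h1 := hmk n.1 m.1
    simp only [f] at hnm
    rw [hnm, hcX] at h1
    exact mul_left_cancel (mul_right_cancel h1.symm)
  have hz : x⁻¹ * (A ^ n.1 * B ^ m.1) ∈ Z(G) := hker _ (by
    rw [map_mul, map_inv, hxe, inv_mul_cancel])
  obtain ⟨z, hz', hxz⟩ : ∃ z ∈ Z(G), A ^ n.1 * B ^ m.1 = x * z :=
    ⟨_, hz, (mul_inv_cancel_left x _).symm⟩
  have e1 : cm A B ^ m.1 = 1 := by
    have h1 : cm A (A ^ n.1 * B ^ m.1) = 1 := by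
      rw [hxz, cm_mul_right (by rw [cm_center_right hz']; exact one_mem _), cm_eq_one.2 hAx,
        cm_center_right hz', one_mul]
    rwa [cm_mul_right (by rw [cm_pow_right hcABz]; exact pow_mem hcABz _),
      cm_eq_one.2 ((Commute.refl A).pow_right n.1).eq, one_mul, cm_pow_right hcABz] at h1
  have e2 : cm A B ^ n.1 = 1 := by
    have h1 : cm (A ^ n.1 * B ^ m.1) B = 1 := by
      rw [hxz, cm_mul_left (by rw [cm_center_left hz']; exact one_mem _),
        cm_eq_one.2 hBx.symm, cm_center_left hz', one_mul]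
    rwa [cm_mul_left (by rw [cm_eq_one.2 ((Commute.refl B).pow_left m.1).eq]; exact one_mem _),
      cm_eq_one.2 ((Commute.refl B).pow_left m.1).eq, mul_one, cm_pow_left hcABz] at h1
  have ho : orderOf (cm A B) = 3 := orderOf_eq_prime hC3 fun h => hAB (cm_eq_one.1 h)
  have hn0 := ho ▸ orderOf_dvd_of_pow_eq_one e2
  have hm0 := ho ▸ orderOf_dvd_of_pow_eq_one e1
  have hn' : n.1 = 0 := Nat.eq_zero_of_dvd_of_lt hn0 n.2
  have hm' : m.1 = 0 := Nat.eq_zero_of_dvd_of_lt hm0 m.2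
  rw [hn', hm', pow_zero, pow_zero, one_mul, map_one] at hxe
  exact hx1 hxe

end CfsgLib.Recog.NonCA
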