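import Mathlib

/-!
Groups all whose proper subgroups have abelian centralisers of non-central elements, and the data of
the Klein-four case.
-/

set_option autoImplicit false

namespace CfsgLib.Recog.NonCA

universe u

/-- The centraliser of every non-central element is abelian. -/
def IsCA (G : Type u) [Group G] : Prop :=
  ∀ x : G, x ∉ Subgroup.center G → IsMulCommutative (Subgroup.centralizer ({x} : Set G))

/-- A non-solvable group all whose proper subgroups are CA-groups. -/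
structure Hyp (G : Type u) [Group G] : Prop where
  ns : ¬ Group.IsSolvable G
  sub : ∀ H : Subgroup G, H ≠ ⊤ → IsCA H

/-- A non-central element with non-abelian centraliser. -/
def Bad {G : Type u} [Group G] (x : G) : Prop :=
  x ∉ Subgroup.center G ∧ ¬ IsMulCommutative (Subgroup.centralizer ({x} : Set G))

/-- An involution centraliser `C(t) = ⟨t,u⟩ · (F ⋊ D)` with `⟨t,u⟩` a four-group Sylow subgroup,
`F` inverted by `u`, and `n` rotating `t ↦ u ↦ tu`. -/
structure KleinCent {X : Type u} [Group X] (t u n : X) (F D : Subgroup X) : Prop where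
  ht : orderOf t = 2
  hu : orderOf u = 2
  htu : t * u = u * t
  hne : t ≠ u
  hsyl : ∃ P : Sylow 2 X, (P : Subgroup X) = Subgroup.zpowers t ⊔ Subgroup.zpowers u
  hn : n * t * n⁻¹ = u ∧ n * u * n⁻¹ = t * u
  hFcomm : ∀ a ∈ F, ∀ b ∈ F, a * b = b * a
  hFodd : Odd (Nat.card F)
  hFu : ∀ a ∈ F, u * a * u⁻¹ = a⁻¹
  hFt : ∀ a ∈ F, t * a = a * t
  hDcomm : ∀ a ∈ D, ∀ b ∈ D, a * b = b * a
  hDodd : Odd (Nat.card D)
  hDt : ∀ d ∈ D, t * d = d * t
  hDu : ∀ d ∈ D, u * d = d * u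
  hDn : ∀ d ∈ D, n * d * n⁻¹ ∈ D
  hDF : ∀ d ∈ D, ∀ a ∈ F, d * a * d⁻¹ ∈ F
  hdisj : F ⊓ D = ⊥
  hcent : Subgroup.centralizer ({t} : Set X) =
    Subgroup.zpowers t ⊔ Subgroup.zpowers u ⊔ F ⊔ D
  hfix : ∀ d ∈ D, (∀ a ∈ F, d * a = a * d) ∨ ∀ a ∈ F, d * a = a * d → a = 1
  hD0 : ∀ d ∈ D, (∀ a ∈ F, d * a = a * d) → (∀ a ∈ F, (n * d * n⁻¹) * a = a * (n * d * n⁻¹)) → d = 1
  hFcen : ∀ a ∈ F, a ≠ 1 → ∀ c : X, c * a = a * c → c * t = t * c

end CfsgLib.Recog.NonCA
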