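import Mathlib

/-!
A four-group of automorphisms of a group of odd order whose three involutions have the same fixed
points acts trivially.
-/

set_option autoImplicit false

namespace CfsgLib.Recog.NonCA

universe u

theorem fixed_of_four {K : Type u} [Group K] [Finite K] (hK : Odd (Nat.card K)) (α β : MulAut K)
    (hα : ∀ k, α (α k) = k) (hβ : ∀ k, β (β k) = k) (hαβ : ∀ k, α (β k) = β (α k))
    (h1 : ∀ k, β k = k → α k = k) (h3 : ∀ k, α (β k) = k → α k = k) : ∀ k, α k = k := by
  obtain ⟨m, hm⟩ := hK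
  have root : ∀ y : K, y ^ (m + 1) * y ^ (m + 1) = y := fun y => by
    rw [← pow_add, show m + 1 + (m + 1) = (2 * m + 1) + 1 by omega, pow_succ, ← hm, pow_card_eq_one',
      one_mul]
  have eq_one : ∀ y : K, y * y = 1 → y = 1 := fun y hy => by
    rw [← root y, ← pow_add, show m + 1 + (m + 1) = 2 * (m + 1) by omega, pow_mul, pow_two, hy,
      one_pow]
  suffices key : ∀ s, α s = s⁻¹ → s = 1 by
    intro k
    have hs : k * (α k)⁻¹ = 1 := key _ (by rw [map_mul, map_inv, hα, mul_inv_rev, inv_inv])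
    exact (mul_inv_eq_one.1 hs).symm
  intro s hs
  set y := s * (β s)⁻¹ with hy
  set r := y ^ (m + 1)
  have hyy : β y = y⁻¹ := by rw [hy, map_mul, map_inv, hβ, mul_inv_rev, inv_inv]
  have hr : β r = r⁻¹ := by rw [map_pow, hyy, inv_pow]
  have hrr : r * r = y := root y
  have hsy : β s = y⁻¹ * s := by rw [hy]; group
  set c := r⁻¹ * s with hc
  have hcb : β c = c := by
    rw [hc, map_mul, map_inv, hr, hsy, inv_inv, ← hrr]; group
  have hca : α c = c := h1 c hcb
  have hsrc : s = r * c := by rw [hc]; group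
  have har : α r = c⁻¹ * r⁻¹ * c⁻¹ := by
    have := hs
    rw [hsrc, map_mul, hca] at this
    rw [eq_mul_inv_iff_mul_eq, this, mul_inv_rev]
  have h : c⁻¹ * r * c⁻¹ = c * r * c := by
    have e := hαβ r
    rw [hr, map_inv, har, map_mul, map_mul, map_inv, map_inv, hcb, hr] at e
    simpa [mul_assoc] using e.symm
  have h2 : r⁻¹ * (c * c) * r = (c * c)⁻¹ := by
    calc r⁻¹ * (c * c) * r = r⁻¹ * c * (c * r * c) * c⁻¹ := by group
      _ = r⁻¹ * c * (c⁻¹ * r * c⁻¹) * c⁻¹ := by rw [h]
      _ = (c * c)⁻¹ := by group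
  have hcomm : Commute (r * r) (c * c) := by
    have h2' : r⁻¹ * (c * c)⁻¹ * r = c * c := by
      have := congrArg Inv.inv h2
      simpa [mul_assoc] using this
    have : (r * r)⁻¹ * (c * c) * (r * r) = c * c := by
      calc (r * r)⁻¹ * (c * c) * (r * r) = r⁻¹ * (r⁻¹ * (c * c) * r) * r := by group
        _ = c * c := by rw [h2, h2']
    show r * r * (c * c) = c * c * (r * r)
    calc r * r * (c * c) = r * r * ((r * r)⁻¹ * (c * c) * (r * r)) := by rw [this]
      _ = c * c * (r * r) := by group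
  have hrc : Commute r (c * c) := by
    have e : r = (r * r) ^ (m + 1) := by
      rw [← pow_two, ← pow_mul, mul_comm, pow_mul, pow_two, root r]
    rw [e]
    exact hcomm.pow_left _
  have hc1 : c = 1 := by
    refine eq_one c (eq_one _ ?_)
    have : c * c = (c * c)⁻¹ :=
      (by rw [mul_assoc, ← hrc.eq, inv_mul_cancel_left] : r⁻¹ * (c * c) * r = c * c).symm.trans h2
    calc c * c * (c * c) = c * c * (c * c)⁻¹ := by rw [← this]
      _ = 1 := mul_inv_cancel _
  have hsb : β s = s⁻¹ := by rw [hsrc, hc1, mul_one, hr]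
  have hfix : α s = s := h3 s (by rw [hsb, map_inv, hs, inv_inv])
  exact eq_one s (by rw [← hfix]; nth_rewrite 2 [hfix]; rw [hs, inv_mul_cancel])

end CfsgLib.Recog.NonCA
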