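import Cfsg.Agent.Lib.Recog.NonCA.Residual
import Cfsg.Agent.Lib.Recog.NonCA.OddFour
import Cfsg.Agent.Lib.Invol.BrauerSuzuki
import Cfsg.Agent.Lib.Invol.Isolated

/-!
Fusion of bad elements: a bad element with a conjugate in its centraliser has abelian Sylow
subgroups in its centraliser, and a bad 2-element forces abelian Sylow 2-subgroups.
-/

set_option autoImplicit false
set_option linter.unusedSectionVars false
set_option maxHeartbeats 1000000

namespace CfsgLib.Recog.NonCA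

universe u

variable {G : Type u} [Group G] [Finite G]

local notation "Z(G)" => Subgroup.center G
local notation "cen(" x ")" => Subgroup.centralizer ({x} : Set G)

theorem exists_normalizer_step {q : ℕ} [Fact q.Prime] {T R : Subgroup G} (hT : IsPGroup q T)
    (h : R < T) : ∃ y ∈ T, y ∉ R ∧ y ∈ Subgroup.normalizer (R : Set G) := by
  have := hT.isNilpotent
  have hne : R.subgroupOf T < ⊤ := lt_top_iff_ne_top.2 fun e =>
    h.not_ge (Subgroup.subgroupOf_eq_top.1 e)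
  obtain ⟨y, hy, hyR⟩ := SetLike.exists_of_lt
    (Group.normalizerCondition_of_isNilpotent (G := T) _ hne)
  refine ⟨y, y.2, fun e => hyR (Subgroup.mem_subgroupOf.2 e), ?_⟩
  refine Subgroup.mem_normalizer_iff.2 fun z => ⟨fun hz => ?_, fun hz => ?_⟩
  · exact Subgroup.mem_subgroupOf.1
      ((Subgroup.mem_normalizer_iff.1 hy ⟨z, h.le hz⟩).1 (Subgroup.mem_subgroupOf.2 hz))
  · have hzT : z ∈ T := by
      simpa [mul_assoc] using mul_mem (mul_mem (inv_mem y.2) (h.le hz)) y.2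
    exact Subgroup.mem_subgroupOf.1
      ((Subgroup.mem_normalizer_iff.1 hy ⟨z, hzT⟩).2 (Subgroup.mem_subgroupOf.2 hz))

theorem Hyp.normalizer_ne_top (hG : Hyp G) {A : Subgroup G} {a : G} (ha : a ∈ A) (hz : a ∉ Z(G))
    (hA : Group.IsSolvable A) : Subgroup.normalizer (A : Set G) ≠ ⊤ := fun e => hz <| by
  have : A.Normal := Subgroup.normalizer_eq_top_iff.1 e
  exact hG.solvable_le_center A hA ha

theorem Bad.le_of_two (hG : Hyp G) {x : G} (hx : Bad x) {H : Subgroup G} (hH : H ≠ ⊤) (hxH : x ∈ H)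
    {a b : G} (ha : a ∈ H) (hb : b ∈ H) (hax : a ∈ cen(x)) (hbx : b ∈ cen(x))
    (hab : a * b ≠ b * a) : H ≤ cen(x) := fun h hh =>
  mem_cen.2 (hG.central_of hH hxH ha hb (mem_cen.1 hax) (mem_cen.1 hbx) hab h hh)

theorem Bad.inf_comm (hG : Hyp G) {z w : G} (hz : Bad z) (hw : Bad w) (hwz : w ∈ cen(z))
    (hne : cen(z) ≠ cen(w)) {a b : G} (haz : a ∈ cen(z)) (haw : a ∈ cen(w)) (hbz : b ∈ cen(z))
    (hbw : b ∈ cen(w)) : a * b = b * a :=
  by_contra fun hab => hne (hz.eq_of_noncomm hG hw.1 (mem_cen.1 hwz).symm (mem_cen.1 haw)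
    (mem_cen.1 hbw) (mem_cen.1 haz) (mem_cen.1 hbz) hab)

/-- A nonabelian `q`-subgroup of a bad centraliser forces a Sylow subgroup into it. -/
theorem Bad.exists_sylow_le (hG : Hyp G) {z : G} (hz : Bad z) {q : ℕ} [Fact q.Prime]
    (Q : Subgroup G) (hQ : IsPGroup q Q) (hle : Q ≤ cen(z)) {a b : G} (ha : a ∈ Q) (hb : b ∈ Q)
    (hab : a * b ≠ b * a) : ∃ T : Sylow q G, (T : Subgroup G) ≤ cen(z) ∧
      ¬ IsMulCommutative (T : Subgroup G) := by
  set M := cen(z) with hM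
  obtain ⟨R, hR⟩ := (hQ.comap_of_injective M.subtype M.subtype_injective).exists_le_sylow
  set R1 := (R : Subgroup M).map M.subtype
  have haR : a ∈ R1 := ⟨⟨a, hle ha⟩, hR ha, rfl⟩
  have hbR : b ∈ R1 := ⟨⟨b, hle hb⟩, hR hb, rfl⟩
  have hR1 : R1 ≤ M := Subgroup.map_subtype_le _
  have hR1p : IsPGroup q R1 := R.2.map _
  obtain ⟨T, hT⟩ := hR1p.exists_le_sylow
  refine ⟨T, ?_, fun h => hab (comm_iff.1 h a (hT haR) b (hT hbR))⟩
  rcases eq_or_ne R1 (T : Subgroup G) with e | e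
  · exact e ▸ hR1
  exfalso
  obtain ⟨y, hyT, hyR, hyN⟩ := exists_normalizer_step T.2 (lt_of_le_of_ne hT e)
  set H := Subgroup.normalizer (R1 : Set G)
  have hzH : z ∈ H := by
    refine Subgroup.mem_normalizer_iff.2 fun r => ?_
    constructor
    · intro hr
      rwa [← mem_cen.1 (hR1 hr), mul_inv_cancel_right]
    · intro hr
      have h1 := mem_cen.1 (hR1 hr)
      have : z * r = r * z := by
        have h2 : z * r * z⁻¹ = r := by
          have h3 : z⁻¹ * (z * r * z⁻¹ * z) * z⁻¹ = z⁻¹ * (z * (z * r * z⁻¹)) * z⁻¹ := by rw [h1]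
          calc z * r * z⁻¹ = z⁻¹ * (z * (z * r * z⁻¹)) := by group
            _ = z⁻¹ * (z * r * z⁻¹ * z) := by rw [h1]
            _ = r := by group
        exact mul_inv_eq_iff_eq_mul.1 h2
      rwa [this, mul_inv_cancel_right] at hr
  have hH : H ≠ ⊤ := fun e' => hab <| by
    have : R1.Normal := Subgroup.normalizer_eq_top_iff.1 e'
    have := hR1p.isNilpotent
    exact (mem_center.1 (hG.solvable_le_center R1 inferInstance hbR) a)
  have hHM : H ≤ M := hz.le_of_two hG hH hzH (Subgroup.le_normalizer haR)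
    (Subgroup.le_normalizer hbR) (hR1 haR) (hR1 hbR) hab
  refine hyR ⟨⟨y, hHM hyN⟩, ?_, rfl⟩
  have hmax := R.is_maximal' (Q := (T : Subgroup G).comap M.subtype)
    (T.2.comap_of_injective M.subtype M.subtype_injective)
    (fun r hr => hT (Subgroup.mem_map_of_mem M.subtype hr))
  exact hmax ▸ (show (⟨y, hHM hyN⟩ : M) ∈ (T : Subgroup G).comap M.subtype from hyT)

/-- The common q-part of two bad centralisers is normalised inside the first one only. -/
theorem Bad.normalizer_le_of_sylow (hG : Hyp G) {z w : G} (hz : Bad z) (hw : Bad w)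
    (hwz : w ∈ cen(z)) (hne : cen(z) ≠ cen(w)) {q : ℕ} [Fact q.Prime]
    (hqz : ∃ j, z ^ q ^ j = 1) (hqw : ∃ j, w ^ q ^ j = 1) (T : Sylow q G)
    (hT : (T : Subgroup G) ≤ cen(z)) (hTn : ¬ IsMulCommutative (T : Subgroup G)) :
    ∃ A : Subgroup G, (∀ a, a ∈ A ↔ a ∈ cen(z) ∧ a ∈ cen(w) ∧ ∃ j, a ^ q ^ j = 1) ∧
      Subgroup.normalizer (A : Set G) ≤ cen(z) ∧
      ∃ y, y ∈ Subgroup.normalizer (A : Set G) ∧ y ∈ cen(z) ∧ y ∉ cen(w) := by
  let A : Subgroup G :=
    { carrier := {a | a ∈ cen(z) ∧ a ∈ cen(w) ∧ ∃ j, a ^ q ^ j = 1}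
      one_mem' := ⟨one_mem _, one_mem _, 0, one_pow _⟩
      mul_mem' := fun {a b} ⟨haz, haw, i, hi⟩ ⟨hbz, hbw, j, hj⟩ => ⟨mul_mem haz hbz,
        mul_mem haw hbw, i + j, by
          rw [(show Commute a b from hz.inf_comm hG hw hwz hne haz haw hbz hbw).mul_pow, pow_add,
            pow_mul, hi, one_pow, mul_comm, pow_mul, hj, one_pow, one_mul]⟩
      inv_mem' := fun {a} ⟨haz, haw, i, hi⟩ => ⟨inv_mem haz, inv_mem haw, i, by
        rw [inv_pow, hi, inv_one]⟩ }
  have hA : ∀ a, a ∈ A ↔ a ∈ cen(z) ∧ a ∈ cen(w) ∧ ∃ j, a ^ q ^ j = 1 := fun a => Iff.rfl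
  have hzA : z ∈ A := ⟨self_mem_cen z, mem_cen.2 (mem_cen.1 hwz).symm, hqz⟩
  have hwA : w ∈ A := ⟨hwz, self_mem_cen w, hqw⟩
  have hAc : ∀ a ∈ A, ∀ b ∈ A, a * b = b * a := fun a ha b hb =>
    hz.inf_comm hG hw hwz hne ha.1 ha.2.1 hb.1 hb.2.1
  have hAp : IsPGroup q A := fun a => by
    obtain ⟨j, hj⟩ := a.2.2.2
    exact ⟨j, Subtype.ext (by rw [SubmonoidClass.coe_pow, hj, Subgroup.coe_one])⟩
  set M := cen(z) with hM
  obtain ⟨R, hR⟩ := (hAp.comap_of_injective M.subtype M.subtype_injective).exists_le_sylow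
  set R1 := (R : Subgroup M).map M.subtype
  have hAR : A ≤ R1 := fun a ha => ⟨⟨a, ha.1⟩, hR ha, rfl⟩
  have hR1p : IsPGroup q R1 := R.2.map _
  have hRn : ¬ IsMulCommutative (R : Subgroup M) := by
    intro h
    refine hTn (comm_iff.2 fun a ha b hb => ?_)
    let e := Sylow.equiv R (T.subtype hT)
    have he : ∀ s t : (T.subtype hT : Subgroup M), s * t = t * s := fun s t => by
      apply e.symm.injective
      rw [map_mul, map_mul]
      exact h.is_comm.comm _ _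
    exact congrArg (fun s : (T.subtype hT : Subgroup M) => ((s : M) : G))
      (he ⟨⟨a, hT ha⟩, ha⟩ ⟨⟨b, hT hb⟩, hb⟩)
  have hlt : A < R1 := lt_of_le_of_ne hAR fun e => hRn <| comm_iff.2 fun a ha b hb =>
    Subtype.ext (hAc a (e ▸ Subgroup.mem_map_of_mem M.subtype ha) b
      (e ▸ Subgroup.mem_map_of_mem M.subtype hb))
  obtain ⟨y, hyR, hyA, hyN⟩ := exists_normalizer_step hR1p hlt
  have hyM : y ∈ M := Subgroup.map_subtype_le _ hyR
  have hyw : y ∉ cen(w) := fun h => hyA ⟨hyM, h, by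
    obtain ⟨j, hj⟩ := hR1p ⟨y, hyR⟩
    exact ⟨j, congrArg Subtype.val hj⟩⟩
  have hH : Subgroup.normalizer (A : Set G) ≠ ⊤ := by
    refine hG.normalizer_ne_top hzA hz.1 ?_
    exact Group.isSolvable_of_comm fun a b => Subtype.ext (hAc a a.2 b b.2)
  exact ⟨A, hA, hz.le_of_two hG hH (Subgroup.le_normalizer hzA) hyN
    (Subgroup.le_normalizer hwA) hyM hwz (fun e => hyw (mem_cen.2 e)), y, hyN, hyM, hyw⟩

/-- A bad `q`-element with a conjugate in its centraliser: abelian `q`-subgroups only. -/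
theorem Bad.pgroup_comm (hG : Hyp G) {z g : G} (hz : Bad z) (hg : g ∉ cen(z))
    (hgz : g * z * g⁻¹ ∈ cen(z)) {q : ℕ} [Fact q.Prime] (hqz : ∃ j, z ^ q ^ j = 1)
    (Q : Subgroup G) (hQ : IsPGroup q Q) (hle : Q ≤ cen(z)) :
    ∀ a ∈ Q, ∀ b ∈ Q, a * b = b * a := by
  intro a ha b hb
  by_contra hab
  obtain ⟨T, hT, hTn⟩ := hz.exists_sylow_le hG Q hQ hle ha hb hab
  set w := g * z * g⁻¹ with hw
  have hwb : Bad w := hz.conj g
  have hne : cen(z) ≠ cen(w) := fun e => hg (hz.mem_of_cen_conj_eq hG e.symm)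
  have hqw : ∃ j, w ^ q ^ j = 1 := by
    obtain ⟨j, hj⟩ := hqz
    exact ⟨j, by rw [hw, conj_pow, hj, mul_one, mul_inv_cancel]⟩
  have hzw : z ∈ cen(w) := mem_cen.2 (mem_cen.1 hgz).symm
  obtain ⟨A, hA, hAz, y, hyN, hyz, hyw⟩ := hz.normalizer_le_of_sylow hG hwb hgz hne hqz hqw T hT hTn
  -- the conjugate Sylow subgroup
  have hT' : ((g • T : Sylow q G) : Subgroup G) ≤ cen(w) := by
    rw [hw, cen_conj, Sylow.coe_subgroup_smul, Subgroup.pointwise_smul_def]
    exact Subgroup.map_mono hT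
  have hTn' : ¬ IsMulCommutative ((g • T : Sylow q G) : Subgroup G) := by
    intro h
    refine hTn (comm_iff.2 fun s hs t ht => ?_)
    have hm : ∀ s ∈ (T : Subgroup G), g * s * g⁻¹ ∈ ((g • T : Sylow q G) : Subgroup G) :=
      fun s hs => by
        rw [Sylow.coe_subgroup_smul, Subgroup.pointwise_smul_def]
        exact Subgroup.mem_map.2 ⟨s, hs, rfl⟩
    have := comm_iff.1 h _ (hm s hs) _ (hm t ht)
    exact mul_left_cancel (a := g) (mul_right_cancel (b := g⁻¹) (by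
      calc g * (s * t) * g⁻¹ = g * s * g⁻¹ * (g * t * g⁻¹) := by group
        _ = g * t * g⁻¹ * (g * s * g⁻¹) := this
        _ = g * (t * s) * g⁻¹ := by group))
  obtain ⟨A', hA', hAw, -⟩ :=
    hwb.normalizer_le_of_sylow hG hz hzw (Ne.symm hne) hqw hqz (g • T) hT' hTn'
  have : A' = A := Subgroup.ext fun s => by rw [hA, hA']; tauto
  exact hyw (hAw (this ▸ hyN))

theorem Hyp.exists_sq_mem (hG : Hyp G) {x : G} (hx : Bad x) {k : ℕ} (hk : x ^ 2 ^ k = 1) :
    ∃ w, Bad w ∧ (∃ j, w ^ 2 ^ j = 1) ∧ w * w ∈ Z(G) ∧ cen(w) = cen(x) := by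
  induction k generalizing x with
  | zero => exact absurd (one_mem Z(G)) (by rw [pow_zero, pow_one] at hk; exact hk ▸ hx.1)
  | succ k ih =>
    by_cases h2 : x * x ∈ Z(G)
    · exact ⟨x, hx, ⟨_, hk⟩, h2, rfl⟩
    · have he : cen(x * x) = cen(x) := hx.eq_of_mem hG h2 fun c hc =>
        ((show Commute c x from mem_cen.1 hc).mul_right (mem_cen.1 hc)).eq
      obtain ⟨w, hw, hj, hw2, hwe⟩ := ih (x := x * x) ⟨h2, fun h => hx.2 (he ▸ h)⟩
        (by rw [← pow_two, ← pow_mul, ← pow_succ', hk])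
      exact ⟨w, hw, hj, hw2, hwe.trans he⟩

/-- By the Z*-theorem a bad involution modulo the centre has a conjugate in its centraliser. -/
theorem Bad.exists_conj (hG : Hyp G) {z : G} (hz : Bad z) (h2 : z * z ∈ Z(G)) :
    ∃ g, g ∉ cen(z) ∧ g * z * g⁻¹ ∈ cen(z) := by
  by_contra hne
  push Not at hne
  set zb : G ⧸ Z(G) := (z : G ⧸ Z(G)) with hzb
  have h1 : zb ≠ 1 := fun e => hz.1 ((QuotientGroup.eq_one_iff z).1 e)
  have ho : orderOf zb = 2 := orderOf_eq_prime (by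
    rw [pow_two, hzb, ← QuotientGroup.mk_mul]; exact (QuotientGroup.eq_one_iff _).2 h2) h1
  have hiso : Cfsg.IsIsolatedInvolution zb := by
    refine ⟨ho, fun q hq => ?_⟩
    obtain ⟨g, rfl⟩ := QuotientGroup.mk_surjective q
    set w := g * z * g⁻¹ with hw
    have hmod : z * w * z⁻¹ * w⁻¹ ∈ Z(G) := by
      rw [← QuotientGroup.eq_one_iff, QuotientGroup.mk_mul, QuotientGroup.mk_mul,
        QuotientGroup.mk_mul, QuotientGroup.mk_inv, QuotientGroup.mk_inv, hw,
        QuotientGroup.mk_mul, QuotientGroup.mk_mul, QuotientGroup.mk_inv, ← hzb, hq.eq,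
        mul_inv_cancel_right, mul_inv_cancel]
    have hwc : w ∈ cen(z) :=
      mem_cen.2 (mem_cen.1 ((hz.conj g).mem_of_comm_mod hG hmod)).symm
    have hg : g ∈ cen(z) := by_contra fun hg => hne g hg hwc
    rw [hzb, ← QuotientGroup.mk_mul, ← QuotientGroup.mk_inv, ← QuotientGroup.mk_mul,
      mem_cen.1 hg, mul_inv_cancel_right]
  have hbot : Cfsg.oddCore (G ⧸ Z(G)) = ⊥ := by
    have : (Cfsg.oddCore (G ⧸ Z(G))).Normal := CfsgLib.Solvable.pPrimeCore_normal 2 _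
    exact hG.quot_solvable_eq_bot
      (CfsgLib.FT.odd_order_solvable (CfsgLib.Invol.odd_card_oddCore _))
  refine h1 (Subgroup.mem_bot.1 (hG.quot_center ▸ Subgroup.mem_center_iff.2 fun q => ?_))
  have := CfsgLib.Invol.zstar _ hiso q
  rw [hbot, Subgroup.mem_bot, mul_inv_eq_one, mul_inv_eq_iff_eq_mul] at this
  exact this.symm

theorem exists_central_invol_mod {T : Subgroup G} (hT : IsPGroup 2 T) {w : G} (hw : w ∈ T)
    (hwz : w ∉ Z(G)) :
    ∃ v ∈ T, v ∉ Z(G) ∧ v * v ∈ Z(G) ∧ ∀ t ∈ T, t * v * t⁻¹ * v⁻¹ ∈ Z(G) := by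
  have : Fact (Nat.Prime 2) := ⟨Nat.prime_two⟩
  set π := QuotientGroup.mk' Z(G)
  set I := T.map π
  have hI : IsPGroup 2 I := hT.map π
  have : Nontrivial I := by
    refine ⟨⟨⟨π w, Subgroup.mem_map_of_mem π hw⟩, 1, fun e => hwz ?_⟩⟩
    exact (QuotientGroup.eq_one_iff w).1 (congrArg Subtype.val e)
  have := hI.center_nontrivial
  have hd : 2 ∣ Nat.card (Subgroup.center I) := by
    obtain ⟨n, hn, he⟩ := (hI.to_subgroup (Subgroup.center I)).nontrivial_iff_card.1 inferInstance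
    exact he ▸ dvd_pow_self 2 hn.ne'
  obtain ⟨c, hc⟩ := exists_prime_orderOf_dvd_card' 2 hd
  obtain ⟨v, hvT, hv⟩ := (c : I).2
  have hc2 : c * c = 1 := by rw [← pow_two, ← hc, pow_orderOf_eq_one]
  refine ⟨v, hvT, fun h => ?_, ?_, fun t ht => ?_⟩
  · have : c = 1 := Subtype.ext (Subtype.ext (hv.symm.trans ((QuotientGroup.eq_one_iff v).2 h)))
    rw [this, orderOf_one] at hc
    exact absurd hc (by norm_num)
  · refine (QuotientGroup.eq_one_iff _).1 ?_
    show π (v * v) = 1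
    rw [map_mul, hv]
    exact congrArg (fun a : Subgroup.center I => ((a : I) : G ⧸ Z(G))) hc2
  · refine (QuotientGroup.eq_one_iff _).1 ?_
    show π (t * v * t⁻¹ * v⁻¹) = 1
    have h := congrArg Subtype.val
      (Subgroup.mem_center_iff.1 c.2 ⟨π t, Subgroup.mem_map_of_mem π ht⟩)
    rw [Subgroup.coe_mul, Subgroup.coe_mul] at h
    simp only [map_mul, map_inv, hv]
    rw [h, mul_inv_cancel_right, mul_inv_cancel]

theorem exists_two_step {R : Subgroup G} {y : G} (hy : y ∉ R) :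
    ∀ k : ℕ, y ^ 2 ^ k ∈ R → ∃ i : ℕ, y ^ 2 ^ i ∉ R ∧ y ^ 2 ^ i * y ^ 2 ^ i ∈ R
  | 0, h => absurd (by simpa using h) hy
  | k + 1, h => by
    by_cases h' : y ^ 2 ^ k ∈ R
    · exact exists_two_step hy k h'
    · exact ⟨k, h', by rwa [← pow_two, ← pow_mul, ← pow_succ]⟩

theorem mem_normalizer_map {M : Subgroup G} {R : Subgroup M} {m : M}
    (hm : m ∈ Subgroup.normalizer (R : Set M)) :
    (m : G) ∈ Subgroup.normalizer ((R.map M.subtype : Subgroup G) : Set G) := by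
  refine Subgroup.mem_normalizer_iff.2 fun z => ⟨?_, ?_⟩
  · rintro ⟨z, hz, rfl⟩
    exact ⟨m * z * m⁻¹, (Subgroup.mem_normalizer_iff.1 hm z).1 hz, rfl⟩
  · rintro ⟨z', hz', he⟩
    exact ⟨m⁻¹ * z' * m, (Subgroup.mem_normalizer_iff.1 hm _).2
      (by rw [show m * (m⁻¹ * z' * m) * m⁻¹ = z' by group]; exact hz'),
      by simp only [map_mul, map_inv, Subgroup.subtype_apply] at he ⊢; rw [he]; group⟩

theorem Bad.sylow_two_le (hG : Hyp G) {w : G} (hw : Bad w) (h2 : w * w ∈ Z(G))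
    {j : ℕ} (hj : w ^ 2 ^ j = 1) : ∃ T : Sylow 2 G, (T : Subgroup G) ≤ cen(w) := by
  have : Fact (Nat.Prime 2) := ⟨Nat.prime_two⟩
  by_contra hno
  push Not at hno
  set M := cen(w) with hM
  have hzw : IsPGroup 2 (Subgroup.zpowers (⟨w, self_mem_cen w⟩ : M)) := by
    obtain ⟨n, -, hn⟩ := (Nat.dvd_prime_pow Nat.prime_two).1 (orderOf_dvd_of_pow_eq_one hj)
    exact IsPGroup.of_card (n := n) (by rw [Nat.card_zpowers, Subgroup.orderOf_mk, hn])
  obtain ⟨R, hR⟩ := hzw.exists_le_sylow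
  set R1 := (R : Subgroup M).map M.subtype with hR1
  have hwR : w ∈ R1 := ⟨_, hR (Subgroup.mem_zpowers _), rfl⟩
  have hRM : R1 ≤ M := Subgroup.map_subtype_le _
  obtain ⟨T, hT⟩ := (R.2.map M.subtype).exists_le_sylow
  have hmax : ∀ t ∈ (T : Subgroup G), t ∈ M → t ∈ R1 := fun t ht htM => by
    have := R.is_maximal' (Q := (T : Subgroup G).comap M.subtype)
      (T.2.comap_of_injective M.subtype M.subtype_injective)
      (fun r hr => hT (Subgroup.mem_map_of_mem M.subtype hr))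
    exact ⟨⟨t, htM⟩, this ▸ (show (⟨t, htM⟩ : M) ∈ (T : Subgroup G).comap M.subtype from ht), rfl⟩
  have hne : R1 ≠ (T : Subgroup G) := fun e => hno T (e ▸ hRM)
  obtain ⟨y0, hy0T, hy0R, hy0N⟩ := exists_normalizer_step T.2 (lt_of_le_of_ne hT hne)
  obtain ⟨n, hn⟩ := T.2 ⟨y0, hy0T⟩
  obtain ⟨i, hyR, hy2R⟩ := exists_two_step hy0R n (by
    have : y0 ^ 2 ^ n = 1 := congrArg Subtype.val hn
    exact this ▸ one_mem R1)
  set y := y0 ^ 2 ^ i
  have hyT : y ∈ (T : Subgroup G) := pow_mem hy0T _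
  have hyN : y ∈ Subgroup.normalizer (R1 : Set G) := pow_mem hy0N _
  have hyM : y ∉ M := fun h => hyR (hmax y hyT h)
  have hyc : y * w ≠ w * y := fun e => hyM (mem_cen.2 e)
  set w' := y * w * y⁻¹ with hw'
  have hw'R : w' ∈ R1 := (Subgroup.mem_normalizer_iff.1 hyN w).1 hwR
  have hww : Commute w' w := mem_cen.1 (hRM hw'R)
  have hne' : cen(w) ≠ cen(w') := fun e => hyM (hw.mem_of_cen_conj_eq hG e.symm)
  have hyw' : y * w' * y⁻¹ = w := by
    calc y * w' * y⁻¹ = (y * y) * w * (y * y)⁻¹ := by rw [hw']; group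
      _ = w := by rw [mem_cen.1 (hRM hy2R), mul_inv_cancel_right]
  set c := w⁻¹ * w' with hc
  have hcR : c ∈ R1 := mul_mem (inv_mem hwR) hw'R
  have hc2 : c * c = 1 := by
    have e : w' * w' = w * w := by
      rw [hw', show y * w * y⁻¹ * (y * w * y⁻¹) = y * (w * w) * y⁻¹ by group,
        mem_center.1 h2 y, mul_inv_cancel_right]
    calc c * c = w⁻¹ * (w' * w⁻¹) * w' := by rw [hc]; group
      _ = w⁻¹ * (w⁻¹ * w') * w' := by rw [hww.inv_right.eq]
      _ = (w * w)⁻¹ * (w' * w') := by group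
      _ = 1 := by rw [e, inv_mul_cancel]
  have hyc' : y * c * y⁻¹ = c := by
    calc y * c * y⁻¹ = (y * w * y⁻¹)⁻¹ * (y * w' * y⁻¹) := by rw [hc]; group
      _ = c⁻¹ := by rw [hyw', ← hw', hc]; group
      _ = c := inv_eq_of_mul_eq_one_right hc2
  have hcw : Commute w c := (mem_cen.1 (hRM hcR) : c * w = w * c).symm
  have hcz : c ∉ Z(G) := fun h => hyM (hw.mem_of_comm_mod hG (by
    have : y * w * y⁻¹ * w⁻¹ = c := by
      rw [← hw', hc]; exact hww.inv_right.eq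
    exact this ▸ h))
  have hyc'' : y * c = c * y := mul_inv_eq_iff_eq_mul.1 hyc'
  have hR1c : ∀ a ∈ R1, ∀ b ∈ R1, a * b = b * a := by
    have key : ∀ a ∈ R1, a ∈ cen(w') := fun a ha => by
      have h : y⁻¹ * a * y ∈ R1 := (Subgroup.mem_normalizer_iff.1 hyN _).2
        (by rwa [show y * (y⁻¹ * a * y) * y⁻¹ = a by group])
      have h' := mem_cen.1 (hRM h)
      refine mem_cen.2 ?_
      calc a * w' = y * (y⁻¹ * a * y * w) * y⁻¹ := by rw [hw']; group
        _ = y * (w * (y⁻¹ * a * y)) * y⁻¹ := by rw [h']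
        _ = w' * a := by rw [hw']; group
    exact fun a ha b hb => hw.inf_comm hG (hw.conj y) (hRM hw'R) hne' (hRM ha) (key a ha)
      (hRM hb) (key b hb)
  have hTn : ¬ IsMulCommutative (T : Subgroup G) := fun h =>
    hyc (comm_iff.1 h y hyT w (hT hwR))
  obtain ⟨v, hvT, hvz, hv2, hvc⟩ := exists_central_invol_mod T.2 (hT hwR) hw.1
  have hvM : v ∈ M := hw.mem_of_comm_mod hG (by
    have := inv_mem (hvc w (hT hwR))
    rwa [show (w * v * w⁻¹ * v⁻¹)⁻¹ = v * w * v⁻¹ * w⁻¹ by group] at this)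
  have hvR : v ∈ R1 := hmax v hvT hvM
  have hvgood : ¬ Bad v := fun hvb => by
    have hTv : (T : Subgroup G) ≤ cen(v) := fun t ht => hvb.mem_of_comm_mod hG (hvc t ht)
    obtain ⟨g, hg, hgz⟩ := hvb.exists_conj hG hv2
    obtain ⟨n, hn⟩ := T.2 ⟨v, hvT⟩
    exact hTn (comm_iff.2 (hvb.pgroup_comm hG hg hgz ⟨n, congrArg Subtype.val hn⟩ _ T.2 hTv))
  -- none of `v, c, v * c` is central in `M`
  have hnv : ∃ m ∈ M, m * v ≠ v * m := by
    by_contra h
    push Not at h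
    exact hw.2 (comm_iff.2 fun a ha b hb => commute_of_not_bad hvgood hvz (h a ha) (h b hb))
  have hnc : ∃ m ∈ M, m * c ≠ c * m := by
    by_contra h
    push Not at h
    refine hyM ?_
    rw [hM, ← hw.eq_of_mem hG hcz h]
    exact mem_cen.2 hyc''
  have hnvc : ∃ m ∈ M, m * (v * c) ≠ (v * c) * m := by
    by_contra h
    push Not at h
    by_cases hz : v * c ∈ Z(G)
    · have hcen : ∀ g : G, g * c = c * g → g * v = v * g := fun g hg => by
        have e : v = v * c * c⁻¹ := by group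
        rw [e]
        exact (Commute.mul_right (mem_center.1 hz g) (show Commute g c from hg).inv_right).eq
      exact hvgood ⟨hvz, fun hcom => hyc
        (comm_iff.1 hcom y (mem_cen.2 (hcen y hyc'')) w (mem_cen.2 (hcen w hcw.eq)))⟩
    · have he := hw.eq_of_mem hG hz h
      refine hyM ?_
      rw [hM, ← he]
      refine Bad.mem_of_comm_mod hG ⟨hz, fun hcom => hw.2 (by rwa [← he])⟩ ?_
      have : y * (v * c) * y⁻¹ * (v * c)⁻¹ = y * v * y⁻¹ * v⁻¹ := by
        calc y * (v * c) * y⁻¹ * (v * c)⁻¹ = y * v * y⁻¹ * (y * c * y⁻¹) * c⁻¹ * v⁻¹ := by group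
          _ = y * v * y⁻¹ * v⁻¹ := by rw [hyc', mul_inv_cancel_right]
      exact this ▸ hvc y hyT
  -- an element of `M` fixing one of them centralises `R1`
  have hfix : ∀ u ∈ R1, (∃ m ∈ M, m * u ≠ u * m) → ∀ m ∈ M, m * u = u * m →
      ∀ r ∈ R1, m * r = r * m := by
    rintro u hu ⟨h, hh, hne⟩ m hm hmu r hr
    exact hG.commute_of hw.ne_top (hRM hu) hm (hRM hr) hh hmu (hR1c r hr u hu) hne
  have hncM : Subgroup.normalizer ((R : Subgroup M) : Set M) ≤
      Subgroup.centralizer ((R : Subgroup M) : Set M) := by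
    intro m hm
    refine Subgroup.mem_centralizer_iff.2 fun r hr => Subtype.ext ?_
    have hrR : (r : G) ∈ R1 := Subgroup.mem_map_of_mem M.subtype hr
    refine hG.commute_of (hG.normalizer_ne_top hwR hw.1
      (Group.isSolvable_of_comm fun a b => Subtype.ext (hR1c a a.2 b b.2)))
      (Subgroup.le_normalizer hwR) (Subgroup.le_normalizer hrR) (mem_normalizer_map hm) hyN
      (mem_cen.1 r.2) (mem_cen.1 m.2) hyc
  set K := (MonoidHom.transferSylow R hncM).ker with hK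
  have hKc := MonoidHom.ker_transferSylow_isComplement' R hncM
  have hKodd : Odd (Nat.card K) := by
    rw [← Nat.not_even_iff_odd, even_iff_two_dvd]
    exact MonoidHom.not_dvd_card_ker_transferSylow R hncM
  let vM : M := ⟨v, hvM⟩
  let cM : M := ⟨c, hRM hcR⟩
  have hcomm2 : Commute vM cM := Subtype.ext (hR1c v hvR c hcR)
  have happ : ∀ (u : M) (k : K), (((MulAut.conjNormal u k : K) : M) : G) = u * k * (u : G)⁻¹ :=
    fun u k => by rw [MulAut.conjNormal_apply]; rfl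
  have hext : ∀ {k l : K}, ((k : M) : G) = ((l : M) : G) → k = l := fun h =>
    Subtype.ext (Subtype.ext h)
  have hinv : ∀ (u : M), (u : G) * u ∈ Z(G) → ∀ k : K,
      MulAut.conjNormal u (MulAut.conjNormal u k) = k := fun u hu k => hext (by
    rw [happ, happ]
    calc (u : G) * (u * k * (u : G)⁻¹) * (u : G)⁻¹
        = (u : G) * u * k * ((u : G) * u)⁻¹ := by group
      _ = ((k : M) : G) := by rw [← mem_center.1 hu, mul_inv_cancel_right])
  have hfixK : ∀ (u : M), (u : G) ∈ R1 → (∃ m ∈ M, m * (u : G) ≠ u * m) → ∀ k : K,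
      MulAut.conjNormal u k = k → MulAut.conjNormal vM k = k := fun u hu hnu k hk => hext (by
    have h1 : ((k : M) : G) * u = u * k :=
      (mul_inv_eq_iff_eq_mul.1 ((happ u k).symm.trans (by rw [hk]))).symm
    rw [happ, ← hfix u hu hnu k (k : M).2 h1 v hvR, mul_inv_cancel_right])
  have hall := fixed_of_four hKodd (MulAut.conjNormal vM) (MulAut.conjNormal cM)
    (hinv vM hv2) (hinv cM (by rw [show (cM : G) * cM = 1 from hc2]; exact one_mem _))
    (fun k => by rw [← MulAut.mul_apply, ← map_mul, hcomm2.eq, map_mul, MulAut.mul_apply])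
    (hfixK cM hcR hnc)
    (fun k hk => hfixK (vM * cM) (mul_mem hvR hcR) hnvc k
      (by rw [map_mul, MulAut.mul_apply]; exact hk))
  obtain ⟨m, hm, hmv⟩ := hnv
  obtain ⟨⟨k, r⟩, hkr, -⟩ := hKc.existsUnique ⟨m, hm⟩
  have hr : Commute ((r : M) : G) v := hR1c _ (Subgroup.mem_map_of_mem M.subtype r.2) v hvR
  have hk : Commute ((k : M) : G) v :=
    (mul_inv_eq_iff_eq_mul.1 ((happ vM k).symm.trans (by rw [hall k]))).symm
  have hm' : ((k : M) : G) * ((r : M) : G) = m := congrArg Subtype.val hkr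
  exact hmv (hm' ▸ (hk.mul_left hr).eq)

theorem Hyp.sylow_two_comm (hG : Hyp G) {x : G} (hx : Bad x) {k : ℕ} (hk : x ^ 2 ^ k = 1)
    (P : Sylow 2 G) : IsMulCommutative (P : Subgroup G) := by
  have : Fact (Nat.Prime 2) := ⟨Nat.prime_two⟩
  obtain ⟨w, hw, ⟨j, hj⟩, hw2, -⟩ := hG.exists_sq_mem hx hk
  obtain ⟨T, hT⟩ := hw.sylow_two_le hG hw2 hj
  obtain ⟨g, hg, hgz⟩ := hw.exists_conj hG hw2
  have hTc := hw.pgroup_comm hG hg hgz ⟨j, hj⟩ _ T.2 hT
  refine ⟨⟨fun a b => (Sylow.equiv P T).injective ?_⟩⟩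
  rw [map_mul, map_mul]
  exact Subtype.ext (hTc _ (Sylow.equiv P T a).2 _ (Sylow.equiv P T b).2)

end CfsgLib.Recog.NonCA
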