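import Cfsg.Agent.Lib.Recog.NonCA.KleinChar.Separation
import Cfsg.Agent.Lib.Recog.GenDihedral.ReduceOuter

/-!
# The Klein-four centraliser forces `D = 1`, hence `PSL₂(q)`

Degree-zero vectors on four constituents and an involution count independent of the linear
character give contradictory bounds when `D ≠ 1`.
-/

set_option autoImplicit false
set_option linter.unusedSectionVars false

namespace CfsgLib.Recog.NonCA

open CfsgLib.Char
open scoped ComplexConjugate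

universe u v w

theorem sign_three {c1 c2 c3 d1 d2 d3 L : ℚ} (h1 : c1 = 1 ∨ c1 = -1) (h2 : c2 = 1 ∨ c2 = -1)
    (h3 : c3 = 1 ∨ c3 = -1) (hL : 1 < L) (hd1 : L ≤ d1) (hd2 : L ≤ d2) (hd3 : L ≤ d3)
    (hdeg : 1 + c1 * d1 + c2 * d2 + c3 * d3 = 0) :
    1 - 2 / L ≤ 1 + c1 / d1 + c2 / d2 + c3 / d3 := by
  have key : ∀ {c d : ℚ}, L ≤ d → (c = 1 ∨ c = -1) →
      -(1 / L) ≤ c / d ∧ (c = 1 → 0 ≤ c / d) := by
    intro c d hd hc
    have hp : 0 < d := by linarith
    have hle : 1 / d ≤ 1 / L := one_div_le_one_div_of_le (by linarith) hd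
    refine ⟨?_, fun e => by rw [e]; positivity⟩
    rcases hc with rfl | rfl
    · have : 0 ≤ (1 : ℚ) / d := by positivity
      have : 0 ≤ (1 : ℚ) / L := by positivity
      linarith
    · rw [neg_div]; linarith
  obtain ⟨a1, b1⟩ := key hd1 h1
  obtain ⟨a2, b2⟩ := key hd2 h2
  obtain ⟨a3, b3⟩ := key hd3 h3
  have e : (2 : ℚ) / L = 2 * (1 / L) := by ring
  rcases h1 with e1 | e1
  · have := b1 e1; linarith
  rcases h2 with e2 | e2
  · have := b2 e2; linarith
  rcases h3 with e3 | e3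
  · have := b3 e3; linarith
  subst e1 e2 e3
  linarith

theorem sign_four {a b y : Fin 4 → ℤ} (ha : ∀ i, a i = 1 ∨ a i = -1)
    (hb : ∀ i, b i = 1 ∨ b i = -1) (e1 : a 0 + a 1 + a 2 + a 3 = 0)
    (e2 : b 0 + b 1 + b 2 + b 3 = 0) (e3 : a 0 * b 0 + a 1 * b 1 + a 2 * b 2 + a 3 * b 3 = 0)
    (e4 : y 0 + y 1 + y 2 + y 3 = 0) (e5 : a 0 * y 0 + a 1 * y 1 + a 2 * y 2 + a 3 * y 3 = 0)
    (e6 : b 0 * y 0 + b 1 * y 1 + b 2 * y 2 + b 3 * y 3 = 0) :
    a 1 * b 1 * y 1 = a 0 * b 0 * y 0 ∧ a 2 * b 2 * y 2 = a 0 * b 0 * y 0 ∧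
      a 3 * b 3 * y 3 = a 0 * b 0 * y 0 := by
  rcases ha 0 with a0 | a0 <;> rcases ha 1 with a1 | a1 <;> rcases ha 2 with a2 | a2 <;>
    rcases ha 3 with a3 | a3 <;> rw [a0, a1, a2, a3] at e1 e3 e5 ⊢ <;>
    first
    | (exfalso; norm_num at e1; done)
    | (rcases hb 0 with b0 | b0 <;> rcases hb 1 with b1 | b1 <;> rcases hb 2 with b2 | b2 <;>
        rcases hb 3 with b3 | b3 <;> rw [b0, b1, b2, b3] at e2 e3 e6 ⊢ <;>
        first
        | (exfalso; norm_num at e2; done)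
        | (exfalso; norm_num at e3; done)
        | omega)

/-- Three orthogonal sign vectors of length four, orthogonal to the degrees. -/
theorem sign_orth {v0 v1 v2 d : Fin 4 → ℤ} (h0 : ∀ i, v0 i = 1 ∨ v0 i = -1)
    (h1 : ∀ i, v1 i = 1 ∨ v1 i = -1) (h2 : ∀ i, v2 i = 1 ∨ v2 i = -1) (hd : ∀ i, 0 < d i)
    (o01 : ∑ i, v0 i * v1 i = 0) (o02 : ∑ i, v0 i * v2 i = 0) (o12 : ∑ i, v1 i * v2 i = 0)
    (p0 : ∑ i, d i * v0 i = 0) (p1 : ∑ i, d i * v1 i = 0) (p2 : ∑ i, d i * v2 i = 0) :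
    (∀ i, d i = d 0) ∧
      |∑ i, v0 i * ((v0 i + v1 i + v2 i) * (v0 i + v1 i + v2 i))| = 8 := by
  have hsq : ∀ {x : ℤ}, x = 1 ∨ x = -1 → x * x = 1 := by rintro x (rfl | rfl) <;> norm_num
  have s0 := fun i => hsq (h0 i)
  have s1 := fun i => hsq (h1 i)
  have s2 := fun i => hsq (h2 i)
  simp only [Fin.sum_univ_four] at o01 o02 o12 p0 p1 p2
  obtain ⟨r1, r2, r3⟩ := sign_four (a := fun i => v0 i * v1 i) (b := fun i => v0 i * v2 i)
    (y := fun i => v0 i * d i)
    (fun i => mul_self_eq_one_iff.1 (by linear_combination (v1 i * v1 i) * s0 i + s1 i))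
    (fun i => mul_self_eq_one_iff.1 (by linear_combination (v2 i * v2 i) * s0 i + s2 i))
    o01 o02
    (by linear_combination o12 + (v1 0 * v2 0) * s0 0 + (v1 1 * v2 1) * s0 1 +
      (v1 2 * v2 2) * s0 2 + (v1 3 * v2 3) * s0 3)
    (by linear_combination p0)
    (by linear_combination p1 + (v1 0 * d 0) * s0 0 + (v1 1 * d 1) * s0 1 + (v1 2 * d 2) * s0 2 +
      (v1 3 * d 3) * s0 3)
    (by linear_combination p2 + (v2 0 * d 0) * s0 0 + (v2 1 * d 1) * s0 1 + (v2 2 * d 2) * s0 2 +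
      (v2 3 * d 3) * s0 3)
  have hw : ∀ i, v0 i * v1 i * v2 i * d i = v0 0 * v1 0 * v2 0 * d 0 := by
    have e : ∀ i, v0 i * v1 i * (v0 i * v2 i) * (v0 i * d i) = v0 i * v1 i * v2 i * d i :=
      fun i => by linear_combination (v0 i * v1 i * v2 i * d i) * s0 i
    intro i
    fin_cases i
    · rfl
    · exact (e 1).symm.trans (r1.trans (e 0))
    · exact (e 2).symm.trans (r2.trans (e 0))
    · exact (e 3).symm.trans (r3.trans (e 0))
  have hsgn : ∀ i, v0 i * v1 i * v2 i = 1 ∨ v0 i * v1 i * v2 i = -1 := fun i =>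
    mul_self_eq_one_iff.1 (by
      linear_combination (v1 i * v1 i * (v2 i * v2 i)) * s0 i + (v2 i * v2 i) * s1 i + s2 i)
  have hde : ∀ i, d i = d 0 ∧ v0 i * v1 i * v2 i = v0 0 * v1 0 * v2 0 := by
    intro i
    have e := hw i
    have := hd i
    have := hd 0
    rcases hsgn i with a | a <;> rcases hsgn 0 with b | b <;> rw [a, b] at e ⊢ <;>
      constructor <;> omega
  refine ⟨fun i => (hde i).1, ?_⟩
  have z : ∀ v : Fin 4 → ℤ, d 0 * v 0 + d 1 * v 1 + d 2 * v 2 + d 3 * v 3 = 0 →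
      v 0 + v 1 + v 2 + v 3 = 0 := by
    intro v hv
    rw [(hde 1).1, (hde 2).1, (hde 3).1] at hv
    exact (mul_eq_zero.1 (show d 0 * (v 0 + v 1 + v 2 + v 3) = 0 by linear_combination hv)).resolve_left
      (hd 0).ne'
  have z0 := z v0 p0
  have z1 := z v1 p1
  have z2 := z v2 p2
  have hexp : ∀ i, v0 i * ((v0 i + v1 i + v2 i) * (v0 i + v1 i + v2 i)) =
      3 * v0 i + 2 * v1 i + 2 * v2 i + 2 * (v0 0 * v1 0 * v2 0) := fun i => by
    linear_combination (v0 i + 2 * v1 i + 2 * v2 i) * s0 i + v0 i * s1 i + v0 i * s2 i +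
      2 * (hde i).2
  simp only [hexp, Fin.sum_univ_four]
  have e : 3 * v0 0 + 2 * v1 0 + 2 * v2 0 + 2 * (v0 0 * v1 0 * v2 0) +
        (3 * v0 1 + 2 * v1 1 + 2 * v2 1 + 2 * (v0 0 * v1 0 * v2 0)) +
        (3 * v0 2 + 2 * v1 2 + 2 * v2 2 + 2 * (v0 0 * v1 0 * v2 0)) +
        (3 * v0 3 + 2 * v1 3 + 2 * v2 3 + 2 * (v0 0 * v1 0 * v2 0)) =
      8 * (v0 0 * v1 0 * v2 0) := by linear_combination 3 * z0 + 2 * z1 + 2 * z2
  rw [e]
  rcases hsgn 0 with a | a <;> rw [a] <;> norm_num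

namespace KleinCent

section Count

open scoped _root_.Classical

variable {X : Type v} [Group X] [Fintype X] [Fintype (Cfsg.IrrCharacter X)] {t u n : X}
  {F D : Subgroup X} (h : KleinCent t u n F D)
include h

/-- The principal character. -/
def onec (_h : KleinCent t u n F D) : Cfsg.IrrCharacter X := ⟨fun _ => 1, isIrrCharacter_one⟩

theorem cl_onec (l : D →* ℂˣ) : h.cl l h.onec = if l = 1 then 1 else 0 := by
  apply Int.cast_injective (α := ℂ)
  apply mul_left_cancel₀ (mul_ne_zero (natCard_ne_zero (G := F)) (natCard_ne_zero (G := D)))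
  rw [h.cl_eq]
  simp only [onec, Finset.sum_const, Finset.card_univ, nsmul_eq_mul, mul_one,
    ← Nat.card_eq_fintype_card]
  rw [← Finset.mul_sum]
  have e := sum_conj_mul_hom l (1 : D →* ℂˣ)
  simp only [MonoidHom.one_apply, Units.val_one, mul_one] at e
  rw [e]
  by_cases hl : l = 1
  · rw [if_pos hl.symm, if_pos hl]; push_cast; ring
  · rw [if_neg (Ne.symm hl), if_neg hl]; push_cast; ring

/-- The degree. -/
noncomputable def deg (_h : KleinCent t u n F D) (χ : Cfsg.IrrCharacter X) : ℕ :=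
  (irr_degree_nat χ).choose

theorem deg_pos (χ : Cfsg.IrrCharacter X) : 0 < h.deg χ := (irr_degree_nat χ).choose_spec.1

theorem deg_cast (χ : Cfsg.IrrCharacter X) : (h.deg χ : ℂ) = (χ : X → ℂ) 1 :=
  (irr_degree_nat χ).choose_spec.2.symm

/-- The sum over the orbit, the value at `t` of a constituent. -/
noncomputable def osum (l : D →* ℂˣ) (χ : Cfsg.IrrCharacter X) : ℤ := ∑ μ ∈ h.orbit l, h.cl μ χ

/-- The constituents. -/
noncomputable def supp (l : D →* ℂˣ) : Finset (Cfsg.IrrCharacter X) :=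
  Finset.univ.filter fun χ => h.cl l χ ≠ 0

/-- The involution count attached to `l`. -/
noncomputable def Rq (l : D →* ℂˣ) : ℚ :=
  ∑ χ ∈ h.supp l, (h.cl l χ : ℚ) * ((h.osum l χ : ℚ) * h.osum l χ) / h.deg χ

variable [Fintype (F →* ℂˣ)] [Fintype (h.D0 →* ℂˣ)] [Fintype (D →* ℂˣ)]

theorem osum_cast {l : D →* ℂˣ} {χ : Cfsg.IrrCharacter X} (hl : χ ∈ h.supp l) :
    (h.osum l χ : ℂ) = (χ : X → ℂ) t :=
  (h.chi_t_orbit (Finset.mem_filter.1 hl).2).symm

omit [Fintype (F →* ℂˣ)] [Fintype (h.D0 →* ℂˣ)] [Fintype (D →* ℂˣ)] in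
/-- Two involutions have product conjugate to an element of `tK` only if it lies in `tF`. -/
theorem no_pair {f d : X} (hf : f ∈ F) (hd : d ∈ D) (hd1 : d ≠ 1) (i j : X) (hi : i * i = 1)
    (hj : j * j = 1) (e : i * j = (t * (f * d))⁻¹) : False := by
  have hi' : i⁻¹ = i := inv_eq_of_mul_eq_one_right hi
  have hj' : j⁻¹ = j := inv_eq_of_mul_eq_one_right hj
  set y := t * (f * d) with hy
  have hk : f * d ∈ h.K := h.FD_mem_K hf hd
  have hc : Commute t (f * d) := (h.mem_M_iff.1 (h.K_le_M hk)).symm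
  have hinv : i * y * i⁻¹ = y⁻¹ := by
    have hyv : y = j * i := by
      rw [← inv_inv y, ← e, mul_inv_rev, hi', hj']
    rw [hyv, mul_inv_rev, hi', hj', mul_assoc, mul_assoc, hi, mul_one]
  have hy' : y⁻¹ = t * (f * d)⁻¹ := by
    rw [hy, mul_inv_rev, h.tinv]
    exact (hc.inv_right).symm.eq
  obtain ⟨m, hm⟩ := h.odd_K
  have hpow : ∀ k ∈ h.K, (t * k) ^ (2 * m + 1) = t := by
    intro k hk
    have hck : Commute t k := (h.mem_M_iff.1 (h.K_le_M hk)).symm
    have e1 : k ^ (2 * m + 1) = 1 := orderOf_dvd_iff_pow_eq_one.1 (by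
      rw [← hm, ← Subgroup.orderOf_mk k hk]; exact orderOf_dvd_natCard _)
    rw [hck.mul_pow, e1, mul_one, pow_succ, pow_mul, pow_two, h.tt, one_pow, one_mul]
  have hit : i * t * i⁻¹ = t := by
    have e1 := congrArg (· ^ (2 * m + 1)) hinv
    simp only [conj_pow] at e1
    rw [hy, hpow _ hk, ← hy, hy', hpow _ (inv_mem hk)] at e1
    exact e1
  obtain ⟨f', hf', e'⟩ := h.M_K (h.mem_M_conj.2 hit) hf hd
  have e2 : f' * d = d⁻¹ * f⁻¹ := by
    rw [← e', ← mul_inv_rev]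
    have e3 : i * y * i⁻¹ = t * (i * (f * d) * i⁻¹) := by
      calc i * y * i⁻¹ = (i * t * i⁻¹) * (i * (f * d) * i⁻¹) := by rw [hy]; group
        _ = t * (i * (f * d) * i⁻¹) := by rw [hit]
    exact mul_left_cancel (a := t) (by rw [← e3, hinv, hy'])
  have e4 : d⁻¹ * f⁻¹ = (d⁻¹ * f⁻¹ * d) * d⁻¹ := by group
  rw [e4] at e2
  obtain ⟨-, e5⟩ := h.FD_ext hf' (h.D_conj_inv hd (inv_mem hf)) hd (inv_mem hd) e2
  exact hd1 (eq_one_of_sq_of_odd h.hDodd hd (by nth_rewrite 2 [e5]; exact mul_inv_cancel d))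

theorem Rq_cast (l : D →* ℂˣ) : (Nat.card F : ℂ) * Nat.card D * (h.Rq l : ℂ) =
    ∑ f : F, ∑ χ : Cfsg.IrrCharacter X,
      ((χ : X → ℂ) t * (χ : X → ℂ) t / (χ : X → ℂ) 1) * (χ : X → ℂ) (t * (f : X)) := by
  have h1 : (h.Rq l : ℂ) = ∑ χ : Cfsg.IrrCharacter X,
      (h.cl l χ : ℂ) * ((χ : X → ℂ) t * (χ : X → ℂ) t / (χ : X → ℂ) 1) := by
    rw [Rq, supp, Rat.cast_sum, Finset.sum_filter]
    refine Finset.sum_congr rfl fun χ _ => ?_
    by_cases hc : h.cl l χ = 0
    · simp [hc]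
    · rw [if_pos hc]
      push_cast
      rw [h.osum_cast (show χ ∈ h.supp l from Finset.mem_filter.2 ⟨Finset.mem_univ _, hc⟩),
        h.deg_cast]
      ring
  rw [h1, Finset.mul_sum, Finset.sum_congr rfl fun χ _ => by
    rw [← mul_assoc, h.cl_eq, Finset.sum_mul], Finset.sum_comm]
  rw [Finset.sum_eq_single (1 : D)]
  · rw [Finset.sum_comm]
    refine Finset.sum_congr rfl fun χ _ => ?_
    rw [map_one, Units.val_one, map_one, mul_one, Finset.sum_mul]
    exact Finset.sum_congr rfl fun f _ => by rw [OneMemClass.coe_one, mul_one]; ring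
  · intro d _ hd
    have hkey : ∀ f : F, ∑ χ : Cfsg.IrrCharacter X,
        ((χ : X → ℂ) t * (χ : X → ℂ) t / (χ : X → ℂ) 1) * (χ : X → ℂ) (t * ((f : X) * d)) = 0 := by
      intro f
      apply mul_left_cancel₀ (natCard_ne_zero (G := X))
      rw [mul_zero, Finset.mul_sum]
      have hterm : ∀ χ : Cfsg.IrrCharacter X, (Nat.card X : ℂ) *
          (((χ : X → ℂ) t * (χ : X → ℂ) t / (χ : X → ℂ) 1) * (χ : X → ℂ) (t * ((f : X) * d))) =
          ∑ g : X, (χ : X → ℂ) (t * (g * t * g⁻¹)) *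
            conj ((χ : X → ℂ) (t * ((f : X) * d))⁻¹) := by
        intro χ
        rw [← Finset.sum_mul, CfsgLib.BlockB.sum_irr_mul_conj,
          char_inv (irr_isCharacter χ.2), Complex.conj_conj]
        ring
      rw [Finset.sum_congr rfl fun χ _ => hterm χ, Finset.sum_comm]
      refine Finset.sum_eq_zero fun g _ => ?_
      rw [column_count]
      refine Finset.sum_eq_zero fun a _ => if_neg fun e => ?_
      refine h.no_pair f.2 d.2 (fun e' => hd (Subtype.ext e')) (a * t * a⁻¹)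
        (a * (g * t * g⁻¹) * a⁻¹) ?_ ?_ ?_
      · calc a * t * a⁻¹ * (a * t * a⁻¹) = a * (t * t) * a⁻¹ := by group
          _ = 1 := by rw [h.tt]; group
      · calc a * (g * t * g⁻¹) * a⁻¹ * (a * (g * t * g⁻¹) * a⁻¹)
            = a * g * (t * t) * g⁻¹ * a⁻¹ := by group
          _ = 1 := by rw [h.tt]; group
      · rw [← e]; group
    calc ∑ χ : Cfsg.IrrCharacter X, (∑ f : F, (χ : X → ℂ) (t * ((f : X) * d))) * conj (l d : ℂ) *
          ((χ : X → ℂ) t * (χ : X → ℂ) t / (χ : X → ℂ) 1)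
        = ∑ χ : Cfsg.IrrCharacter X, ∑ f : F, conj (l d : ℂ) *
            (((χ : X → ℂ) t * (χ : X → ℂ) t / (χ : X → ℂ) 1) *
              (χ : X → ℂ) (t * ((f : X) * d))) := by
          refine Finset.sum_congr rfl fun χ _ => ?_
          rw [Finset.sum_mul, Finset.sum_mul]
          exact Finset.sum_congr rfl fun f _ => by ring
      _ = ∑ f : F, conj (l d : ℂ) * ∑ χ : Cfsg.IrrCharacter X,
            ((χ : X → ℂ) t * (χ : X → ℂ) t / (χ : X → ℂ) 1) *
              (χ : X → ℂ) (t * ((f : X) * d)) := by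
          rw [Finset.sum_comm]
          exact Finset.sum_congr rfl fun f _ => (Finset.mul_sum _ _ _).symm
      _ = 0 := Finset.sum_eq_zero fun f _ => by rw [hkey f, mul_zero]
  · simp

theorem Rq_const (l : D →* ℂˣ) : h.Rq l = h.Rq 1 := by
  apply Rat.cast_injective (α := ℂ)
  exact mul_left_cancel₀ (mul_ne_zero (natCard_ne_zero (G := F)) (natCard_ne_zero (G := D)))
    ((h.Rq_cast l).trans (h.Rq_cast 1).symm)

omit [Fintype (F →* ℂˣ)] [Fintype (h.D0 →* ℂˣ)] [Fintype (D →* ℂˣ)] in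
theorem cl_deg_sum (l : D →* ℂˣ) : ∑ χ ∈ h.supp l, (h.deg χ : ℤ) * h.cl l χ = 0 := by
  apply Int.cast_injective (α := ℂ)
  push_cast
  simp only [h.deg_cast]
  rw [supp, Finset.sum_filter]
  refine Eq.trans (Finset.sum_congr rfl fun χ _ => ?_) (h.cl_degree l)
  by_cases hc : h.cl l χ = 0 <;> simp [hc]

theorem deg_odd_ge [IsSimpleGroup X] (hD : D ≠ ⊥) {l : D →* ℂˣ} {χ : Cfsg.IrrCharacter X}
    (hχ : χ ∈ h.supp l) (hne : χ ≠ h.onec) (hodd : Odd (h.osum l χ)) :
    2 * h.idx + 1 ≤ h.deg χ := by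
  have h1 := h.degree_ge hD χ (fun e => hne (Subtype.ext e)) (h.deg_cast χ).symm
  obtain ⟨k, hk⟩ := h.deg_mod_four χ
  rw [← h.deg_cast, ← h.osum_cast hχ] at hk
  have hk' : (h.deg χ : ℤ) + 3 * h.osum l χ = 4 * (k : ℤ) := by
    apply Int.cast_injective (α := ℂ)
    push_cast
    exact hk
  rw [Int.odd_iff] at hodd
  omega

omit [Fintype (F →* ℂˣ)] [Fintype (h.D0 →* ℂˣ)] [Fintype (D →* ℂˣ)] in
theorem cl_sign {l : D →* ℂˣ} {χ : Cfsg.IrrCharacter X} (hχ : χ ∈ h.supp l) :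
    h.cl l χ = 1 ∨ h.cl l χ = -1 :=
  ((h.cl_cases l).1 χ).resolve_left (Finset.mem_filter.1 hχ).2

omit [Fintype (F →* ℂˣ)] [Fintype (h.D0 →* ℂˣ)] [Fintype (D →* ℂˣ)] in
theorem osum_fixed {l : D →* ℂˣ} (hl : l.comp h.sig = l) (χ : Cfsg.IrrCharacter X) :
    h.osum l χ = h.cl l χ := by
  simp [osum, orbit, hl]

/-- The count at the principal character is large. -/
theorem Rq_one_ge [IsSimpleGroup X] (hD : D ≠ ⊥) :
    1 - 2 / (2 * h.idx + 1 : ℚ) ≤ h.Rq 1 := by
  have hfix : (1 : D →* ℂˣ).comp h.sig = 1 := MonoidHom.one_comp _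
  have h1mem : h.onec ∈ h.supp 1 := Finset.mem_filter.2 ⟨Finset.mem_univ _, by
    rw [h.cl_onec, if_pos rfl]; norm_num⟩
  have hdone : h.deg h.onec = 1 := by
    have : (h.deg h.onec : ℂ) = 1 := h.deg_cast _
    exact_mod_cast this
  have hcard : ((h.supp 1).erase h.onec).card = 3 := by
    rw [Finset.card_erase_of_mem h1mem, show (h.supp 1).card = 4 from (h.cl_cases 1).2]
  obtain ⟨a, b, c, hab, hac, hbc, he⟩ := Finset.card_eq_three.1 hcard
  have hmem : ∀ χ ∈ ({a, b, c} : Finset (Cfsg.IrrCharacter X)),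
      (h.cl 1 χ = 1 ∨ h.cl 1 χ = -1) ∧ 2 * h.idx + 1 ≤ h.deg χ := by
    intro χ hχ
    rw [← he, Finset.mem_erase] at hχ
    refine ⟨h.cl_sign hχ.2, h.deg_odd_ge hD hχ.2 hχ.1 ?_⟩
    rw [h.osum_fixed hfix]
    rcases h.cl_sign hχ.2 with e | e <;> rw [e]
    exacts [odd_one, odd_one.neg]
  obtain ⟨sa, da⟩ := hmem a (by simp)
  obtain ⟨sb, db⟩ := hmem b (by simp)
  obtain ⟨sc, dc⟩ := hmem c (by simp)
  have hsum : ∀ g : Cfsg.IrrCharacter X → ℚ,
      ∑ χ ∈ h.supp 1, g χ = g h.onec + g a + g b + g c := by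
    intro g
    rw [← Finset.add_sum_erase _ _ h1mem, he, Finset.sum_insert (by simp [hab, hac]),
      Finset.sum_pair hbc]
    ring
  have hdeg : 1 + (h.cl 1 a : ℚ) * h.deg a + (h.cl 1 b : ℚ) * h.deg b +
      (h.cl 1 c : ℚ) * h.deg c = 0 := by
    have e1 : (∑ χ ∈ h.supp 1, (h.deg χ : ℚ) * (h.cl 1 χ : ℚ)) = 0 := by
      exact_mod_cast h.cl_deg_sum 1
    rw [hsum, hdone, h.cl_onec, if_pos rfl] at e1
    push_cast at e1
    linarith
  have cast_sign : ∀ {z : ℤ}, z = 1 ∨ z = -1 → (z : ℚ) = 1 ∨ (z : ℚ) = -1 := by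
    rintro z (rfl | rfl) <;> norm_num
  have hR : h.Rq 1 = 1 + (h.cl 1 a : ℚ) / h.deg a + (h.cl 1 b : ℚ) / h.deg b +
      (h.cl 1 c : ℚ) / h.deg c := by
    rw [Rq, hsum]
    simp only [h.osum_fixed hfix, hdone, h.cl_onec, if_pos]
    rcases sa with e | e <;> rcases sb with e' | e' <;> rcases sc with e'' | e'' <;>
      rw [e, e', e''] <;> push_cast <;> ring
  rw [hR]
  have hi : (1 : ℚ) ≤ h.idx := by exact_mod_cast h.idx_odd.pos
  exact sign_three (cast_sign sa) (cast_sign sb) (cast_sign sc) (by linarith)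
    (by exact_mod_cast da) (by exact_mod_cast db) (by exact_mod_cast dc) hdeg

theorem onec_notMem {l : D →* ℂˣ} (hl : l ≠ 1) : h.onec ∉ h.supp l := fun e =>
  (Finset.mem_filter.1 e).2 (by rw [h.cl_onec, if_neg hl])

/-- No nonprincipal character of `D` is fixed by `n`. -/
theorem not_fixed [IsSimpleGroup X] (hD : D ≠ ⊥) {l : D →* ℂˣ} (hl : l ≠ 1) :
    l.comp h.sig ≠ l := by
  intro hfix
  have hL : (3 : ℚ) ≤ h.idx := by
    have h1 := h.one_lt_idx hD
    obtain ⟨k, hk⟩ := h.idx_odd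
    exact_mod_cast (show 3 ≤ h.idx by omega)
  have hterm : ∀ χ ∈ h.supp l,
      (h.cl l χ : ℚ) * ((h.osum l χ : ℚ) * h.osum l χ) / h.deg χ ≤ 1 / (2 * h.idx + 1) := by
    intro χ hχ
    have hd : 2 * h.idx + 1 ≤ h.deg χ :=
      h.deg_odd_ge hD hχ (fun e => h.onec_notMem hl (e ▸ hχ)) (by
        rw [h.osum_fixed hfix]
        rcases h.cl_sign hχ with e | e <;> rw [e]
        exacts [odd_one, odd_one.neg])
    have hd' : (2 * h.idx + 1 : ℚ) ≤ h.deg χ := by exact_mod_cast hd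
    have hb : (1 : ℚ) / h.deg χ ≤ 1 / (2 * h.idx + 1) :=
      one_div_le_one_div_of_le (by positivity) hd'
    have : (0 : ℚ) ≤ 1 / h.deg χ := by positivity
    rw [h.osum_fixed hfix]
    rcases h.cl_sign hχ with e | e <;> rw [e] <;> push_cast
    · rw [mul_one, mul_one]; exact hb
    · rw [neg_mul_neg, one_mul, mul_one, neg_div]; linarith
  have hub : h.Rq l ≤ 4 * (1 / (2 * h.idx + 1 : ℚ)) := by
    have := Finset.sum_le_card_nsmul (h.supp l) _ _ hterm
    rw [show (h.supp l).card = 4 from (h.cl_cases l).2, nsmul_eq_mul] at this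
    simpa [Rq] using this
  have hlb := h.Rq_one_ge hD
  rw [← h.Rq_const l] at hlb
  have hpos : (0 : ℚ) < 2 * h.idx + 1 := by linarith
  have hx : (1 : ℚ) ≤ 6 / (2 * h.idx + 1) := by
    rw [show (6 : ℚ) / (2 * h.idx + 1) = 4 * (1 / (2 * h.idx + 1)) + 2 / (2 * h.idx + 1) by ring]
    linarith
  rw [le_div_iff₀ hpos] at hx
  linarith

/-- An orbit of length three is impossible as well. -/
theorem moved_false [IsSimpleGroup X] (hD : D ≠ ⊥) (h5 : 5 ≤ h.idx) {l : D →* ℂˣ} (hl : l ≠ 1)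
    (hmv : l.comp h.sig ≠ l) : False := by
  set l1 := l.comp h.sig with hl1
  set l2 := l1.comp h.sig with hl2
  have h3 : l2.comp h.sig = l := MonoidHom.ext fun d => by
    simp [hl2, hl1, h.sig_cube]
  have h02 : l2 ≠ l := fun e => hmv (by rw [e] at h3; exact h3)
  have h12 : l2 ≠ l1 := fun e => hmv (by
    have : l1.comp h.sig = l := by rw [← e]; exact h3
    rw [← hl2] at this
    exact (e.symm.trans this))
  have hs1 : h.supp l1 = h.supp l := Finset.filter_congr fun χ _ => h.cl_sig_ne_zero l χ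
  have hs2 : h.supp l2 = h.supp l :=
    (Finset.filter_congr fun χ _ => h.cl_sig_ne_zero l1 χ).trans hs1
  let e : Fin 4 ≃ h.supp l := ((Fintype.equivFinOfCardEq
    ((Fintype.card_coe _).trans (show (h.supp l).card = 4 from (h.cl_cases l).2))).symm)
  have hsum : ∀ g : Cfsg.IrrCharacter X → ℤ, ∑ χ ∈ h.supp l, g χ = ∑ i, g (e i) := fun g => by
    rw [← Finset.sum_coe_sort]
    exact (e.sum_comp fun χ => g χ).symm
  have ho : ∀ a b : D →* ℂˣ, a ≠ b → h.supp a = h.supp l →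
      ∑ i, h.cl a (e i) * h.cl b (e i) = 0 := by
    intro a b hab ha
    rw [← hsum fun χ => h.cl a χ * h.cl b χ, ← ha, supp, Finset.sum_filter]
    refine Eq.trans (Finset.sum_congr rfl fun χ _ => ?_) ((h.cl_norm a b).trans (if_neg hab))
    by_cases hc : h.cl a χ = 0 <;> simp [hc]
  have hp : ∀ a : D →* ℂˣ, h.supp a = h.supp l → ∑ i, (h.deg (e i) : ℤ) * h.cl a (e i) = 0 := by
    intro a ha
    rw [← hsum fun χ => (h.deg χ : ℤ) * h.cl a χ, ← ha]
    exact h.cl_deg_sum a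
  have hsgn : ∀ a : D →* ℂˣ, h.supp a = h.supp l → ∀ i, h.cl a (e i) = 1 ∨ h.cl a (e i) = -1 :=
    fun a ha i => h.cl_sign (ha.symm ▸ (e i).2)
  obtain ⟨hd, habs⟩ := sign_orth (v0 := fun i => h.cl l (e i)) (v1 := fun i => h.cl l1 (e i))
    (v2 := fun i => h.cl l2 (e i)) (d := fun i => (h.deg (e i) : ℤ))
    (hsgn l rfl) (hsgn l1 hs1) (hsgn l2 hs2)
    (fun i => by exact_mod_cast h.deg_pos _) (ho l l1 (Ne.symm hmv) rfl) (ho l l2 (Ne.symm h02) rfl)
    (ho l1 l2 (Ne.symm h12) hs1) (hp l rfl) (hp l1 hs1) (hp l2 hs2)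
  have hos : ∀ i, h.osum l (e i) = h.cl l (e i) + h.cl l1 (e i) + h.cl l2 (e i) := fun i => by
    rw [osum, orbit, ← hl1, ← hl2, Finset.sum_insert (by simp [Ne.symm hmv, Ne.symm h02]),
      Finset.sum_pair (Ne.symm h12)]
    ring
  set z := h.deg (e 0) with hz
  have hzd : ∀ i, h.deg (e i) = z := fun i => by exact_mod_cast hd i
  have hzge : 2 * h.idx + 1 ≤ z := h.deg_odd_ge hD (e 0).2
    (fun e' => h.onec_notMem hl (e' ▸ (e 0).2)) (by
      rw [hos]
      rcases hsgn l rfl 0 with a | a <;> rcases hsgn l1 hs1 0 with b | b <;>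
        rcases hsgn l2 hs2 0 with c | c <;> rw [a, b, c] <;> decide)
  set N : ℤ := ∑ i, h.cl l (e i) *
    ((h.cl l (e i) + h.cl l1 (e i) + h.cl l2 (e i)) *
      (h.cl l (e i) + h.cl l1 (e i) + h.cl l2 (e i))) with hN
  have hR : h.Rq l = (N : ℚ) / z := by
    rw [Rq, ← Finset.sum_coe_sort, hN, Int.cast_sum, Finset.sum_div]
    rw [← e.sum_comp]
    refine Finset.sum_congr rfl fun i _ => ?_
    rw [hos, hzd]
    push_cast
    rfl
  have hN8 : (N : ℚ) ≤ 8 := by
    have h8 : |N| = 8 := habs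
    exact_mod_cast (le_abs_self N).trans h8.le
  have hlb := h.Rq_one_ge hD
  rw [← h.Rq_const l, hR] at hlb
  have h5' : (5 : ℚ) ≤ h.idx := by exact_mod_cast h5
  have hz' : (2 * h.idx + 1 : ℚ) ≤ z := by exact_mod_cast hzge
  have hpos : (0 : ℚ) < 2 * h.idx + 1 := by linarith
  have hb : (N : ℚ) / z ≤ 8 / (2 * h.idx + 1) :=
    calc (N : ℚ) / z ≤ 8 / z := div_le_div_of_nonneg_right hN8 (by linarith)
      _ ≤ 8 / (2 * h.idx + 1) := div_le_div_of_nonneg_left (by norm_num) hpos hz'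
  have hx : (1 : ℚ) ≤ 10 / (2 * h.idx + 1) := by
    rw [show (10 : ℚ) / (2 * h.idx + 1) = 8 / (2 * h.idx + 1) + 2 / (2 * h.idx + 1) by ring]
    linarith
  rw [le_div_iff₀ hpos] at hx
  linarith

theorem false_of_ne_bot [IsSimpleGroup X] (hD : D ≠ ⊥) : False := by
  have hbot : commutator D = ⊥ := by
    rw [commutator_def, Subgroup.commutator_eq_bot_iff_le_centralizer]
    exact fun x _ => Subgroup.mem_centralizer_iff.2 fun y _ => h.D_hom_comm y x
  have hcard : Fintype.card (D →* ℂˣ) = Nat.card D := by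
    rw [← Nat.card_eq_fintype_card, natCard_linear, hbot, Subgroup.index_bot]
  let σ : Equiv.Perm (D →* ℂˣ) :=
    ⟨fun p => p.comp h.sig, fun p => (p.comp h.sig).comp h.sig,
      fun p => MonoidHom.ext fun d => by simp [h.sig_cube],
      fun p => MonoidHom.ext fun d => by simp [h.sig_cube]⟩
  have hσ : σ ^ (3 ^ 1) = 1 := by
    refine Equiv.ext fun p => ?_
    rw [pow_one, pow_succ, pow_two, Equiv.Perm.mul_apply, Equiv.Perm.mul_apply]
    exact MonoidHom.ext fun d => by simp [σ, h.sig_cube]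
  have h3 : ¬ 3 ∣ Nat.card D := by
    intro h3
    have : Fact (Nat.Prime 3) := ⟨Nat.prime_three⟩
    obtain ⟨p, hp, hp1⟩ := Equiv.Perm.exists_fixed_point_of_prime' (hcard.symm ▸ h3) hσ
      (a := (1 : D →* ℂˣ)) (MonoidHom.one_comp _)
    exact h.not_fixed hD hp1 hp
  have h5 : 5 ≤ h.idx := by
    have h1 := h.one_lt_idx hD
    obtain ⟨k, hk⟩ := h.idx_odd
    have hne : h.idx ≠ 3 := fun e => h3 ⟨Nat.card h.D0, by rw [← h.idx_mul, e]⟩
    omega
  obtain ⟨d, hd, hd1⟩ : ∃ d ∈ D, d ≠ 1 := by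
    by_contra hc
    push Not at hc
    exact hD ((Subgroup.eq_bot_iff_forall _).2 hc)
  obtain ⟨l, hl⟩ := exists_linear_ne_one h.D_hom_comm
    (g := (⟨d, hd⟩ : D)) (fun e => hd1 (congrArg Subtype.val e))
  have hl1 : l ≠ 1 := fun e => hl (by rw [e, MonoidHom.one_apply])
  exact h.moved_false hD h5 hl1 (h.not_fixed hD hl1)

end Count

/-- `D` is trivial. -/
theorem D_eq_bot {X : Type u} [Group X] [Finite X] [IsSimpleGroup X]
    (hX : ¬ IsMulCommutative X) {t uu n : X} {F D : Subgroup X} (h : KleinCent t uu n F D) :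
    D = ⊥ := by
  have := Fintype.ofFinite X
  have := Fintype.ofFinite (Cfsg.IrrCharacter X)
  have hfin : ∀ {H : Subgroup X}, (∀ a b : H, a * b = b * a) → Finite (H →* ℂˣ) := by
    intro H hc
    refine Nat.finite_of_card_ne_zero ?_
    rw [natCard_linear]
    exact Subgroup.index_ne_zero_of_finite
  have hF := hfin h.F_hom_comm
  have hD0 := hfin h.D0_hom_comm
  have hD := hfin h.D_hom_comm
  have := Fintype.ofFinite (F →* ℂˣ)
  have := Fintype.ofFinite (h.D0 →* ℂˣ)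
  have := Fintype.ofFinite (D →* ℂˣ)
  by_contra hne
  exact h.false_of_ne_bot hne

open Matrix in
theorem psl_range_normal {K : Type} [Field K] :
    (ProjectiveSpecialLinearGroup.toPGL (n := Fin 2) (R := K)).range.Normal := by
  refine ⟨?_⟩
  rintro _ ⟨s, rfl⟩ g
  obtain ⟨s, rfl⟩ := QuotientGroup.mk_surjective s
  obtain ⟨g, rfl⟩ := ProjGenLinGroup.mk_surjective g
  have hdet : ((g : Matrix (Fin 2) (Fin 2) K) * s.1 *
      ((g⁻¹ : GL (Fin 2) K) : Matrix (Fin 2) (Fin 2) K)).det = 1 := by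
    rw [Matrix.det_mul, Matrix.det_mul, s.2, mul_one, ← Matrix.det_mul, Units.mul_inv,
      Matrix.det_one]
  let r : SpecialLinearGroup (Fin 2) K := ⟨_, hdet⟩
  refine ⟨(r : ProjectiveSpecialLinearGroup (Fin 2) K), ?_⟩
  rw [ProjectiveSpecialLinearGroup.toPGL_mk, ProjectiveSpecialLinearGroup.toPGL_mk, ← map_mul,
    ← map_inv, ← map_mul]
  exact congrArg _ (Units.ext rfl)

open Matrix in
theorem psl_nontrivial {K : Type} [Field K] :
    Nontrivial (ProjectiveSpecialLinearGroup (Fin 2) K) := by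
  let r : SpecialLinearGroup (Fin 2) K := ⟨!![1, 1; 0, 1], by simp [Matrix.det_fin_two]⟩
  refine ⟨⟨(r : ProjectiveSpecialLinearGroup (Fin 2) K), 1, fun e => ?_⟩⟩
  have e' := (QuotientGroup.eq_one_iff _).1 e
  obtain ⟨c, -, hr⟩ := Matrix.SpecialLinearGroup.mem_center_iff.1 e'
  have := congrFun (congrFun hr 0) 1
  simp [r] at this

/-- The Klein case is `PSL₂(q)`. -/
theorem exists_psl {X : Type u} [Group X] [Finite X] [IsSimpleGroup X]
    (hX : ¬ IsMulCommutative X) {t uu n : X} {F D : Subgroup X} (h : KleinCent t uu n F D) :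
    ∃ (K : Type) (_ : Field K) (_ : Fintype K),
      Nonempty (X ≃* Matrix.ProjectiveSpecialLinearGroup (Fin 2) K) := by
  have := Fintype.ofFinite X
  have hD := h.D_eq_bot hX
  have hns : ¬ Group.IsSolvable X := by
    intro hs
    exact hX ⟨⟨IsSimpleGroup.comm_iff_isSolvable.2 hs⟩⟩
  have hdec : ∀ x ∈ h.M, ∃ w ∈ h.W, ∃ f ∈ F, x = w * f := by
    intro x hx
    obtain ⟨w, hw, f, hf, d, hd, rfl⟩ := h.M_decomp hx
    rw [hD, Subgroup.mem_bot] at hd
    exact ⟨w, hw, f, hf, by rw [hd, mul_one]⟩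
  let A : Subgroup X :=
    { carrier := {x | ∃ w, (w = 1 ∨ w = t) ∧ ∃ f ∈ F, x = w * f}
      one_mem' := ⟨1, Or.inl rfl, 1, one_mem _, (one_mul 1).symm⟩
      mul_mem' := by
        rintro _ _ ⟨w, hw, f, hf, rfl⟩ ⟨w', hw', f', hf', rfl⟩
        rcases hw' with rfl | rfl
        · exact ⟨w, hw, f * f', mul_mem hf hf', by group⟩
        · rcases hw with rfl | rfl
          · exact ⟨w', Or.inr rfl, f * f', mul_mem hf hf', by
              rw [one_mul, ← mul_assoc, ← h.hFt f hf, mul_assoc]⟩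
          · refine ⟨1, Or.inl rfl, f * f', mul_mem hf hf', ?_⟩
            rw [mul_assoc, ← mul_assoc f, ← h.hFt f hf, mul_assoc, ← mul_assoc, h.tt]
      inv_mem' := by
        rintro _ ⟨w, hw, f, hf, rfl⟩
        refine ⟨w, hw, f⁻¹, inv_mem hf, ?_⟩
        rcases hw with rfl | rfl
        · group
        · rw [mul_inv_rev, h.tinv]
          exact ((show Commute w f from h.hFt f hf).inv_right).symm.eq }
  have hAM : A ≤ h.M := by
    rintro _ ⟨w, hw, f, hf, rfl⟩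
    refine mul_mem ?_ (h.K_le_M (h.F_le_K hf))
    rcases hw with rfl | rfl
    exacts [one_mem _, h.t_mem_M]
  have hlt : A < h.M := by
    refine lt_of_le_of_ne hAM fun e => ?_
    obtain ⟨w, hw, f, hf, eu⟩ := (e.symm ▸ h.W_le_M h.u_mem_W : uu ∈ A)
    have hfu : f = w⁻¹ * uu := eq_inv_mul_of_mul_eq eu.symm
    have hwW : w ∈ h.W := by
      rcases hw with hw | hw <;> rw [hw]
      exacts [h.one_mem_W, h.mem_W.2 (Or.inr (Or.inl rfl))]
    have h1 : f = 1 := h.W_inter_K (by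
      rw [hfu, h.W_inv hwW]; exact h.W_mul hwW h.u_mem_W) (h.F_le_K hf)
    rw [h1, mul_one] at eu
    rcases hw with hw | hw <;> rw [hw] at eu
    exacts [h.u_ne_one eu, h.hne eu.symm]
  have hsq : ∀ x ∈ h.M, x ∉ A → x ^ 2 = 1 := by
    intro x hx hxA
    obtain ⟨w, hw, f, hf, rfl⟩ := hdec x hx
    have hinv : w * f * w⁻¹ = f⁻¹ := by
      rcases h.mem_W.1 hw with hw' | hw' | hw' | hw'
      · exact absurd ⟨w, Or.inl hw', f, hf, rfl⟩ hxA
      · exact absurd ⟨w, Or.inr hw', f, hf, rfl⟩ hxA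
      · rw [hw']; exact h.hFu f hf
      · rw [hw']
        have e : t * uu * f * (t * uu)⁻¹ = t * (uu * f * uu⁻¹) * t⁻¹ := by group
        rw [e, h.hFu f hf, h.hFt _ (inv_mem hf)]
        group
    rw [h.W_inv hw] at hinv
    rw [pow_two]
    calc w * f * (w * f) = (w * f * w) * f := by group
      _ = 1 := by rw [hinv, inv_mul_cancel]
  have h4 : 4 ∣ Nat.card h.M := ⟨Nat.card F * Nat.card D, by
    classical
    rw [← h.card_M, Nat.card_eq_fintype_card]
    exact Fintype.card_of_subtype _ fun x => by simp [h.mem_M_conj]⟩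
  have hC : ∀ j ∈ h.M, orderOf j = 2 → (∀ x ∈ h.M, x * j = j * x) →
      Subgroup.centralizer ({j} : Set X) = h.M := by
    intro j hj hj2 hjc
    have hj1 : j * j = 1 := by rw [← pow_two, ← hj2, pow_orderOf_eq_one]
    have hjne : j ≠ 1 := fun e => by simp [e] at hj2
    by_cases hF : F = ⊥
    · have hMW : ∀ x ∈ h.M, x ∈ h.W := by
        intro x hx
        obtain ⟨w, hw, f, hf, rfl⟩ := hdec x hx
        rw [hF, Subgroup.mem_bot] at hf
        rw [hf, mul_one]; exact hw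
      obtain ⟨c, hc⟩ := isConj_iff.1 (h.invol_conj hj2)
      have hle : Subgroup.centralizer ({j} : Set X) = (h.M).map (MulAut.conj c).toMonoidHom := by
        ext x
        rw [Subgroup.mem_centralizer_singleton_iff, Subgroup.mem_map]
        constructor
        · intro hx
          refine ⟨c⁻¹ * x * c, h.mem_M_iff.2 ?_, by simp [MulAut.conj_apply, mul_assoc]⟩
          rw [← hc] at hx
          calc c⁻¹ * x * c * t = c⁻¹ * (x * (c * t * c⁻¹)) * c := by group
            _ = c⁻¹ * (c * t * c⁻¹ * x) * c := by rw [hx]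
            _ = t * (c⁻¹ * x * c) := by group
        · rintro ⟨y, hy, rfl⟩
          have hy' := h.mem_M_iff.1 hy
          rw [← hc]
          simp only [MulEquiv.coe_toMonoidHom, MulAut.conj_apply]
          calc c * y * c⁻¹ * (c * t * c⁻¹) = c * (y * t) * c⁻¹ := by group
            _ = c * t * c⁻¹ * (c * y * c⁻¹) := by rw [hy']; group
      have hcard : Nat.card ↥(Subgroup.centralizer ({j} : Set X)) = Nat.card h.M := by
        rw [hle]
        exact Nat.card_congr (((h.M).equivMapOfInjective _ (MulAut.conj c).injective).toEquiv).symm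
      refine (Subgroup.eq_of_le_of_card_ge (fun x hx => ?_) hcard.le).symm
      exact Subgroup.mem_centralizer_singleton_iff.2 (hjc x hx)
    · obtain ⟨a, ha, ha1⟩ : ∃ a ∈ F, a ≠ 1 := by
        by_contra hc
        push Not at hc
        exact hF ((Subgroup.eq_bot_iff_forall _).2 hc)
      rw [h.comm_M_invol hj hj1 hjne ha ha1 (hjc a (h.K_le_M (h.F_le_K ha))).symm, h.cen_t]
  obtain ⟨N, hN, hNc, K, hK, hKf, -, he⟩ :=
    CfsgLib.Recog.GenDihedral.DHyp.pslQuot ⟨hlt, hsq, h4, hC⟩ hns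
  have hN0 : N = ⊥ := by
    rcases hN.eq_bot_or_eq_top with e | e
    · exact e
    · exfalso
      have h4X : 4 ∣ Nat.card X := h4.trans (Subgroup.card_subgroup_dvd_card _)
      rw [e, Subgroup.card_top] at hNc
      rcases hNc with ho | ⟨m, hm, he'⟩
      · exact ho.not_two_dvd_nat (dvd_trans (by norm_num) h4X)
      · obtain ⟨k, hk⟩ := hm
        omega
  subst hN0
  have e0 : X ≃* X ⧸ (⊥ : Subgroup X) := (QuotientGroup.quotientBot).symm
  rcases he with ⟨⟨e⟩⟩ | ⟨⟨e⟩⟩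
  · exact ⟨K, hK, hKf, ⟨e0.trans e⟩⟩
  · have eX := e0.trans e
    have : IsSimpleGroup (Matrix.ProjGenLinGroup (Fin 2) K) := eX.symm.isSimpleGroup
    have htop : (Matrix.ProjectiveSpecialLinearGroup.toPGL (n := Fin 2) (R := K)).range = ⊤ := by
      refine (psl_range_normal (K := K)).eq_bot_or_eq_top.resolve_left fun e' => ?_
      obtain ⟨x, y, hxy⟩ := psl_nontrivial (K := K)
      exact hxy (Matrix.ProjectiveSpecialLinearGroup.toPGL_injective (by
        rw [Subgroup.eq_bot_iff_forall] at e'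
        rw [e' _ ⟨x, rfl⟩, e' _ ⟨y, rfl⟩]))
    exact ⟨K, hK, hKf, ⟨eX.trans (MulEquiv.ofBijective _
      ⟨Matrix.ProjectiveSpecialLinearGroup.toPGL_injective, MonoidHom.range_eq_top.1 htop⟩).symm⟩⟩

end KleinCent

end CfsgLib.Recog.NonCA
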