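import Cfsg.Agent.Lib.Recog.NonCA.TIFamily
import Cfsg.Agent.Lib.Char.Linear
import Cfsg.Agent.Lib.Coprime.Abelian
import Mathlib.Data.Set.Card.Arithmetic

/-!
A Suzuki type lemma: an abelian subgroup that is the centraliser of each of its elements of even
order and is not normal is an elementary abelian 2-group modulo `Z`.
-/

set_option autoImplicit false
set_option linter.unusedSectionVars false

namespace CfsgLib.Recog.NonCA

open CfsgLib.Invol CfsgLib.Char
open scoped Classical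

universe u

/-- The linear characters trivial on a subgroup of an abelian group are as many as its index. -/
theorem card_hom_trivial {A : Type u} [Group A] [Finite A] (hA : ∀ a b : A, a * b = b * a)
    (X : Subgroup A) : Nat.card {φ : A →* ℂˣ // ∀ x ∈ X, φ x = 1} = X.index := by
  have : X.Normal := ⟨fun n hn g => by rwa [hA g n, mul_inv_cancel_right]⟩
  have hq : ∀ a b : A ⧸ X, a * b = b * a := fun a b => by
    obtain ⟨a, rfl⟩ := QuotientGroup.mk_surjective a
    obtain ⟨b, rfl⟩ := QuotientGroup.mk_surjective b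
    rw [← QuotientGroup.mk_mul, hA, QuotientGroup.mk_mul]
  have e : (A ⧸ X →* ℂˣ) ≃ {φ : A →* ℂˣ // ∀ x ∈ X, φ x = 1} :=
    { toFun := fun φ => ⟨φ.comp (QuotientGroup.mk' X), fun x hx => by
        rw [MonoidHom.comp_apply, QuotientGroup.mk'_apply, (QuotientGroup.eq_one_iff x).2 hx,
          map_one]⟩
      invFun := fun φ => QuotientGroup.lift X φ.1 fun x hx => φ.2 x hx
      left_inv := fun φ => MonoidHom.ext fun a => by
        obtain ⟨a, rfl⟩ := QuotientGroup.mk_surjective a; rfl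
      right_inv := fun φ => Subtype.ext (MonoidHom.ext fun a => rfl) }
  have hc : commutator (A ⧸ X) = ⊥ := by
    rw [commutator_def, Subgroup.commutator_eq_bot_iff_le_centralizer]
    exact fun a _ => Subgroup.mem_centralizer_iff.2 fun b _ => hq b a
  rw [← Nat.card_congr e, natCard_linear, hc, Subgroup.index_bot, ← Subgroup.index_eq_card]

theorem finite_hom {A : Type u} [Group A] [Finite A] : Finite (A →* ℂˣ) :=
  Nat.finite_of_card_ne_zero (by rw [natCard_linear]; exact Subgroup.index_ne_zero_of_finite)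

/-- A linear character trivial on `X` and not at a given element outside `X`. -/
theorem exists_hom_trivial {A : Type u} [Group A] [Finite A] (hA : ∀ a b : A, a * b = b * a)
    (X : Subgroup A) {g : A} (hg : g ∉ X) :
    ∃ φ : A →* ℂˣ, (∀ x ∈ X, φ x = 1) ∧ φ g ≠ 1 := by
  have : X.Normal := ⟨fun n hn g => by rwa [hA g n, mul_inv_cancel_right]⟩
  obtain ⟨φ, hφ⟩ := exists_linear_ne_one (G := A ⧸ X) (fun a b => by
    obtain ⟨a, rfl⟩ := QuotientGroup.mk_surjective a
    obtain ⟨b, rfl⟩ := QuotientGroup.mk_surjective b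
    rw [← QuotientGroup.mk_mul, hA, QuotientGroup.mk_mul]) (g := (g : A ⧸ X))
    (fun h => hg ((QuotientGroup.eq_one_iff g).1 h))
  exact ⟨φ.comp (QuotientGroup.mk' X), fun x hx => by
    rw [MonoidHom.comp_apply, QuotientGroup.mk'_apply, (QuotientGroup.eq_one_iff x).2 hx, map_one],
    hφ⟩

/-- The odd part of `|B|`. -/
noncomputable def oddExp {G : Type u} [Group G] [Fintype G] (P : Sylow 2 G) (B : Subgroup G) : ℕ :=
  ((P : Subgroup G).subgroupOf B).index

/-- `ψ` is unchanged by the conjugation with `h`. -/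
def Fixes {G : Type u} [Group G] (B : Subgroup G) (h : G) (ψ : B →* ℂˣ) : Prop :=
  ∀ b b' : B, (b' : G) = h * b * h⁻¹ → ψ b' = ψ b

namespace TIData

variable {G : Type u} [Group G] [Fintype G] {P : Sylow 2 G} {B Z : Subgroup G} (d : TIData P B Z)
include d

local notation "NB" => Subgroup.normalizer (B : Set G)

theorem commB (a b : B) : a * b = b * a := Subtype.ext (d.comm a a.2 b b.2)

/-- The power map killing the odd part. -/
noncomputable def projTwo : B →* B where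
  toFun b := b ^ (oddExp P B)
  map_one' := one_pow _
  map_mul' a b := (show Commute a b from d.commB a b).mul_pow _

/-- The elements of odd order. -/
noncomputable def oddSub : Subgroup B := d.projTwo.ker

theorem card_P' : Nat.card ((P : Subgroup G).subgroupOf B) = Nat.card (P : Subgroup G) :=
  Nat.card_congr (Subgroup.subgroupOfEquivOfLe d.pB).toEquiv

theorem card_B_eq : Nat.card (P : Subgroup G) * (oddExp P B) = Nat.card B := by
  rw [← d.card_P', oddExp, Subgroup.card_mul_index]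

theorem odd_oddExp : Odd (oddExp P B) := by
  rw [oddExp, ← Nat.not_even_iff_odd, even_iff_two_dvd]
  have hdvd : ((P : Subgroup G).subgroupOf B).index ∣ (P : Subgroup G).index :=
    Subgroup.relIndex_dvd_index_of_le d.pB
  exact fun h => P.not_dvd_index (h.trans hdvd)

theorem proj_mem (b : B) : ((d.projTwo b : B) : G) ∈ (P : Subgroup G) := by
  refine d.mem_P_of_isPGroup (d.projTwo b).2 ?_
  obtain ⟨t, ht⟩ := IsPGroup.iff_card.1 P.isPGroup'
  intro ⟨y, hy⟩
  obtain ⟨i, rfl⟩ := Subgroup.mem_zpowers_iff.1 hy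
  refine ⟨t, Subtype.ext ?_⟩
  have h1 : ((d.projTwo b : B) : G) ^ 2 ^ t = 1 := by
    show ((b ^ (oddExp P B) : B) : G) ^ 2 ^ t = 1
    rw [← Subgroup.coe_pow, ← pow_mul, mul_comm, ← ht, d.card_B_eq, pow_card_eq_one',
      OneMemClass.coe_one]
  show (((d.projTwo b : B) : G) ^ i) ^ 2 ^ t = 1
  rw [← zpow_natCast, ← zpow_mul, mul_comm, zpow_mul, zpow_natCast, h1, one_zpow]

theorem mem_oddSub {b : B} : b ∈ d.oddSub ↔ Odd (orderOf (b : G)) := by
  rw [oddSub, MonoidHom.mem_ker, Subgroup.orderOf_coe]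
  show b ^ (oddExp P B) = 1 ↔ _
  rw [← orderOf_dvd_iff_pow_eq_one]
  refine ⟨fun h => d.odd_oddExp.of_dvd_nat h, fun h => ?_⟩
  have h1 : orderOf b ∣ Nat.card (P : Subgroup G) * (oddExp P B) := d.card_B_eq ▸ orderOf_dvd_natCard b
  obtain ⟨t, ht⟩ := IsPGroup.iff_card.1 P.isPGroup'
  rw [ht] at h1
  exact ((Nat.coprime_two_right.2 h).pow_right t).dvd_of_dvd_mul_left h1

theorem eq_one_of_P_odd {b : B} (hb : (b : G) ∈ (P : Subgroup G)) (ho : b ∈ d.oddSub) : b = 1 := by
  by_contra h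
  exact (d.mem_oddSub.1 ho).not_two_dvd_nat
    (d.two_dvd_orderOf hb fun e => h (Subtype.ext e))

/-- Each element is a product of an element of `P` and one of odd order. -/
theorem exists_decomp (b : B) :
    ∃ p r : B, (p : G) ∈ (P : Subgroup G) ∧ r ∈ d.oddSub ∧ b = p * r := by
  let P' := (P : Subgroup G).subgroupOf B
  let σ : P' → P' := fun p => ⟨d.projTwo p, d.proj_mem _⟩
  have hσ : Function.Injective σ := by
    intro p q h
    have h' : d.projTwo (p : B) = d.projTwo q := congrArg Subtype.val h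
    refine Subtype.ext (inv_mul_eq_one.1 (d.eq_one_of_P_odd (b := (p : B)⁻¹ * q)
      (mul_mem (inv_mem p.2) q.2) ?_))
    rw [oddSub, MonoidHom.mem_ker, map_mul, map_inv, h', inv_mul_cancel]
  obtain ⟨p, hp⟩ := (Finite.injective_iff_surjective.1 hσ) ⟨d.projTwo b, d.proj_mem b⟩
  refine ⟨p, (p : B)⁻¹ * b, p.2, ?_, (mul_inv_cancel_left _ _).symm⟩
  have hp' : d.projTwo (p : B) = d.projTwo b := congrArg Subtype.val hp
  rw [oddSub, MonoidHom.mem_ker, map_mul, map_inv, hp', inv_mul_cancel]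

theorem index_oddSub : d.oddSub.index = Nat.card (P : Subgroup G) := by
  rw [oddSub, Subgroup.index_ker, ← d.card_P']
  have h : d.projTwo.range = (P : Subgroup G).subgroupOf B := by
    refine le_antisymm ?_ fun p hp => ?_
    · rintro _ ⟨b, rfl⟩; exact d.proj_mem b
    · let P' := (P : Subgroup G).subgroupOf B
      let σ : P' → P' := fun p => ⟨d.projTwo p, d.proj_mem _⟩
      have hσ : Function.Injective σ := by
        intro p q h
        have h' : d.projTwo (p : B) = d.projTwo q := congrArg Subtype.val h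
        refine Subtype.ext (inv_mul_eq_one.1 (d.eq_one_of_P_odd (b := (p : B)⁻¹ * q)
          (mul_mem (inv_mem p.2) q.2) ?_))
        rw [oddSub, MonoidHom.mem_ker, map_mul, map_inv, h', inv_mul_cancel]
      obtain ⟨q, hq⟩ := (Finite.injective_iff_surjective.1 hσ) ⟨p, hp⟩
      exact ⟨q, congrArg Subtype.val hq⟩
  rw [h]

theorem card_oddSub : Nat.card d.oddSub = ((P : Subgroup G).subgroupOf B).index := by
  refine Nat.eq_of_mul_eq_mul_left (Nat.card_pos (α := (P : Subgroup G))) ?_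
  rw [show ((P : Subgroup G).subgroupOf B).index = (oddExp P B) from rfl, d.card_B_eq,
    ← d.index_oddSub, mul_comm, Subgroup.card_mul_index]

theorem card_oddPart : Nat.card (oddPart B) = Nat.card d.oddSub :=
  Nat.card_congr
    { toFun := fun x => ⟨⟨x.1, x.2.1⟩, d.mem_oddSub.2 x.2.2⟩
      invFun := fun x => ⟨(x.1 : G), x.1.2, d.mem_oddSub.1 x.2⟩
      left_inv := fun x => rfl
      right_inv := fun x => rfl }

theorem Z_le_oddSub {b : B} (hb : (b : G) ∈ Z) : b ∈ d.oddSub :=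
  d.mem_oddSub.2 (d.zodd.of_dvd_nat (Subgroup.orderOf_dvd_natCard Z hb))

theorem fixes_B {h : G} (hh : h ∈ B) (ψ : B →* ℂˣ) : Fixes B h ψ := fun b b' e => by
  congr 1
  exact Subtype.ext (by rw [e, d.comm h hh b b.2, mul_inv_cancel_right])

theorem fixes_mul {g h : G} (hh : h ∈ NB) {ψ : B →* ℂˣ} (hg : Fixes B g ψ) (hψ : Fixes B h ψ) :
    Fixes B (g * h) ψ := fun b b' e => by
  rw [hg ⟨_, d.conj_mem hh b.2⟩ b' (by rw [e]; group), hψ b _ rfl]

theorem fixes_inv {h : G} (hh : h ∈ NB) {ψ : B →* ℂˣ} (hψ : Fixes B h ψ) : Fixes B h⁻¹ ψ :=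
  fun b b' e => (hψ b' b (by rw [e]; group)).symm

/-- The map `b ↦ h b h⁻¹ b⁻¹`. -/
noncomputable def delta {h : G} (hh : h ∈ NB) : B →* B where
  toFun b := ⟨h * b * h⁻¹, d.conj_mem hh b.2⟩ * b⁻¹
  map_one' := Subtype.ext (by simp)
  map_mul' a b := Subtype.ext (by
    simp only [Subgroup.coe_mul, Subgroup.coe_inv]
    calc h * ((a : G) * b) * h⁻¹ * ((a : G) * b)⁻¹
        = h * (a : G) * h⁻¹ * ((h * (b : G) * h⁻¹ * (b : G)⁻¹) * (a : G)⁻¹) := by group
      _ = _ := by
        rw [d.comm _ (mul_mem (d.conj_mem hh b.2) (inv_mem b.2)) _ (inv_mem a.2)]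
        group)

theorem fixes_iff {h : G} (hh : h ∈ NB) (ψ : B →* ℂˣ) :
    Fixes B h ψ ↔ ∀ y ∈ (d.delta hh).range, ψ y = 1 := by
  constructor
  · rintro hf _ ⟨b, rfl⟩
    show ψ (⟨h * b * h⁻¹, d.conj_mem hh b.2⟩ * b⁻¹) = 1
    rw [map_mul, hf b _ rfl, map_inv, mul_inv_cancel]
  · intro hf b b' e
    have h1 : ψ (⟨h * b * h⁻¹, d.conj_mem hh b.2⟩ * b⁻¹) = 1 := hf _ ⟨b, rfl⟩
    rw [map_mul, map_inv, mul_inv_eq_one] at h1
    rw [show b' = ⟨h * b * h⁻¹, d.conj_mem hh b.2⟩ from Subtype.ext e, h1]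

theorem ker_delta {h : G} (hh : h ∈ NB) (hB : h ∉ B) : (d.delta hh).ker = Z.subgroupOf B := by
  ext b
  rw [MonoidHom.mem_ker, Subgroup.mem_subgroupOf]
  show _ * b⁻¹ = 1 ↔ _
  rw [mul_inv_eq_one, Subtype.ext_iff]
  constructor
  · intro e
    by_contra hZ
    exact hB (d.free b b.2 hZ h hh (mul_inv_eq_iff_eq_mul.1 e))
  · exact fun hZ => d.z_conj hZ h

theorem card_fixes {h : G} (hh : h ∈ NB) (hB : h ∉ B) :
    Nat.card {ψ : B →* ℂˣ // Fixes B h ψ} = Nat.card Z := by
  rw [Nat.card_congr (Equiv.subtypeEquivRight fun ψ => d.fixes_iff hh ψ),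
    card_hom_trivial d.commB]
  have h1 : Nat.card (d.delta hh).ker = Nat.card Z := by
    rw [d.ker_delta hh hB]; exact Nat.card_congr (Subgroup.subgroupOfEquivOfLe d.zB).toEquiv
  have h2 := Subgroup.card_mul_index (d.delta hh).ker
  rw [Subgroup.index_ker, h1] at h2
  refine Nat.eq_of_mul_eq_mul_left (Nat.card_pos (α := (d.delta hh).range)) ?_
  rw [Subgroup.card_mul_index, mul_comm, h2]

theorem P_le_range {h : G} (hh : h ∈ NB) (hB : h ∉ B) {b : B} (hb : (b : G) ∈ (P : Subgroup G)) :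
    b ∈ (d.delta hh).range := by
  let P' := (P : Subgroup G).subgroupOf B
  let σ : P' → P' := fun p => ⟨d.delta hh p,
    mul_mem (d.P_conj hh p.2) (inv_mem p.2)⟩
  have hσ : Function.Injective σ := by
    intro p q e
    have e' : d.delta hh (p : B) = d.delta hh q := congrArg Subtype.val e
    have hk : (p : B)⁻¹ * q ∈ (d.delta hh).ker := by
      rw [MonoidHom.mem_ker, map_mul, map_inv, e', inv_mul_cancel]
    rw [d.ker_delta hh hB, Subgroup.mem_subgroupOf] at hk
    exact Subtype.ext (inv_mul_eq_one.1 (d.eq_one_of_P_odd (mul_mem (inv_mem p.2) q.2)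
      (d.Z_le_oddSub hk)))
  obtain ⟨p, hp⟩ := (Finite.injective_iff_surjective.1 hσ) ⟨b, hb⟩
  exact ⟨p, congrArg Subtype.val hp⟩

/-- Representatives of the automiser. -/
theorem exists_rep {v : G} (hv : v ∈ invB B) :
    ∃ r : G → G, ∀ w ∈ invB B, r w ∈ NB ∧ r w * v * (r w)⁻¹ = w := by
  refine ⟨fun w => if hw : w ∈ invB B then (d.exists_normalizer_conj hv hw).choose else 1,
    fun w hw => ?_⟩
  simp only [dif_pos hw]
  exact (d.exists_normalizer_conj hv hw).choose_spec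

theorem rep_spec {v : G} (hv : v ∈ invB B) {r : G → G}
    (hr : ∀ w ∈ invB B, r w ∈ NB ∧ r w * v * (r w)⁻¹ = w) {h : G} (hh : h ∈ NB) :
    h * v * h⁻¹ ∈ invB B ∧ (r (h * v * h⁻¹))⁻¹ * h ∈ B := by
  have hw := d.conj_invB hh hv
  obtain ⟨-, e⟩ := hr _ hw
  refine ⟨hw, d.cen_le_of_two (mem_invB.1 hv).1 (d.two_dvd_of_mem hv) ?_⟩
  calc (r (h * v * h⁻¹))⁻¹ * h * v = (r (h * v * h⁻¹))⁻¹ * (h * v * h⁻¹) * h := by group
    _ = (r (h * v * h⁻¹))⁻¹ * (r (h * v * h⁻¹) * v * (r (h * v * h⁻¹))⁻¹) * h := by rw [e]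
    _ = v * ((r (h * v * h⁻¹))⁻¹ * h) := by group

/-- With a small odd part one element generates the automiser. -/
theorem exists_generator (hsmall : Nat.card (oddPart B) < (invB B).card * Nat.card Z) :
    ∃ g ∈ NB, g ∉ B ∧ ∀ h ∈ NB, ∃ (i : ℤ) (b : G), b ∈ B ∧ h = g ^ i * b := by
  let N : Subgroup NB := B.subgroupOf NB
  let a : NB →* MulAut d.omega :=
    { toFun := fun h =>
        { toFun := fun x => ⟨(h : G) * x * (h : G)⁻¹, d.conj_mem h.2 x.2.1, by
            rw [conj_mul, x.2.2, mul_one, mul_inv_cancel]⟩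
          invFun := fun x => ⟨(h : G)⁻¹ * x * h, d.conj_mem' h.2 x.2.1, by
            rw [show (h : G)⁻¹ * x * h * ((h : G)⁻¹ * x * h) = (h : G)⁻¹ * ((x : G) * x) * h by
              group, x.2.2, mul_one, inv_mul_cancel]⟩
          left_inv := fun x => Subtype.ext (by simp [mul_assoc])
          right_inv := fun x => Subtype.ext (by simp [mul_assoc])
          map_mul' := fun x y => Subtype.ext (by simp [mul_assoc]) }
      map_one' := MulEquiv.ext fun x => Subtype.ext (by simp)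
      map_mul' := fun g h => MulEquiv.ext fun x => Subtype.ext (by simp [mul_assoc]) }
  have hN : N ≤ a.ker := fun h hh => by
    refine MulEquiv.ext fun x => Subtype.ext ?_
    show (h : G) * x * (h : G)⁻¹ = x
    rw [d.comm h hh x x.2.1, mul_inv_cancel_right]
  let φ : NB ⧸ N →* MulAut d.omega := QuotientGroup.lift N a hN
  have : IsMulCommutative d.omega := ⟨⟨fun x y => Subtype.ext (d.comm x x.2.1 y y.2.1)⟩⟩
  have : IsMulCommutative (NB ⧸ N) := ⟨⟨fun x y => by
    obtain ⟨x, rfl⟩ := QuotientGroup.mk_surjective x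
    obtain ⟨y, rfl⟩ := QuotientGroup.mk_surjective y
    rw [← QuotientGroup.mk_mul, ← QuotientGroup.mk_mul, QuotientGroup.eq]
    show (((x * y)⁻¹ * (y * x) : NB) : G) ∈ B
    have h := d.comm_mem_B hsmall _ (inv_mem y.2) _ (inv_mem x.2)
    simpa [mul_assoc] using h⟩⟩
  obtain ⟨v, hv⟩ := d.exists_inv
  have : Nontrivial d.omega :=
    ⟨⟨⟨v, (mem_invB.1 hv).1, invol_mul_self (mem_invB.1 hv).2⟩, 1, fun h =>
      invol_ne_one (mem_invB.1 hv).2 (congrArg Subtype.val h)⟩⟩
  have hcard : Nat.card (NB ⧸ N) = (invB B).card := by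
    rw [← Subgroup.index_eq_card]
    refine Nat.eq_of_mul_eq_mul_left (Nat.card_pos (α := B)) ?_
    rw [← Nat.card_congr (Subgroup.subgroupOfEquivOfLe d.B_le).toEquiv, Subgroup.card_mul_index,
      d.card_normalizer, Nat.card_congr (Subgroup.subgroupOfEquivOfLe d.B_le).toEquiv, mul_comm]
  have hcyc : IsCyclic (NB ⧸ N) := by
    by_contra hnc
    open scoped IsMulCommutative in
    obtain ⟨x, hx1, w, hw1, hfix⟩ := CfsgLib.Coprime.exists_ne_one_fixed_of_not_isCyclic φ (by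
      rw [hcard]
      obtain ⟨t, ht⟩ := IsPGroup.iff_card.1 (P.isPGroup'.to_le d.omega_le)
      rw [ht]
      exact (Nat.coprime_two_right.2 d.odd_e).pow_right t) hnc
    obtain ⟨h, rfl⟩ := QuotientGroup.mk_surjective x
    refine hx1 ((QuotientGroup.eq_one_iff h).2 ?_)
    have hfix' : (h : G) * w * (h : G)⁻¹ = w := congrArg Subtype.val hfix
    exact d.cen_le_of_two w.2.1
      (d.two_dvd_orderOf (d.omega_le w.2) fun e => hw1 (Subtype.ext e))
      (mul_inv_eq_iff_eq_mul.1 hfix')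
  obtain ⟨q, hq⟩ := hcyc.exists_generator
  obtain ⟨g, rfl⟩ := QuotientGroup.mk_surjective q
  refine ⟨g, g.2, fun hgB => ?_, fun h hh => ?_⟩
  · have h1 : ∀ x : NB ⧸ N, x = 1 := fun x => by
      obtain ⟨i, rfl⟩ := Subgroup.mem_zpowers_iff.1 (hq x)
      rw [(QuotientGroup.eq_one_iff g).2 hgB, one_zpow]
    have : Subsingleton (NB ⧸ N) := ⟨fun x y => (h1 x).trans (h1 y).symm⟩
    have := d.three_le
    rw [← hcard, Nat.card_eq_fintype_card] at this
    have := Fintype.card_le_one_iff_subsingleton.2 ‹Subsingleton (NB ⧸ N)›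
    omega
  · obtain ⟨i, hi⟩ := Subgroup.mem_zpowers_iff.1 (hq ((⟨h, hh⟩ : NB) : NB ⧸ N))
    rw [← QuotientGroup.mk_zpow, QuotientGroup.eq] at hi
    refine ⟨i, (((g ^ i)⁻¹ * ⟨h, hh⟩ : NB) : G), Subgroup.mem_subgroupOf.1 hi, ?_⟩
    simp

/-- A linear character of the odd part moved by every element outside `B`. -/
theorem exists_free (hD : Nat.card Z < Nat.card d.oddSub) :
    ∃ lam : B →* ℂˣ, (∀ b : B, (b : G) ∈ (P : Subgroup G) → lam b = 1) ∧
      ∀ h ∈ NB, h ∉ B → ¬ Fixes B h lam := by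
  have : Finite (B →* ℂˣ) := finite_hom
  let P' := (P : Subgroup G).subgroupOf B
  let L : Set (B →* ℂˣ) := {ψ | ∀ b ∈ P', ψ b = 1}
  have hL : L.ncard = Nat.card d.oddSub := by
    rw [← Nat.card_coe_set_eq, d.card_oddSub]
    exact card_hom_trivial d.commB P'
  have hF : ∀ h ∈ NB, h ∉ B → {ψ : B →* ℂˣ | Fixes B h ψ}.ncard = Nat.card Z := fun h hh hB => by
    rw [← Nat.card_coe_set_eq]; exact d.card_fixes hh hB
  by_cases hbig : (invB B).card * Nat.card Z ≤ Nat.card d.oddSub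
  · obtain ⟨v, hv⟩ := d.exists_inv
    obtain ⟨r, hr⟩ := d.exists_rep hv
    let bad : Set (B →* ℂˣ) := ⋃ w ∈ (invB B).erase v, {ψ | Fixes B (r w) ψ}
    have hbad : bad.ncard ≤ ((invB B).card - 1) * Nat.card Z := by
      refine le_trans (Finset.set_ncard_biUnion_le _ _) ?_
      rw [← Finset.card_erase_of_mem hv, ← smul_eq_mul, ← Finset.sum_const]
      refine Finset.sum_le_sum fun w hw => le_of_eq ?_
      obtain ⟨hwv, hwB⟩ := Finset.mem_erase.1 hw
      refine hF _ (hr w hwB).1 fun hB => hwv ?_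
      rw [← (hr w hwB).2, d.comm _ hB v (mem_invB.1 hv).1, mul_inv_cancel_right]
    have hlt : bad.ncard < L.ncard := by
      rw [hL]
      have h3 := d.three_le
      have hz : 0 < Nat.card Z := Nat.card_pos
      have : ((invB B).card - 1) * Nat.card Z < (invB B).card * Nat.card Z :=
        Nat.mul_lt_mul_of_pos_right (by omega) hz
      omega
    obtain ⟨lam, hlam, hnb⟩ := Set.exists_mem_notMem_of_ncard_lt_ncard hlt
    refine ⟨lam, fun b hb => hlam b hb, fun h hh hB hfix => hnb ?_⟩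
    obtain ⟨hw, hb⟩ := d.rep_spec hv hr hh
    refine Set.mem_biUnion (x := h * v * h⁻¹) (Finset.mem_erase.2 ⟨fun e => hB ?_, hw⟩) ?_
    · exact d.cen_le_of_two (mem_invB.1 hv).1 (d.two_dvd_of_mem hv) (mul_inv_eq_iff_eq_mul.1 e)
    · show Fixes B (r (h * v * h⁻¹)) lam
      have h1 := d.fixes_mul (d.B_le (inv_mem hb)) hfix (d.fixes_B (inv_mem hb) lam)
      rwa [show h * ((r (h * v * h⁻¹))⁻¹ * h)⁻¹ = r (h * v * h⁻¹) by group] at h1
  · push Not at hbig
    rw [← d.card_oddPart] at hbig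
    obtain ⟨g, hg, hgB, hgen⟩ := d.exists_generator hbig
    obtain ⟨lam, hlam, hnf⟩ := Set.exists_mem_notMem_of_ncard_lt_ncard
      (s := {ψ : B →* ℂˣ | Fixes B g ψ}) (t := L) (by rw [hF g hg hgB, hL]; exact hD)
    refine ⟨lam, fun b hb => hlam b hb, fun h hh hB hfix => hnf ?_⟩
    have hsub : {ψ : B →* ℂˣ | Fixes B g ψ} ⊆ {ψ | Fixes B h ψ} := by
      intro ψ hψ
      obtain ⟨i, b, hb, rfl⟩ := hgen h hh
      let S : Subgroup G :=
        { carrier := {x | x ∈ NB ∧ Fixes B x ψ}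
          mul_mem' := fun {x y} hx hy => ⟨mul_mem hx.1 hy.1, d.fixes_mul hy.1 hx.2 hy.2⟩
          one_mem' := ⟨one_mem _, d.fixes_B (one_mem B) ψ⟩
          inv_mem' := fun {x} hx => ⟨inv_mem hx.1, d.fixes_inv hx.1 hx.2⟩ }
      exact (mul_mem (zpow_mem (show g ∈ S from ⟨hg, hψ⟩) i)
        (show b ∈ S from ⟨d.B_le hb, d.fixes_B hb ψ⟩)).2
    have heq := Set.eq_of_subset_of_ncard_le hsub (by rw [hF h hh hB, hF g hg hgB])
      (Set.toFinite _)
    exact heq.symm ▸ hfix

/-- The family for an elementary Sylow subgroup. -/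
theorem false_of_elementary (hP : ∀ p ∈ (P : Subgroup G), p * p = 1) {b₀ : G} (hb₀ : b₀ ∈ B)
    (hb₀Z : b₀ * b₀ ∉ Z) : False := by
  have : Finite (B →* ℂˣ) := finite_hom
  have hD : Nat.card Z < Nat.card d.oddSub := by
    by_contra hle
    push Not at hle
    rw [← Nat.card_congr (Subgroup.subgroupOfEquivOfLe d.zB).toEquiv] at hle
    have heq : Z.subgroupOf B = d.oddSub :=
      Subgroup.eq_of_le_of_card_ge (fun b hb => d.Z_le_oddSub hb) hle
    obtain ⟨p, r, hp, hr, e⟩ := d.exists_decomp ⟨b₀, hb₀⟩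
    rw [← heq, Subgroup.mem_subgroupOf] at hr
    refine hb₀Z ?_
    have e' : b₀ = (p : G) * r := congrArg Subtype.val e
    rw [e', show (p : G) * r * ((p : G) * r) = (p : G) * p * (r * r) by
      rw [mul_assoc, ← mul_assoc (r : G), d.comm r r.2 p p.2, mul_assoc, ← mul_assoc],
      hP _ hp, one_mul]
    exact mul_mem hr hr
  obtain ⟨lam, hlamP, hfree⟩ := d.exists_free hD
  obtain ⟨k, hk⟩ : ∃ k, k = Nat.card {ψ : B →* ℂˣ // ∀ x ∈ d.oddSub, ψ x = 1} := ⟨_, rfl⟩
  have hkP : k = Nat.card (P : Subgroup G) := by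
    rw [hk, card_hom_trivial d.commB, d.index_oddSub]
  let q : Fin k ≃ {ψ : B →* ℂˣ // ∀ x ∈ d.oddSub, ψ x = 1} :=
    ((Nat.equivFinOfCardPos (by rw [← hk, hkP]; exact Nat.card_pos.ne')).trans
      (finCongr hk.symm)).symm
  let ψ : Fin k → (B →* ℂˣ) := fun i => lam * (q i).1
  have hfam : TIFam B k ψ := by
    refine ⟨fun i j b hb => ?_, fun i j h hh hij => ?_⟩
    · simp only [ψ, MonoidHom.mul_apply, (q i).2 b (d.mem_oddSub.2 hb),
        (q j).2 b (d.mem_oddSub.2 hb)]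
    · have hfix : Fixes B h lam := by
        intro b b' e
        obtain ⟨p, r, hp, hr, rfl⟩ := d.exists_decomp b
        obtain ⟨p', hp'⟩ : ∃ p' : B, (p' : G) = h * p * h⁻¹ :=
          ⟨⟨_, d.conj_mem hh p.2⟩, rfl⟩
        obtain ⟨r', hr'⟩ : ∃ r' : B, (r' : G) = h * r * h⁻¹ :=
          ⟨⟨_, d.conj_mem hh r.2⟩, rfl⟩
        have hr'D : r' ∈ d.oddSub := d.mem_oddSub.2 (by
          rw [hr', orderOf_conj_eq]; exact d.mem_oddSub.1 hr)
        have h1 := hij r r' hr'
        simp only [ψ, MonoidHom.mul_apply, (q i).2 r' hr'D, (q j).2 r hr, mul_one] at h1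
        rw [show b' = p' * r' from Subtype.ext (by
            rw [e, Subgroup.coe_mul, Subgroup.coe_mul, hp', hr']; group),
          map_mul, map_mul, hlamP p hp, hlamP p' (by rw [hp']; exact d.P_conj hh hp), h1]
      have hB : h ∈ B := by_contra fun hB => hfree h hh hB hfix
      refine ⟨q.injective (Subtype.ext (MonoidHom.ext fun b => ?_)), hB⟩
      have h1 := hij b b (by rw [d.comm h hB b b.2, mul_inv_cancel_right])
      simp only [ψ, MonoidHom.mul_apply, mul_right_inj] at h1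
      exact h1
  obtain ⟨v, hv⟩ := d.exists_inv
  have hvD : (⟨v, (mem_invB.1 hv).1⟩ : B) ∉ d.oddSub := fun h =>
    (d.mem_oddSub.1 h).not_two_dvd_nat (d.two_dvd_of_mem hv)
  obtain ⟨μ, hμ, hμv⟩ := exists_hom_trivial d.commB _ hvD
  have hPmem : ∀ b : B, (b : G) ∈ invB B → (b : G) ∈ (P : Subgroup G) := fun b hb =>
    d.omega_le ⟨(mem_invB.1 hb).1, invol_mul_self (mem_invB.1 hb).2⟩
  refine d.no_family hfam ?_ (i₁ := q.symm ⟨1, fun _ _ => rfl⟩) (i₂ := q.symm ⟨μ, hμ⟩)
    (fun b hb => ?_) ⟨⟨v, (mem_invB.1 hv).1⟩, hv, ?_⟩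
  · rw [hkP]
    have := d.card_omega ▸ Subgroup.card_le_of_le d.omega_le
    omega
  · simp only [ψ, Equiv.apply_symm_apply, MonoidHom.mul_apply, MonoidHom.one_apply, mul_one]
    exact hlamP b (hPmem b hb)
  · simp only [ψ, Equiv.apply_symm_apply, MonoidHom.mul_apply]
    rw [hlamP _ (hPmem _ hv), one_mul]
    exact hμv

/-- The family for a Sylow subgroup which is not elementary. -/
theorem false_of_not_elementary (hP : ¬ ∀ p ∈ (P : Subgroup G), p * p = 1) : False := by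
  have : Finite (B →* ℂˣ) := finite_hom
  push Not at hP
  obtain ⟨p, hpP, hp2⟩ := hP
  -- a square of order two
  obtain ⟨u, huP, hu⟩ : ∃ u ∈ (P : Subgroup G), orderOf (u * u) = 2 := by
    obtain ⟨t, ht⟩ := P.isPGroup' ⟨p, hpP⟩
    have hd : orderOf p ∣ 2 ^ t :=
      orderOf_dvd_of_pow_eq_one (by simpa using congrArg Subtype.val ht)
    obtain ⟨j, -, hj⟩ := (Nat.dvd_prime_pow Nat.prime_two).1 hd
    rcases j with _ | _ | j
    · exact absurd (by simp [orderOf_eq_one_iff.1 (hj.trans (pow_zero 2))]) hp2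
    · exact absurd (invol_mul_self (hj.trans (pow_one 2))) hp2
    · refine ⟨p ^ 2 ^ j, pow_mem hpP _, ?_⟩
      rw [← pow_add, ← two_mul, ← pow_succ', orderOf_pow' _ (by positivity), hj,
        Nat.gcd_eq_right (pow_dvd_pow 2 (by omega)), pow_succ' 2 (j + 1),
        Nat.mul_div_cancel _ (by positivity)]
  have huu : u * u ∈ invB B := mem_invB.2 ⟨mul_mem (d.pB huP) (d.pB huP), hu⟩
  have hPsq : ((invB B).card + 1) * ((invB B).card + 1) ≤ Nat.card (P : Subgroup G) := by
    have : IsMulCommutative (P : Subgroup G) :=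
      ⟨⟨fun a b => Subtype.ext (d.comm a (d.pB a.2) b (d.pB b.2))⟩⟩
    open scoped IsMulCommutative in
    let sq : (P : Subgroup G) →* (P : Subgroup G) := powMonoidHom 2
    have hr : Nat.card d.omega ≤ Nat.card sq.range := by
      refine Nat.card_le_card_of_injective (fun x => ⟨⟨(x : G), d.omega_le x.2⟩, ?_⟩) ?_
      · by_cases hx : (x : G) = 1
        · exact ⟨1, Subtype.ext (by simp [sq, hx])⟩
        · obtain ⟨h, hh, e⟩ := d.exists_normalizer_conj huu
            (mem_invB.2 ⟨x.2.1, invol_of_mul_self x.2.2 hx⟩)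
          refine ⟨⟨h * u * h⁻¹, d.P_conj hh huP⟩, Subtype.ext ?_⟩
          show (h * u * h⁻¹) ^ 2 = (x : G)
          rw [pow_two, conj_mul, e]
      · exact fun x y e => Subtype.ext (congrArg (fun z => ((z.1 : (P : Subgroup G)) : G)) e :)
    have hk : Nat.card sq.ker = Nat.card d.omega := Nat.card_congr
      { toFun := fun x => ⟨((x : (P : Subgroup G)) : G), d.pB x.1.2, by
          have h := congrArg Subtype.val (MonoidHom.mem_ker.1 x.2)
          simpa [sq, pow_two] using h⟩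
        invFun := fun x => ⟨⟨(x : G), d.omega_le x.2⟩, MonoidHom.mem_ker.2 (Subtype.ext (by
          show (x : G) ^ 2 = 1
          rw [pow_two, x.2.2]))⟩
        left_inv := fun x => rfl
        right_inv := fun x => rfl }
    rw [← d.card_omega, ← Subgroup.card_mul_index sq.ker, Subgroup.index_ker, hk]
    exact Nat.mul_le_mul_left _ hr
  -- the nontrivial characters of `B` modulo the odd part, up to conjugation
  let M := {ψ : B →* ℂˣ // (∀ x ∈ d.oddSub, ψ x = 1) ∧ ψ ≠ 1}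
  let rel : M → M → Prop := fun μ μ' =>
    ∃ h ∈ NB, ∀ b b' : B, (b' : G) = h * b * h⁻¹ → μ.1 b' = μ'.1 b
  have hrel : Equivalence rel := by
    refine ⟨fun μ => ⟨1, one_mem _, d.fixes_B (one_mem B) μ.1⟩, ?_, ?_⟩
    · rintro μ μ' ⟨h, hh, e⟩
      exact ⟨h⁻¹, inv_mem hh, fun b b' eb => (e b' b (by rw [eb]; group)).symm⟩
    · rintro μ μ' μ'' ⟨h, hh, e⟩ ⟨g, hg, e'⟩
      refine ⟨h * g, mul_mem hh hg, fun b b' eb => ?_⟩
      rw [e ⟨_, d.conj_mem hg b.2⟩ b' (by rw [eb]; group), e' b _ rfl]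
  let S : Setoid M := ⟨rel, hrel⟩
  have hfree : ∀ μ : M, ∀ h ∈ NB, h ∉ B → ¬ Fixes B h μ.1 := by
    intro μ h hh hB hfix
    refine μ.2.2 (MonoidHom.ext fun b => ?_)
    obtain ⟨p, r, hp, hr, rfl⟩ := d.exists_decomp b
    rw [map_mul, μ.2.1 r hr, mul_one, MonoidHom.one_apply]
    exact (d.fixes_iff hh μ.1).1 hfix p (d.P_le_range hh hB hp)
  obtain ⟨k, hk⟩ : ∃ k, k = Nat.card (Quotient S) := ⟨_, rfl⟩
  have hMcard : Nat.card M + 1 = Nat.card (P : Subgroup G) := by
    rw [← d.index_oddSub, ← card_hom_trivial d.commB]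
    have := Fintype.ofFinite (B →* ℂˣ)
    rw [Nat.card_eq_fintype_card, Nat.card_eq_fintype_card, Fintype.card_subtype,
      Fintype.card_subtype]
    rw [show (Finset.univ.filter fun ψ : B →* ℂˣ => (∀ x ∈ d.oddSub, ψ x = 1) ∧ ψ ≠ 1) =
      (Finset.univ.filter fun ψ : B →* ℂˣ => ∀ x ∈ d.oddSub, ψ x = 1).erase 1 by
        ext; simp [and_comm]]
    exact Finset.card_erase_add_one (Finset.mem_filter.2 ⟨Finset.mem_univ _, fun _ _ => rfl⟩)
  obtain ⟨v, hv⟩ := d.exists_inv
  obtain ⟨r, hr⟩ := d.exists_rep hv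
  -- every orbit has at most `e` members
  have hcount : Nat.card M ≤ Nat.card (Quotient S) * (invB B).card := by
    have hsurj : ∀ μ : M, ∃ x : Quotient S × {w // w ∈ invB B},
        ∀ b b' : B, (b' : G) = r x.2.1 * b * (r x.2.1)⁻¹ → μ.1 b = (x.1.out).1 b' := by
      intro μ
      obtain ⟨h, hh, e⟩ := (Quotient.mk_out μ : rel (Quotient.mk S μ).out μ)
      obtain ⟨hw, hb⟩ := d.rep_spec hv hr hh
      refine ⟨(Quotient.mk S μ, ⟨_, hw⟩), fun b b' eb => (e b b' ?_).symm⟩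
      simp only at eb
      rw [eb]
      obtain ⟨y, hy⟩ : ∃ y, y = (r (h * v * h⁻¹))⁻¹ * h := ⟨_, rfl⟩
      rw [← hy] at hb
      have : r (h * v * h⁻¹) = h * y⁻¹ := by rw [hy]; group
      rw [this]
      calc h * y⁻¹ * b * (h * y⁻¹)⁻¹ = h * (y⁻¹ * b * y) * h⁻¹ := by group
        _ = _ := by rw [d.comm y⁻¹ (inv_mem hb) b b.2, inv_mul_cancel_right]
    choose x hx using hsurj
    refine le_trans (Nat.card_le_card_of_injective x ?_) ?_
    · intro μ μ' e
      refine Subtype.ext (MonoidHom.ext fun b => ?_)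
      have h1 := hx μ b ⟨_, d.conj_mem (hr _ (x μ).2.2).1 b.2⟩ rfl
      have h2 := hx μ' b ⟨_, d.conj_mem (hr _ (x μ).2.2).1 b.2⟩ (by rw [e])
      rw [h1, h2, e]
    · rw [Nat.card_prod, Nat.card_eq_fintype_card (α := {w // w ∈ invB B}), Fintype.card_coe]
  have he3 := d.three_le
  have hke : (invB B).card ≤ k := by
    rw [hk]
    by_contra hlt
    push Not at hlt
    have : Nat.card (Quotient S) * (invB B).card ≤ (invB B).card * (invB B).card :=
      Nat.mul_le_mul_right _ hlt.le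
    nlinarith
  let q : Fin k ≃ Quotient S :=
    ((Nat.equivFinOfCardPos (by omega)).trans (finCongr hk.symm)).symm
  let ψ : Fin k → (B →* ℂˣ) := fun i => ((q i).out).1
  have hfam : TIFam B k ψ := by
    refine ⟨fun i j b hb => ?_, fun i j h hh hij => ?_⟩
    · simp only [ψ, (q i).out.2.1 b (d.mem_oddSub.2 hb), (q j).out.2.1 b (d.mem_oddSub.2 hb)]
    · have hq : q i = q j := by
        rw [← Quotient.out_eq (q i), ← Quotient.out_eq (q j)]
        exact Quotient.sound ⟨h, hh, hij⟩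
      obtain rfl := q.injective hq
      exact ⟨rfl, by_contra fun hB => hfree (q i).out h hh hB hij⟩
  have hvD : (⟨v, (mem_invB.1 hv).1⟩ : B) ∉ d.oddSub := fun h =>
    (d.mem_oddSub.1 h).not_two_dvd_nat (d.two_dvd_of_mem hv)
  obtain ⟨μ₂, hμ₂, hμ₂v⟩ := exists_hom_trivial d.commB _ hvD
  -- a character trivial on the involutions
  let sq' : B →* B :=
    { toFun := fun b => d.projTwo b * d.projTwo b
      map_one' := by simp
      map_mul' := fun a b => by
        rw [map_mul, mul_assoc, ← mul_assoc (d.projTwo b), d.commB (d.projTwo b) (d.projTwo a),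
          mul_assoc, ← mul_assoc] }
  have huX : (⟨u, d.pB huP⟩ : B) ∉ sq'.ker := by
    intro h
    have h1 : ((⟨u, d.pB huP⟩ : B) * ⟨u, d.pB huP⟩) ^ (oddExp P B) = 1 := by
      rw [(show Commute (⟨u, d.pB huP⟩ : B) ⟨u, d.pB huP⟩ from rfl).mul_pow]; exact h
    have h2 := orderOf_dvd_of_pow_eq_one h1
    rw [← Subgroup.orderOf_coe, Subgroup.coe_mul, hu] at h2
    exact d.odd_oddExp.not_two_dvd_nat h2
  obtain ⟨μ₁, hμ₁, hμ₁u⟩ := exists_hom_trivial d.commB _ huX
  have hker : ∀ b : B, b * b = 1 → μ₁ b = 1 := fun b hb => hμ₁ b (MonoidHom.mem_ker.2 (by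
    show d.projTwo b * d.projTwo b = 1
    rw [← map_mul, hb, map_one]))
  let m₁ : M := ⟨μ₁, fun b hb => hμ₁ b (MonoidHom.mem_ker.2 (by
      show d.projTwo b * d.projTwo b = 1
      rw [MonoidHom.mem_ker.1 hb, one_mul])),
    fun e => hμ₁u (by rw [e]; rfl)⟩
  let m₂ : M := ⟨μ₂, hμ₂, fun e => hμ₂v (by rw [e]; rfl)⟩
  refine d.no_family hfam hke (i₁ := q.symm (Quotient.mk S m₁)) (i₂ := q.symm (Quotient.mk S m₂))
    (fun b hb => ?_) ?_
  · simp only [ψ, Equiv.apply_symm_apply]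
    obtain ⟨h, hh, e⟩ := (Quotient.mk_out m₁ : rel (Quotient.mk S m₁).out m₁)
    rw [e ⟨_, d.conj_mem' hh b.2⟩ b (by group)]
    refine hker _ (Subtype.ext ?_)
    show h⁻¹ * b * h * (h⁻¹ * b * h) = 1
    rw [show h⁻¹ * (b : G) * h * (h⁻¹ * b * h) = h⁻¹ * ((b : G) * b) * h by group,
      invol_mul_self (mem_invB.1 hb).2]
    group
  · obtain ⟨h, hh, e⟩ := (Quotient.mk_out m₂ : rel (Quotient.mk S m₂).out m₂)
    refine ⟨⟨h * v * h⁻¹, d.conj_mem hh (mem_invB.1 hv).1⟩, d.conj_invB hh hv, ?_⟩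
    simp only [ψ, Equiv.apply_symm_apply]
    rw [e ⟨v, (mem_invB.1 hv).1⟩ _ rfl]
    exact hμ₂v

end TIData

/-- **The TI character lemma.** -/
theorem sq_mem_of_ti {G : Type u} [Group G] [Finite G] (P : Sylow 2 G) (B Z : Subgroup G)
    (hPc : ¬ IsCyclic (P : Subgroup G)) (hZ : Z ≤ Subgroup.center G) (hZodd : Odd (Nat.card Z))
    (hZB : Z ≤ B) (hPB : (P : Subgroup G) ≤ B) (hB : ∀ a ∈ B, ∀ b ∈ B, a * b = b * a)
    (hcen : ∀ b ∈ B, 2 ∣ orderOf b → Subgroup.centralizer ({b} : Set G) = B)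
    (hfree : ∀ b ∈ B, b ∉ Z → ∀ h ∈ Subgroup.normalizer (B : Set G), h * b = b * h → h ∈ B)
    (hnn : Subgroup.normalizer (B : Set G) ≠ ⊤) : ∀ b ∈ B, b * b ∈ Z := by
  have := Fintype.ofFinite G
  have d : TIData P B Z := ⟨hPc, hZ, hZodd, hZB, hPB, hB, hcen, hfree, hnn⟩
  intro b hb
  by_contra hbZ
  by_cases hP : ∀ p ∈ (P : Subgroup G), p * p = 1
  · exact d.false_of_elementary hP hb hbZ
  · exact d.false_of_not_elementary hP

end CfsgLib.Recog.NonCA
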