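import Cfsg.Agent.Lib.Recog.NonCA.Strong
import Cfsg.Agent.Lib.Recog.NonCA.TIChar
import Cfsg.Agent.Lib.Recog.NonCA.KleinChar
import Cfsg.Agent.Lib.Recog.GenDihedral.ReduceOuter
import Cfsg.Agent.Lib.Invol.CAInvol

/-!
A perfect group without bad 2-elements is, modulo its centre, `PSL₂(q)`.
-/

set_option autoImplicit false
set_option linter.unusedSectionVars false
set_option maxHeartbeats 1000000

namespace CfsgLib.Recog.NonCA

open CfsgLib.Recog.GenDihedral (isSolvable_of_cyclic_sylow isSolvable_of_normal_sylow)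

universe u

variable {G : Type u} [Group G]

local notation "Z(G)" => Subgroup.center G
local notation "cen(" x ")" => Subgroup.centralizer ({x} : Set G)

/-- The elements commuting with `v` modulo the centre. -/
def cenMod (v : G) : Subgroup G where
  carrier := {g | cm g v ∈ Z(G)}
  one_mem' := by
    show cm 1 v ∈ Z(G)
    rw [cm_center_left (one_mem _)]
    exact one_mem _
  mul_mem' {g h} hg hh := by
    show cm (g * h) v ∈ Z(G)
    rw [cm_mul_left hh]
    exact mul_mem hg hh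
  inv_mem' {g} hg := by
    show cm g⁻¹ v ∈ Z(G)
    rw [cm_inv_left hg]
    exact inv_mem hg

theorem mem_cenMod {g v : G} : g ∈ cenMod v ↔ cm g v ∈ Z(G) := Iff.rfl

theorem cen_le_cenMod (v : G) : cen(v) ≤ cenMod v := fun g hg => by
  rw [mem_cenMod, cm_eq_one.2 (mem_cen.1 hg)]
  exact one_mem _

theorem mem_cenMod_iff {g v : G} : g ∈ cenMod v ↔
    QuotientGroup.mk' Z(G) g * QuotientGroup.mk' Z(G) v =
      QuotientGroup.mk' Z(G) v * QuotientGroup.mk' Z(G) g := by
  rw [mem_cenMod, ← cm_eq_one, ← QuotientGroup.eq_one_iff]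
  exact Iff.of_eq (congrArg (· = 1) (by simp [cm]))

theorem cenMod_sq {v g : G} (hv : v * v ∈ Z(G)) (hg : g ∈ cenMod v) : g * g ∈ cen(v) := by
  have h1 : cm g v * cm g v = 1 := by
    rw [← cm_mul_right hg, cm_center_right hv]
  rw [mem_cen, ← cm_eq_one, cm_mul_left hg, h1]

theorem cenMod_conj {v g b : G} (hg : g ∈ cenMod v) (hb : b ∈ cen(v)) :
    g * b * g⁻¹ ∈ cen(v) := by
  have hc : ∀ x : G, x * cm g v = cm g v * x := mem_center.1 hg
  have h1 : (g * b * g⁻¹) * (g * v * g⁻¹) = (g * v * g⁻¹) * (g * b * g⁻¹) := by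
    calc (g * b * g⁻¹) * (g * v * g⁻¹) = g * (b * v) * g⁻¹ := by group
      _ = g * (v * b) * g⁻¹ := by rw [mem_cen.1 hb]
      _ = _ := by group
  rw [← cm_mul g v, ← mul_assoc _ (cm g v) v, hc, mul_assoc (cm g v), mul_assoc (cm g v)] at h1
  exact mem_cen.2 (mul_left_cancel h1)

variable [Finite G]

/-- The 2-part of an element is an odd power of it. -/
theorem exists_two_pow (g : G) : ∃ j k : ℕ, (g ^ (2 * j + 1)) ^ 2 ^ k = 1 ∧
    (2 ∣ orderOf g → g ^ (2 * j + 1) ≠ 1) := by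
  obtain ⟨k, m, ⟨j, rfl⟩, e⟩ := Nat.exists_eq_two_pow_mul_odd (orderOf_pos g).ne'
  refine ⟨j, k, by rw [← pow_mul, mul_comm, ← e, pow_orderOf_eq_one], fun h h1 => ?_⟩
  have := h.trans (orderOf_dvd_of_pow_eq_one h1)
  omega

/-- A non-central 2-element whose square is central. -/
def TwoInvol (v : G) : Prop := v ∉ Z(G) ∧ v * v ∈ Z(G) ∧ ∃ k : ℕ, v ^ 2 ^ k = 1

/-- An involution modulo the centre lifts to a 2-element. -/
theorem exists_twoInvol {x : G ⧸ Z(G)} (hx : x * x = 1) (hx1 : x ≠ 1) :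
    ∃ v, TwoInvol v ∧ QuotientGroup.mk' Z(G) v = x := by
  obtain ⟨a, rfl⟩ := QuotientGroup.mk'_surjective _ x
  obtain ⟨j, k, hk, -⟩ := exists_two_pow a
  have e : QuotientGroup.mk' Z(G) (a ^ (2 * j + 1)) = QuotientGroup.mk' Z(G) a := by
    rw [map_pow, pow_succ, pow_mul, pow_two, hx, one_pow, one_mul]
  refine ⟨a ^ (2 * j + 1), ⟨fun h => hx1 ?_, ?_, k, hk⟩, e⟩
  · rw [← e]; exact (QuotientGroup.eq_one_iff _).2 h
  · refine (QuotientGroup.eq_one_iff _).1 ?_
    show QuotientGroup.mk' Z(G) (a ^ (2 * j + 1) * a ^ (2 * j + 1)) = 1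
    rw [map_mul, e, hx]

theorem TwoInvol.quot {v : G} (h : TwoInvol v) :
    QuotientGroup.mk' Z(G) v * QuotientGroup.mk' Z(G) v = 1 ∧ QuotientGroup.mk' Z(G) v ≠ 1 := by
  refine ⟨?_, fun e => h.1 ((QuotientGroup.eq_one_iff v).1 e)⟩
  rw [← map_mul]
  exact (QuotientGroup.eq_one_iff _).2 h.2.1

/-- A simple `PSLQuot` group of order divisible by four is `PSL₂(q)`. -/
theorem psl_of_pslQuot {X : Type u} [Group X] [Finite X] [IsSimpleGroup X] (h4 : 4 ∣ Nat.card X)
    (h : CfsgLib.Recog.GenDihedral.PSLQuot X) :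
    ∃ (F : Type) (_ : Field F) (_ : Fintype F), 4 ≤ Fintype.card F ∧
      Nonempty (X ≃* Matrix.ProjectiveSpecialLinearGroup (Fin 2) F) := by
  obtain ⟨N, hN, hNc, K, hK, hKf, hK3, he⟩ := h
  have hN0 : N = ⊥ := hN.eq_bot_or_eq_top.resolve_right fun e => by
    rw [e, Subgroup.card_top] at hNc
    rcases hNc with ho | ⟨m, hm, he'⟩
    · exact ho.not_two_dvd_nat (dvd_trans (by norm_num) h4)
    · obtain ⟨k, hk⟩ := hm
      omega
  subst hN0
  have e0 : X ≃* X ⧸ (⊥ : Subgroup X) := (QuotientGroup.quotientBot).symm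
  refine ⟨K, hK, hKf, hK3, ?_⟩
  rcases he with ⟨⟨e⟩⟩ | ⟨⟨e⟩⟩
  · exact ⟨e0.trans e⟩
  · have eX := e0.trans e
    have : IsSimpleGroup (Matrix.ProjGenLinGroup (Fin 2) K) := eX.symm.isSimpleGroup
    have htop : (Matrix.ProjectiveSpecialLinearGroup.toPGL (n := Fin 2) (R := K)).range = ⊤ := by
      refine (KleinCent.psl_range_normal (K := K)).eq_bot_or_eq_top.resolve_left fun e' => ?_
      obtain ⟨x, y, hxy⟩ := KleinCent.psl_nontrivial (K := K)
      exact hxy (Matrix.ProjectiveSpecialLinearGroup.toPGL_injective (by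
        rw [Subgroup.eq_bot_iff_forall] at e'
        rw [e' _ ⟨x, rfl⟩, e' _ ⟨y, rfl⟩]))
    exact ⟨eX.trans (MulEquiv.ofBijective _
      ⟨Matrix.ProjectiveSpecialLinearGroup.toPGL_injective, MonoidHom.range_eq_top.1 htop⟩).symm⟩

theorem TwoInvol.comm (hno : ∀ y : G, Bad y → ∀ k : ℕ, y ^ 2 ^ k ≠ 1) {v : G} (hv : TwoInvol v)
    {a b : G} (ha : a ∈ cen(v)) (hb : b ∈ cen(v)) : a * b = b * a := by
  obtain ⟨k, hk⟩ := hv.2.2
  exact commute_of_not_bad (fun h => hno v h k hk) hv.1 (mem_cen.1 ha) (mem_cen.1 hb)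

/-- Outside its centraliser an element fixing an involution modulo the centre squares to the
centre. -/
theorem TwoInvol.sq_mem_center
    (h2 : ∀ x : G, Bad x → ∀ Q : Subgroup G, IsPGroup 2 Q → Q ≤ cen(x) →
      ∀ a ∈ Q, ∀ b ∈ Q, a * b = b * a)
    {v g : G} (hv : TwoInvol v)
    (hg : g ∈ cenMod v) (hgv : g ∉ cen(v)) : g * g ∈ Z(G) := by
  have hsq := cenMod_sq hv.2.1 hg
  by_contra hgg
  obtain ⟨j, k, hk, -⟩ := exists_two_pow g
  set g₂ := g ^ (2 * j + 1) with hg₂
  obtain ⟨l, hl⟩ := hv.2.2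
  have hg₂v : g₂ ∉ cen(v) := fun h => hgv <| by
    have h1 : g * (g * g) ^ j = g₂ := by rw [hg₂, ← pow_two, ← pow_mul, ← pow_succ']
    exact (Subgroup.mul_mem_cancel_right _ (pow_mem hsq j)).1 (h1 ▸ h)
  have hbad : Bad (g * g) := ⟨hgg, fun hc => hg₂v <| mem_cen.2 <| comm_iff.1 hc g₂ (mem_cen.2
    (((Commute.refl g).pow_left _).mul_right ((Commute.refl g).pow_left _)).eq) v
    (mem_cen.2 (mem_cen.1 hsq).symm)⟩
  have : Fact (Nat.Prime 2) := ⟨Nat.prime_two⟩
  have hp : ∀ x : G, ∀ i : ℕ, x ^ 2 ^ i = 1 → IsPGroup 2 (Subgroup.zpowers x) := fun x i hi => by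
    obtain ⟨i', -, he⟩ := (Nat.dvd_prime_pow Nat.prime_two).1 (orderOf_dvd_of_pow_eq_one hi)
    exact IsPGroup.of_card (n := i') (by rw [Nat.card_zpowers, he])
  set z := cm g₂ v
  have hg₂m : g₂ ∈ cenMod v := pow_mem hg _
  have hz2 : z ^ 2 ^ 1 = 1 := by
    rw [pow_one, pow_two, ← cm_mul_right hg₂m, cm_center_right hv.2.1]
  set A := Subgroup.zpowers z ⊔ Subgroup.zpowers v
  have hA : IsPGroup 2 A := by
    refine (hp z 1 hz2).to_sup_of_normal_left' (hp v l hl) ?_
    rw [Subgroup.zpowers_le, Subgroup.mem_normalizer_iff]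
    intro x
    constructor
    · intro hx
      have hxc : x ∈ Z(G) := (Subgroup.zpowers_le (H := Z(G))).2 hg₂m hx
      rwa [mem_center.1 hxc v, mul_inv_cancel_right]
    · intro hx
      have hxc : v * x * v⁻¹ ∈ Z(G) := (Subgroup.zpowers_le (H := Z(G))).2 hg₂m hx
      have e : x = v * x * v⁻¹ := by
        calc x = v⁻¹ * (v * x * v⁻¹ * v) := by group
          _ = v⁻¹ * (v * (v * x * v⁻¹)) := by rw [mem_center.1 hxc v]
          _ = v * x * v⁻¹ := by group
      rwa [← e] at hx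
  have hQ : IsPGroup 2 (A ⊔ Subgroup.zpowers g₂ : Subgroup G) := by
    refine hA.to_sup_of_normal_left' (hp g₂ k hk) ?_
    rw [Subgroup.zpowers_le]
    have hmap : A.map (MulAut.conj g₂).toMonoidHom = A := by
      refine Subgroup.eq_of_le_of_card_ge ?_ (le_of_eq ?_)
      · rw [Subgroup.map_le_iff_le_comap, sup_le_iff, Subgroup.zpowers_le, Subgroup.zpowers_le]
        constructor <;> rw [Subgroup.mem_comap, MulEquiv.coe_toMonoidHom, MulAut.conj_apply]
        · rw [mem_center.1 hg₂m g₂, mul_inv_cancel_right]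
          exact Subgroup.mem_sup_left (Subgroup.mem_zpowers z)
        · rw [← cm_mul]
          exact mul_mem (Subgroup.mem_sup_left (Subgroup.mem_zpowers z))
            (Subgroup.mem_sup_right (Subgroup.mem_zpowers v))
      · exact Nat.card_congr (A.equivMapOfInjective _ (MulAut.conj g₂).injective).toEquiv
    refine Subgroup.mem_normalizer_iff.2 fun x => ⟨fun hx => ?_, fun hx => ?_⟩
    · rw [← hmap]; exact Subgroup.mem_map_of_mem _ hx
    · rw [← hmap] at hx
      obtain ⟨y, hy, he⟩ := Subgroup.mem_map.1 hx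
      have hyx : y = x := by simpa [MulAut.conj_apply] using he
      exact hyx ▸ hy
  have hle : A ⊔ Subgroup.zpowers g₂ ≤ cen(g * g) := by
    rw [sup_le_iff, sup_le_iff, Subgroup.zpowers_le, Subgroup.zpowers_le, Subgroup.zpowers_le]
    exact ⟨⟨mem_cen.2 (mem_center.1 hg₂m _).symm, mem_cen.2 (mem_cen.1 hsq).symm⟩,
      mem_cen.2 (((Commute.refl g).pow_left _).mul_right ((Commute.refl g).pow_left _)).eq⟩
  exact hg₂v (mem_cen.2 (h2 _ hbad _ hQ hle g₂ (Subgroup.mem_sup_right (Subgroup.mem_zpowers _)) v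
    (Subgroup.mem_sup_left (Subgroup.mem_sup_right (Subgroup.mem_zpowers _)))))

/-- The case of a non-abelian centraliser of an involution modulo the centre. -/
theorem Hyp.exists_psl_of_cenMod (hG : Hyp G) (hperf : commutator G = ⊤)
    (h2 : ∀ x : G, Bad x → ∀ Q : Subgroup G, IsPGroup 2 Q → Q ≤ cen(x) →
      ∀ a ∈ Q, ∀ b ∈ Q, a * b = b * a)
    (hno : ∀ y : G, Bad y → ∀ k : ℕ, y ^ 2 ^ k ≠ 1)
    (hex : ∃ v : G, TwoInvol v ∧ ¬ cenMod v ≤ cen(v)) :
    ∃ (F : Type) (_ : Field F) (_ : Fintype F), 4 ≤ Fintype.card F ∧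
      Nonempty (G ⧸ Z(G) ≃* Matrix.ProjectiveSpecialLinearGroup (Fin 2) F) := by
  have := hG.quot_simple hperf
  obtain ⟨v, ⟨hv, hne⟩, hmax⟩ := Set.exists_max_image {v : G | TwoInvol v ∧ ¬ cenMod v ≤ cen(v)}
    (fun v => Nat.card (cenMod v)) (Set.toFinite _) hex
  obtain ⟨g, hg, hgv⟩ := SetLike.not_le_iff_exists.1 hne
  set π := QuotientGroup.mk' Z(G)
  set H := (cenMod v).map π
  set A := (cen(v)).map π
  obtain ⟨hvv, hv1⟩ := hv.quot
  have hgA : π g ∉ A := by
    rintro ⟨b, hb, e⟩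
    refine hgv ?_
    have hz : b⁻¹ * g ∈ Z(G) := QuotientGroup.eq.1 e
    have := mul_mem hb (mem_cen.2 (mem_center.1 hz v).symm : b⁻¹ * g ∈ cen(v))
    rwa [mul_inv_cancel_left] at this
  have hlt : A < H := lt_of_le_of_ne (Subgroup.map_mono (cen_le_cenMod v)) fun e =>
    hgA (e ▸ Subgroup.mem_map_of_mem π hg)
  have hsq : ∀ x ∈ H, x ∉ A → x ^ 2 = 1 := by
    rintro x ⟨y, hy, rfl⟩ hxA
    rw [pow_two, ← map_mul]
    exact (QuotientGroup.eq_one_iff _).2
      (hv.sq_mem_center h2 hy fun h => hxA (Subgroup.mem_map_of_mem π h))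
  have h4 : 4 ∣ Nat.card H := by
    classical
    have hgg : π g * π g = 1 := by
      rw [← pow_two]; exact hsq _ (Subgroup.mem_map_of_mem π hg) hgA
    have hvA : π v ∈ A := Subgroup.mem_map_of_mem π (self_mem_cen v)
    have hc : π g * π v = π v * π g := mem_cenMod_iff.1 hg
    let a : H := ⟨π v, hlt.le hvA⟩
    let b : H := ⟨π g, Subgroup.mem_map_of_mem π hg⟩
    have ha : orderOf a = 2 := orderOf_eq_prime (Subtype.ext (by rw [Subgroup.coe_pow, pow_two]; exact hvv))
      fun e => hv1 (congrArg Subtype.val e)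
    have hb : orderOf b = 2 := orderOf_eq_prime (Subtype.ext (by rw [Subgroup.coe_pow, pow_two]; exact hgg))
      fun e => hgA (by rw [show π g = 1 from congrArg Subtype.val e]; exact one_mem A)
    let V : Subgroup H := Subgroup.zpowers a ⊔ Subgroup.zpowers b
    have : Fact (Nat.Prime 2) := ⟨Nat.prime_two⟩
    have hV : IsPGroup 2 V := by
      refine IsPGroup.to_sup_of_normal_left' (IsPGroup.of_card (n := 1)
        (by rw [Nat.card_zpowers, ha, pow_one])) (IsPGroup.of_card (n := 1)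
        (by rw [Nat.card_zpowers, hb, pow_one])) ?_
      rw [Subgroup.zpowers_le, Subgroup.mem_normalizer_iff]
      have hab : Commute b a := Subtype.ext hc
      intro x
      constructor
      · intro hx
        obtain ⟨i, rfl⟩ := Subgroup.mem_zpowers_iff.1 hx
        rwa [(hab.zpow_right i).eq, mul_inv_cancel_right]
      · intro hx
        obtain ⟨i, hi⟩ := Subgroup.mem_zpowers_iff.1 hx
        have : x = b⁻¹ * a ^ i * b := by rw [hi]; group
        rw [this, ((hab.inv_left).zpow_right i).eq, inv_mul_cancel_right]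
        exact zpow_mem (Subgroup.mem_zpowers a) i
    obtain ⟨n, hn⟩ := hV.exists_card_eq
    have hlt2 : 2 < Nat.card V := by
      have hle : Subgroup.zpowers a < V := lt_of_le_of_ne le_sup_left fun e => hgA <| by
        have hb' : b ∈ Subgroup.zpowers a := e ▸ Subgroup.mem_sup_right (Subgroup.mem_zpowers b)
        obtain ⟨i, hi⟩ := Subgroup.mem_zpowers_iff.1 hb'
        have e' : ((a ^ i : H) : G ⧸ Z(G)) = π g := congrArg Subtype.val hi
        rw [← e', Subgroup.coe_zpow]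
        exact zpow_mem hvA i
      have h2' : Nat.card (Subgroup.zpowers a) = 2 := by rw [Nat.card_zpowers, ha]
      rw [← h2']
      exact lt_of_le_of_ne (Subgroup.card_le_of_le hle.le) fun e =>
        hle.ne (Subgroup.eq_of_le_of_card_ge hle.le e.ge)
    refine dvd_trans ?_ V.card_subgroup_dvd_card
    rw [hn] at hlt2 ⊢
    rcases n with _ | _ | n
    · simp at hlt2
    · simp at hlt2
    · exact ⟨2 ^ n, by ring⟩
  have hC : ∀ j ∈ H, orderOf j = 2 → (∀ x ∈ H, x * j = j * x) →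
      Subgroup.centralizer ({j} : Set (G ⧸ Z(G))) = H := by
    intro j hj hj2 hjc
    have hj1 : j * j = 1 := by rw [← pow_two, ← hj2, pow_orderOf_eq_one]
    obtain ⟨w, hw, rfl⟩ := exists_twoInvol hj1 fun e => by simp [e] at hj2
    have hle : cenMod v ≤ cenMod w := fun x hx =>
      mem_cenMod_iff.2 (hjc _ (Subgroup.mem_map_of_mem π hx))
    have hwne : ¬ cenMod w ≤ cen(w) := fun h => hgv <| mem_cen.2 <|
      hw.comm hno (h (hle hg)) (h (hle (cen_le_cenMod v (self_mem_cen v))))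
    have heq : cenMod v = cenMod w := Subgroup.eq_of_le_of_card_ge hle (hmax w ⟨hw, hwne⟩)
    refine le_antisymm (fun x hx => ?_)
      fun x hx => Subgroup.mem_centralizer_singleton_iff.2 (hjc x hx)
    obtain ⟨y, rfl⟩ := QuotientGroup.mk'_surjective _ x
    refine Subgroup.mem_map_of_mem π ?_
    rw [heq]
    exact mem_cenMod_iff.2 (Subgroup.mem_centralizer_singleton_iff.1 hx)
  exact psl_of_pslQuot (h4.trans (Subgroup.card_subgroup_dvd_card _))
    (CfsgLib.Recog.GenDihedral.DHyp.pslQuot ⟨hlt, hsq, h4, hC⟩ hG.quot_not_solvable)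

/-- In a perfect group an abelian Sylow subgroup meets the centre trivially. -/
theorem good_eq_one_of_center (hperf : commutator G = ⊤) (P : Sylow 2 G)
    (hP : IsMulCommutative (P : Subgroup G)) {z : G} (hz : z ∈ Z(G)) (hzP : z ∈ (P : Subgroup G)) :
    z = 1 := by
  have : Fact (Nat.Prime 2) := ⟨Nat.prime_two⟩
  have := hP
  open scoped IsMulCommutative in
  let τ : G →* (P : Subgroup G) := MonoidHom.transfer (MonoidHom.id (P : Subgroup G))
  have hτ : τ z = 1 := by
    have hle : commutator G ≤ τ.ker := by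
      rw [commutator_def, Subgroup.commutator_le]
      intro a _ b _
      rw [MonoidHom.mem_ker, map_commutatorElement, commutatorElement_eq_one_iff_mul_comm]
      exact mul_comm' _ _
    exact MonoidHom.mem_ker.1 (hle (hperf ▸ Subgroup.mem_top z))
  have hconj : ∀ (k : ℕ) (g₀ : G), g₀⁻¹ * z ^ k * g₀ ∈ (P : Subgroup G) →
      g₀⁻¹ * z ^ k * g₀ = z ^ k := fun k g₀ _ => by
    rw [mem_center.1 (pow_mem hz k) g₀⁻¹, inv_mul_cancel_right]
  have e := congrArg Subtype.val hτ
  simp only [τ, MonoidHom.transfer_eq_pow _ z hconj, MonoidHom.id_apply] at e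
  obtain ⟨k, hk⟩ := P.2 ⟨z, hzP⟩
  have hk' : z ^ 2 ^ k = 1 := congrArg Subtype.val hk
  have hd := Nat.Coprime.pow_left k
    ((Nat.prime_two.coprime_iff_not_dvd).2 (P.not_dvd_index))
  rw [← orderOf_eq_one_iff]
  exact Nat.eq_one_of_dvd_one (hd ▸ Nat.dvd_gcd (orderOf_dvd_of_pow_eq_one hk')
    (orderOf_dvd_of_pow_eq_one e))

/-- The case of abelian centralisers of involutions modulo the centre. -/
theorem Hyp.exists_psl_of_comm (hG : Hyp G) (hperf : commutator G = ⊤)
    (hstrong : ∀ x : G, Bad x → ∀ P : Sylow 2 G, (P : Subgroup G) ≤ cen(x) →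
      (∀ v ∈ cen(x), v ∉ Z(G) → v * v ∈ Z(G) → (∃ k : ℕ, v ^ 2 ^ k = 1) →
        Subgroup.normalizer (cen(v) : Set G) ≤ cen(x) ∧
        ¬ IsMulCommutative (Subgroup.normalizer (cen(v) : Set G))) → False)
    (hno : ∀ y : G, Bad y → ∀ k : ℕ, y ^ 2 ^ k ≠ 1)
    (hall : ∀ v : G, TwoInvol v → cenMod v ≤ cen(v)) :
    ∃ (F : Type) (_ : Field F) (_ : Fintype F), 4 ≤ Fintype.card F ∧
      Nonempty (G ⧸ Z(G) ≃* Matrix.ProjectiveSpecialLinearGroup (Fin 2) F) := by
  classical
  have : Fact (Nat.Prime 2) := ⟨Nat.prime_two⟩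
  have hXns := hG.quot_not_solvable
  obtain ⟨P⟩ := (inferInstance : Nonempty (Sylow 2 G))
  set π := QuotientGroup.mk' Z(G)
  -- the Sylow subgroup is abelian
  have hPc : IsMulCommutative (P : Subgroup G) := by
    let T : Sylow 2 (G ⧸ Z(G)) := P.mapSurjective (QuotientGroup.mk'_surjective _)
    have hT : Nontrivial (T : Subgroup (G ⧸ Z(G))) := by
      by_contra h
      rw [not_nontrivial_iff_subsingleton] at h
      exact hXns (isSolvable_of_cyclic_sylow T isCyclic_of_subsingleton)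
    have := T.2.center_nontrivial
    obtain ⟨y, hy⟩ : ∃ y : Subgroup.center (T : Subgroup (G ⧸ Z(G))), orderOf y = 2 := by
      obtain ⟨n, hn, hc⟩ := (T.2.to_subgroup _).nontrivial_iff_card.1 this
      exact exists_prime_orderOf_dvd_card' 2 (hc ▸ dvd_pow_self 2 hn.ne')
    set x : G ⧸ Z(G) := ((y : (T : Subgroup (G ⧸ Z(G)))) : G ⧸ Z(G))
    have hx2 : orderOf x = 2 := by rw [Subgroup.orderOf_coe, Subgroup.orderOf_coe, hy]
    have hxx : x * x = 1 := by rw [← pow_two, ← hx2, pow_orderOf_eq_one]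
    obtain ⟨v, hv, hvx⟩ := exists_twoInvol hxx fun e => by simp [e] at hx2
    have hle : (P : Subgroup G) ≤ cen(v) := fun p hp => hall v hv <| mem_cenMod_iff.2 <| by
      rw [hvx]
      exact congrArg Subtype.val (mem_center.1 y.2 ⟨π p, Subgroup.mem_map_of_mem π hp⟩)
    exact comm_iff.2 fun a ha b hb => hv.comm hno (hle ha) (hle hb)
  -- all conjugates too
  have hsyl : ∀ Q : Sylow 2 G, IsMulCommutative (Q : Subgroup G) := fun Q => by
    let e := Sylow.equiv Q P
    refine ⟨⟨fun a b => e.injective ?_⟩⟩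
    rw [map_mul, map_mul]
    exact mul_comm' _ _
  have hZ1 : ∀ z ∈ Z(G), (∃ k : ℕ, z ^ 2 ^ k = 1) → z = 1 := fun z hz ⟨k, hk⟩ => by
    obtain ⟨Q, hQ⟩ := (show IsPGroup 2 (Subgroup.zpowers z) from fun a => by
      obtain ⟨i, hi⟩ := a.2
      exact ⟨k, Subtype.ext (by
        rw [Subgroup.coe_pow, ← hi]
        show (z ^ i) ^ 2 ^ k = 1
        rw [← zpow_natCast, ← zpow_mul, mul_comm, zpow_mul, zpow_natCast, hk, one_zpow])⟩
      ).exists_le_sylow
    exact good_eq_one_of_center hperf Q (hsyl Q) hz (hQ (Subgroup.mem_zpowers z))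
  have hZodd : Odd (Nat.card Z(G)) := by
    rw [← Nat.not_even_iff_odd, even_iff_two_dvd]
    intro h
    obtain ⟨z, hz⟩ := exists_prime_orderOf_dvd_card' 2 h
    have h1 := hZ1 (z : G) z.2 ⟨1, by
      rw [pow_one, ← hz, ← Subgroup.orderOf_coe, pow_orderOf_eq_one]⟩
    rw [← Subgroup.orderOf_coe, h1, orderOf_one] at hz
    omega
  have hPnc : ∀ Q : Sylow 2 G, ¬ IsCyclic (Q : Subgroup G) := fun Q h =>
    hG.ns (isSolvable_of_cyclic_sylow Q h)
  -- squares in the centraliser of an involution are central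
  have key : ∀ v : G, TwoInvol v → ∀ b ∈ cen(v), b * b ∈ Z(G) := by
    intro v hv
    obtain ⟨k, hk⟩ := hv.2.2
    obtain ⟨Q, hQ⟩ := (show IsPGroup 2 (Subgroup.zpowers v) from fun a => by
      obtain ⟨i, hi⟩ := a.2
      exact ⟨k, Subtype.ext (by
        rw [Subgroup.coe_pow, ← hi]
        show (v ^ i) ^ 2 ^ k = 1
        rw [← zpow_natCast, ← zpow_mul, mul_comm, zpow_mul, zpow_natCast, hk, one_zpow])⟩
      ).exists_le_sylow
    set B := cen(v) with hB
    have hvQ : v ∈ (Q : Subgroup G) := hQ (Subgroup.mem_zpowers v)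
    have hQB : (Q : Subgroup G) ≤ B := fun q hq =>
      mem_cen.2 (comm_iff.1 (hsyl Q) q hq v hvQ)
    have hBc : ∀ a ∈ B, ∀ b ∈ B, a * b = b * a := fun a ha b hb => hv.comm hno ha hb
    have hBs : Group.IsSolvable B := Group.isSolvable_of_comm fun a b =>
      Subtype.ext (hBc a a.2 b b.2)
    have hnn : Subgroup.normalizer (B : Set G) ≠ ⊤ := fun e => hv.1 <| by
      have : B.Normal := Subgroup.normalizer_eq_top_iff.1 e
      exact hG.solvable_le_center B hBs (self_mem_cen v)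
    have hgood : ∀ u ∈ B, u ≠ 1 → (∃ i : ℕ, u ^ 2 ^ i = 1) →
        Subgroup.centralizer ({u} : Set G) = B := by
      intro u hu hu1 ⟨i, hi⟩
      have huZ : u ∉ Z(G) := fun h => hu1 (hZ1 u h ⟨i, hi⟩)
      refine le_antisymm (fun c hc => mem_cen.2 ?_) fun c hc => mem_cen.2 (hBc c hc u hu)
      exact commute_of_not_bad (fun h => hno u h i hi) huZ (mem_cen.1 hc) (mem_cen.1 hu).symm
    refine sq_mem_of_ti Q B Z(G) (hPnc Q) le_rfl hZodd
      (fun z hz => mem_cen.2 (mem_center.1 hz v).symm) hQB hBc ?_ ?_ hnn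
    · intro b hb hb2
      obtain ⟨j, i, hi, hne⟩ := exists_two_pow b
      have h1 := hgood _ (pow_mem hb (2 * j + 1)) (hne hb2) ⟨i, hi⟩
      refine le_antisymm (fun c hc => ?_) fun c hc => mem_cen.2 (hBc c hc b hb)
      rw [← h1, mem_cen]
      exact ((show Commute c b from mem_cen.1 hc).pow_right _).eq
    · intro b hb hbZ h hh hhb
      by_contra hhB
      have hbad : Bad b := ⟨hbZ, fun hc => hhB (mem_cen.2 (comm_iff.1 hc h (mem_cen.2 hhb) v
        (mem_cen.2 (mem_cen.1 hb).symm)))⟩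
      have hhv : v * h ≠ h * v := fun e => hhB (mem_cen.2 e.symm)
      set N := Subgroup.normalizer (B : Set G)
      have hNb : N ≤ cen(b) := fun x hx => mem_cen.2 (hG.central_of hnn (Subgroup.le_normalizer hb)
        (Subgroup.le_normalizer (self_mem_cen v)) hh (mem_cen.1 hb).symm hhb hhv x hx)
      refine hstrong b hbad Q (fun q hq => mem_cen.2 (hBc q (hQB hq) b hb)) fun w hw hwZ hw2 hwk => ?_
      obtain ⟨i, hi⟩ := hwk
      -- conjugate `w` into `Q` inside the centraliser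
      set M := cen(b) with hM
      have hQM : (Q : Subgroup G) ≤ M := fun q hq => mem_cen.2 (hBc q (hQB hq) b hb)
      obtain ⟨R, hR⟩ := (show IsPGroup 2 (Subgroup.zpowers (⟨w, hw⟩ : M)) from fun a => by
        obtain ⟨l, hl⟩ := a.2
        exact ⟨i, Subtype.ext (Subtype.ext (by
          rw [Subgroup.coe_pow, ← hl]
          push_cast
          show (w ^ l) ^ 2 ^ i = 1
          rw [← zpow_natCast, ← zpow_mul, mul_comm, zpow_mul, zpow_natCast, hi, one_zpow]))⟩
        ).exists_le_sylow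
      obtain ⟨m, hm⟩ := MulAction.exists_smul_eq M R (Q.subtype hQM)
      have hwm : (m : G) * w * (m : G)⁻¹ ∈ (Q : Subgroup G) := by
        have h1 : m * ⟨w, hw⟩ * m⁻¹ ∈ ((Q.subtype hQM : Sylow 2 M) : Subgroup M) := by
          rw [← hm, Sylow.coe_subgroup_smul]
          exact ⟨⟨w, hw⟩, hR (Subgroup.mem_zpowers _), rfl⟩
        exact h1
      set u := (m : G) * w * (m : G)⁻¹ with hu
      have hu1 : u ≠ 1 := fun e => hwZ <| by
        have : w = 1 := by rwa [hu, mul_inv_eq_one, mul_eq_left] at e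
        rw [this]; exact one_mem _
      have hcu := hgood u (hQB hwm) hu1 ⟨i, by rw [hu, conj_pow, hi, mul_one, mul_inv_cancel]⟩
      rw [hu, cen_conj] at hcu
      have hN : Subgroup.normalizer (B : Set G) =
          (Subgroup.normalizer (cen(w) : Set G)).map (MulAut.conj (m : G)).toMonoidHom := by
        rw [← hcu, Subgroup.map_equiv_normalizer_eq (cen(w)) (MulAut.conj (m : G))]
      refine ⟨fun x hx => ?_, fun hc => hhv ?_⟩
      · have h1 : (m : G) * x * (m : G)⁻¹ ∈ cen(b) := hNb (by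
          show _ ∈ Subgroup.normalizer (B : Set G)
          rw [hN]; exact ⟨x, hx, rfl⟩)
        have := mul_mem (mul_mem (inv_mem m.2) h1) m.2
        rwa [show (m : G)⁻¹ * ((m : G) * x * (m : G)⁻¹) * m = x by group] at this
      · obtain ⟨a, ha, rfl⟩ : v ∈ (Subgroup.normalizer (cen(w) : Set G)).map
            (MulAut.conj (m : G)).toMonoidHom := hN ▸ Subgroup.le_normalizer (self_mem_cen v)
        obtain ⟨c, hc', rfl⟩ : h ∈ (Subgroup.normalizer (cen(w) : Set G)).map
            (MulAut.conj (m : G)).toMonoidHom := hN ▸ hh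
        rw [← map_mul, ← map_mul, comm_iff.1 hc a ha c hc']
  -- the quotient
  have := hG.quot_simple hperf
  set T : Sylow 2 (G ⧸ Z(G)) := P.mapSurjective (QuotientGroup.mk'_surjective _) with hT
  have hTnc : ¬ IsCyclic (T : Subgroup (G ⧸ Z(G))) := fun h =>
    hXns (isSolvable_of_cyclic_sylow T h)
  have hTnn : ¬ (T : Subgroup (G ⧸ Z(G))).Normal := fun h =>
    hXns (isSolvable_of_normal_sylow T h)
  have hC : ∀ t : G ⧸ Z(G), orderOf t = 2 →
      IsMulCommutative (Subgroup.centralizer ({t} : Set (G ⧸ Z(G)))) ∧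
      ∀ c ∈ Subgroup.centralizer ({t} : Set (G ⧸ Z(G))), c ^ 2 = 1 := by
    intro t ht
    have htt : t * t = 1 := by rw [← pow_two, ← ht, pow_orderOf_eq_one]
    obtain ⟨v, hv, rfl⟩ := exists_twoInvol htt fun e => by simp [e] at ht
    have hlift : ∀ c ∈ Subgroup.centralizer ({π v} : Set (G ⧸ Z(G))), ∃ b ∈ cen(v), π b = c := by
      intro c hc
      obtain ⟨b, rfl⟩ := QuotientGroup.mk'_surjective _ c
      exact ⟨b, hall v hv (mem_cenMod_iff.2 (Subgroup.mem_centralizer_singleton_iff.1 hc)), rfl⟩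
    refine ⟨⟨⟨fun c d => Subtype.ext ?_⟩⟩, fun c hc => ?_⟩
    · obtain ⟨b, hb, hbc⟩ := hlift c c.2
      obtain ⟨b', hb', hbd⟩ := hlift d d.2
      show (c : G ⧸ Z(G)) * d = d * c
      rw [← hbc, ← hbd, ← map_mul, ← map_mul, hv.comm hno hb hb']
    · obtain ⟨b, hb, rfl⟩ := hlift c hc
      rw [pow_two, ← map_mul]
      exact (QuotientGroup.eq_one_iff _).2 (key v hv b hb)
  have hCA : CfsgLib.Invol.CAHyp T := ⟨hTnc, hTnn, hC⟩
  obtain ⟨F, hF, hFf, hcard, he⟩ := hCA.exists_psl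
  exact ⟨F, hF, hFf, hcard ▸ hCA.four_le_card, he⟩

/-- A perfect group without bad 2-elements is `PSL₂(q)` modulo its centre. -/
theorem Hyp.exists_psl_of_good (hG : Hyp G) (hperf : commutator G = ⊤)
    (hno : ∀ y : G, Bad y → ∀ k : ℕ, y ^ 2 ^ k ≠ 1) :
    ∃ (F : Type) (_ : Field F) (_ : Fintype F), 4 ≤ Fintype.card F ∧
      Nonempty (G ⧸ Z(G) ≃* Matrix.ProjectiveSpecialLinearGroup (Fin 2) F) := by
  by_cases hall : ∀ v : G, TwoInvol v → cenMod v ≤ cen(v)
  · exact hG.exists_psl_of_comm hperf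
      (fun x hx P hP hkey => hG.no_strong hx P hP hno hkey) hno hall
  · push Not at hall
    exact hG.exists_psl_of_cenMod hperf (fun x hx Q hQ hle => hx.two_group_comm hG Q hQ hle)
      hno hall

end CfsgLib.Recog.NonCA
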