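import Cfsg.Agent.Lib.Recog.NonCA.Strong
import Cfsg.Agent.Lib.Perm.AbelianZStar

/-!
A group with a bad element has no normal subgroup of index two containing the centre.
-/

set_option autoImplicit false
set_option linter.unusedSectionVars false
set_option maxHeartbeats 1000000

namespace CfsgLib.Recog.NonCA

open scoped IsMulCommutative

universe u

variable {G : Type u} [Group G] [Finite G]

local notation "Z(G)" => Subgroup.center G
local notation "cen(" x ")" => Subgroup.centralizer ({x} : Set G)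

/-- With trivial centre and odd core, an abelian Sylow 2-subgroup forbids index two. -/
theorem not_index_two_of_sylow_comm {X : Type u} [Group X] [Finite X]
    (hO : Cfsg.oddCore X = ⊥) (hc : Subgroup.center X = ⊥) (S : Sylow 2 X)
    [IsMulCommutative (S : Subgroup X)] (N : Subgroup X) [N.Normal] (hi : N.index = 2) : False := by
  classical
  have : Fact (Nat.Prime 2) := ⟨Nat.prime_two⟩
  obtain ⟨t, htS, htN⟩ : ∃ t ∈ (S : Subgroup X), t ∉ N := by
    by_contra h
    push Not at h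
    have hd := Subgroup.index_dvd_of_le (show (S : Subgroup X) ≤ N from h)
    rw [hi] at hd
    exact S.not_dvd_index hd
  set H := Subgroup.normalizer ((S : Subgroup X) : Set X)
  set S' := (S : Subgroup X).subgroupOf H
  have : Fintype (H ⧸ S') := Fintype.ofFinite _
  have hcoset : ∀ h k : H, (h : H ⧸ S') = k → (h : X) * t * (h : X)⁻¹ = k * t * (k : X)⁻¹ := by
    intro h k e
    have hs : (h : X)⁻¹ * k ∈ (S : Subgroup X) := Subgroup.mem_subgroupOf.1 (QuotientGroup.eq.1 e)
    have hst := comm_iff.1 (inferInstance : IsMulCommutative (S : Subgroup X)) _ hs t htS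
    calc (h : X) * t * (h : X)⁻¹ = k * ((k : X)⁻¹ * h) * t * ((h : X)⁻¹ * k) * (k : X)⁻¹ := by group
      _ = k * ((k : X)⁻¹ * h) * (((h : X)⁻¹ * k) * t) * (k : X)⁻¹ := by rw [hst]; group
      _ = k * t * (k : X)⁻¹ := by group
  let φ : H ⧸ S' → (S : Subgroup X) := fun q =>
    ⟨(q.out : H) * t * ((q.out : H) : X)⁻¹, (Subgroup.mem_normalizer_iff.1 q.out.2 t).1 htS⟩
  set c : (S : Subgroup X) := ∏ q, φ q with hcdef
  -- fixed by the normaliser
  have hfix : ∀ g ∈ H, g * (c : X) * g⁻¹ = c := by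
    intro g hg
    let ψ : (S : Subgroup X) →* (S : Subgroup X) :=
      { toFun := fun s => ⟨g * s * g⁻¹, (Subgroup.mem_normalizer_iff.1 hg s).1 s.2⟩
        map_one' := Subtype.ext (by simp)
        map_mul' := fun a b => Subtype.ext (by simp [mul_assoc]) }
    have h : ψ c = c := by
      rw [hcdef, map_prod]
      refine Fintype.prod_equiv (MulAction.toPerm (⟨g, hg⟩ : H)) _ _ fun q => Subtype.ext ?_
      have he : (((⟨g, hg⟩ : H) * q.out : H) : H ⧸ S') = (((⟨g, hg⟩ : H) • q).out : H) := by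
        rw [QuotientGroup.out_eq']
        exact MulAction.Quotient.mk_smul_out S' (⟨g, hg⟩ : H) q
      show g * ((q.out : H) * t * ((q.out : H) : X)⁻¹) * g⁻¹ = _
      have := hcoset _ _ he
      simp only [Subgroup.coe_mul, mul_inv_rev] at this
      simpa [φ, mul_assoc] using this
    exact congrArg Subtype.val h
  -- outside `N`
  have hodd : Odd (Fintype.card (H ⧸ S')) := by
    rw [← Nat.card_eq_fintype_card, ← Subgroup.index_eq_card, ← Nat.not_even_iff_odd,
      even_iff_two_dvd]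
    intro h
    have hd : S'.index ∣ (S : Subgroup X).index :=
      Dvd.intro _ (Subgroup.relIndex_mul_index
        (Subgroup.le_normalizer : (S : Subgroup X) ≤ H))
    exact S.not_dvd_index (h.trans hd)
  have hcN : (c : X) ∉ N := by
    intro hmem
    set f := (QuotientGroup.mk' N).comp (S : Subgroup X).subtype
    have hcomm : ∀ a b : X ⧸ N, a * b = b * a := by
      have hcard : Nat.card (X ⧸ N) = 2 := by rw [← Subgroup.index_eq_card, hi]
      have : IsCyclic (X ⧸ N) := isCyclic_of_prime_card hcard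
      exact fun a b => IsCyclic.commGroup.mul_comm a b
    let _ : CommGroup (X ⧸ N) := { (inferInstance : Group (X ⧸ N)) with mul_comm := hcomm }
    set e : X ⧸ N := (t : X ⧸ N)
    have hf : ∀ q, f (φ q) = e := fun q => by
      show ((((q.out : H) : X) * t * ((q.out : H) : X)⁻¹ : X) : X ⧸ N) = e
      rw [QuotientGroup.mk_mul, QuotientGroup.mk_mul, QuotientGroup.mk_inv, hcomm _ e,
        mul_inv_cancel_right]
    have h1 : f c = 1 := (QuotientGroup.eq_one_iff _).2 hmem
    have h2 : f c = e ^ Fintype.card (H ⧸ S') := by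
      rw [hcdef, map_prod, Finset.prod_congr rfl fun q _ => hf q, Finset.prod_const,
        Finset.card_univ]
    have he2 : e * e = 1 := by
      have hcard : Nat.card (X ⧸ N) = 2 := by rw [← Subgroup.index_eq_card, hi]
      have := pow_card_eq_one' (x := e)
      rwa [hcard, pow_two] at this
    obtain ⟨m, hm⟩ := hodd
    rw [h1, hm, pow_succ, pow_mul, pow_two, he2, one_pow, one_mul] at h2
    exact htN ((QuotientGroup.eq_one_iff t).1 h2.symm)
  have := CfsgLib.Perm.AbelianZStar.mem_center hO S (c := (c : X)) c.2 hfix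
  rw [hc, Subgroup.mem_bot] at this
  exact hcN (this ▸ one_mem N)

/-- A bad element has a bad power of odd order, unless some bad element is a 2-element. -/
theorem Bad.exists_odd (hG : Hyp G) {x : G} (hx : Bad x)
    (hno : ∀ y : G, Bad y → ∀ k : ℕ, y ^ 2 ^ k ≠ 1) : ∃ y : G, Bad y ∧ Odd (orderOf y) := by
  obtain ⟨k, m, hm, hkm⟩ := Nat.exists_eq_two_pow_mul_odd (orderOf_pos x).ne'
  have hcp : ∀ n : ℕ, ∀ c ∈ cen(x), c * x ^ n = x ^ n * c := fun n c hc =>
    ((show Commute c x from mem_cen.1 hc).pow_right n).eq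
  have ha : x ^ m ∈ Z(G) := by
    by_contra h
    refine hno (x ^ m) ⟨h, fun hc => hx.2 ?_⟩ k (by rw [← pow_mul, mul_comm, ← hkm, pow_orderOf_eq_one])
    rwa [hx.eq_of_mem hG h (hcp m)] at hc
  have hb : x ^ 2 ^ k ∉ Z(G) := fun h => hx.1 <| by
    have hcop : Nat.gcd m (2 ^ k) = 1 := Nat.Coprime.pow_right k (Nat.coprime_two_right.2 hm)
    have h1 : ((x : G ⧸ Z(G))) ^ m = 1 := by
      rw [← QuotientGroup.mk_pow]; exact (QuotientGroup.eq_one_iff _).2 ha
    have h2 : ((x : G ⧸ Z(G))) ^ 2 ^ k = 1 := by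
      rw [← QuotientGroup.mk_pow]; exact (QuotientGroup.eq_one_iff _).2 h
    have h3 := pow_gcd_eq_one.2 ⟨h1, h2⟩
    rw [hcop, pow_one] at h3
    exact (QuotientGroup.eq_one_iff x).1 h3
  refine ⟨x ^ 2 ^ k, ⟨hb, fun hc => hx.2 ?_⟩, ?_⟩
  · rwa [hx.eq_of_mem hG hb (hcp _)] at hc
  · refine hm.of_dvd_nat (orderOf_dvd_of_pow_eq_one ?_)
    rw [← pow_mul, ← hkm, pow_orderOf_eq_one]

theorem Hyp.no_index_two (hG : Hyp G) {x : G} (hx : Bad x) (N : Subgroup G) [N.Normal]
    (hi : N.index = 2) (hZ : Z(G) ≤ N) : False := by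
  have : Fact (Nat.Prime 2) := ⟨Nat.prime_two⟩
  obtain ⟨T⟩ := (inferInstance : Nonempty (Sylow 2 G))
  by_cases hT : IsMulCommutative (T : Subgroup G)
  · set π := QuotientGroup.mk' Z(G)
    have hsur : Function.Surjective π := QuotientGroup.mk'_surjective _
    have : (N.map π).Normal := Subgroup.Normal.map inferInstance π hsur
    let S := T.mapSurjective hsur
    have : IsMulCommutative (S : Subgroup (G ⧸ Z(G))) := comm_iff.2 fun a ha b hb => by
      obtain ⟨a, haT, rfl⟩ : a ∈ (T : Subgroup G).map π := ha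
      obtain ⟨b, hbT, rfl⟩ : b ∈ (T : Subgroup G).map π := hb
      rw [← map_mul, ← map_mul, comm_iff.1 hT a haT b hbT]
    refine not_index_two_of_sylow_comm hG.oddCore_quot hG.quot_center S (N.map π) ?_
    rw [Subgroup.index_map_eq N hsur (by rwa [QuotientGroup.ker_mk']), hi]
  have hno : ∀ y : G, Bad y → ∀ k : ℕ, y ^ 2 ^ k ≠ 1 := fun y hy k hk =>
    hT (hG.sylow_two_comm hy hk T)
  obtain ⟨y, hy, hyodd⟩ := hx.exists_odd hG hno
  have hNtop : N ≠ ⊤ := fun e => by rw [e, Subgroup.index_top] at hi; norm_num at hi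
  have hyN : y ∈ N := by
    have h1 : (y : G ⧸ N) ^ orderOf y = 1 := by
      rw [← QuotientGroup.mk_pow, pow_orderOf_eq_one, QuotientGroup.mk_one]
    have h2 : (y : G ⧸ N) ^ 2 = 1 := by
      have := pow_card_eq_one' (x := (y : G ⧸ N))
      rwa [← Subgroup.index_eq_card, hi] at this
    have h3 := pow_gcd_eq_one.2 ⟨h1, h2⟩
    rw [show Nat.gcd (orderOf y) 2 = 1 from Nat.coprime_two_right.2 hyodd, pow_one] at h3
    exact (QuotientGroup.eq_one_iff y).1 h3
  obtain ⟨n0, hn0, hn0y⟩ : ∃ n ∈ N, n * y ≠ y * n := by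
    by_contra h
    push Not at h
    refine hy.1 (hG.abelian_le_center (N ⊓ Subgroup.centralizer (N : Set G))
      (fun a ha b hb => (Subgroup.mem_centralizer_iff.1 hb.2 a ha.1))
      ⟨hyN, Subgroup.mem_centralizer_iff.2 h⟩)
  set M := cen(y) with hM
  obtain ⟨g0, hg0, hg0N⟩ : ∃ g ∈ M, g ∉ N := by
    by_contra h
    push Not at h
    exact hn0y (mem_cen.1 (hy.le_cen hG hNtop h hn0))
  -- a 2-element of `M` outside `N`
  obtain ⟨k, m, hm, hkm⟩ := Nat.exists_eq_two_pow_mul_odd (orderOf_pos g0).ne'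
  set g := g0 ^ m with hg
  have hgM : g ∈ M := pow_mem hg0 _
  have hgN : g ∉ N := fun h => hg0N <| by
    obtain ⟨j, hj⟩ := hm
    have hsq : g0 * g0 ∈ N := Subgroup.mul_self_mem_of_index_two hi g0
    rw [hg, hj, pow_succ, pow_mul, pow_two] at h
    exact (Subgroup.mul_mem_cancel_left N (pow_mem hsq j)).1 h
  have hgp : IsPGroup 2 (Subgroup.zpowers (⟨g, hgM⟩ : M)) := by
    obtain ⟨n, -, hn⟩ := (Nat.dvd_prime_pow Nat.prime_two).1 (orderOf_dvd_of_pow_eq_one
      (show g ^ 2 ^ k = 1 by rw [hg, ← pow_mul, mul_comm, ← hkm, pow_orderOf_eq_one]))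
    exact IsPGroup.of_card (n := n) (by rw [Nat.card_zpowers, Subgroup.orderOf_mk, hn])
  obtain ⟨R, hR⟩ := hgp.exists_le_sylow
  set R1 := (R : Subgroup M).map M.subtype
  have hgR : g ∈ R1 := ⟨_, hR (Subgroup.mem_zpowers _), rfl⟩
  have hRM : R1 ≤ M := Subgroup.map_subtype_le _
  have hR1p : IsPGroup 2 R1 := R.2.map _
  have hR1c := hy.two_group_comm hG R1 hR1p hRM
  have hAc : ∀ a ∈ M, a ∈ N → ∀ b ∈ M, b ∈ N → a * b = b * a := fun a ha haN b hb hbN =>
    hG.commute_of hNtop hyN haN hbN hn0 (mem_cen.1 ha) (mem_cen.1 hb) hn0y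
  have hRN : ∀ v ∈ R1, v ∈ N → v ∈ Z(G) := by
    intro v hv hvN
    by_contra hvz
    have hvgood : ¬ Bad v := fun h => by
      obtain ⟨j, hj⟩ := hR1p ⟨v, hv⟩
      exact hno v h j (congrArg Subtype.val hj)
    have hall : ∀ a ∈ M, a * v = v * a := by
      intro a ha
      by_cases haN : a ∈ N
      · exact hAc a ha haN v (hRM hv) hvN
      · have hga : g⁻¹ * a ∈ N :=
          (Subgroup.mul_mem_iff_of_index_two hi).2 (by simp [hgN, haN])
        have h1 := hAc _ (mul_mem (inv_mem hgM) ha) hga v (hRM hv) hvN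
        have h2 : Commute g v := hR1c g hgR v hv
        rw [show a = g * (g⁻¹ * a) by group]
        exact (h2.mul_left (show Commute (g⁻¹ * a) v from h1)).eq
    exact hy.2 (comm_iff.2 fun a ha b hb =>
      commute_of_not_bad hvgood hvz (hall a ha) (hall b hb))
  obtain ⟨T', hT'⟩ := hR1p.exists_le_sylow
  have hT'c : ¬ IsMulCommutative (T' : Subgroup G) := fun h => hT <| by
    refine ⟨⟨fun a b => (Sylow.equiv T T').injective ?_⟩⟩
    rw [map_mul, map_mul]
    exact h.is_comm.comm _ _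
  have hne : R1 ≠ (T' : Subgroup G) := fun e => hT'c (comm_iff.2 (e ▸ hR1c))
  obtain ⟨z, hzT, hzR, hzN⟩ := exists_normalizer_step T'.2 (lt_of_le_of_ne hT' hne)
  have hzM : z ∉ M := fun h => hzR <| by
    have hmax := R.is_maximal' (Q := (T' : Subgroup G).comap M.subtype)
      (T'.2.comap_of_injective M.subtype M.subtype_injective)
      (fun r hr => hT' (Subgroup.mem_map_of_mem M.subtype hr))
    exact ⟨⟨z, h⟩, hmax ▸ (show (⟨z, h⟩ : M) ∈ (T' : Subgroup G).comap M.subtype from hzT), rfl⟩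
  have hgz : g ∉ Z(G) := fun h => hgN (hZ h)
  have hggood : ¬ Bad g := fun h => by
    obtain ⟨j, hj⟩ := hR1p ⟨g, hgR⟩
    exact hno g h j (congrArg Subtype.val hj)
  have hzg : z ∈ Subgroup.normalizer (cen(g) : Set G) := by
    refine mem_normalizer_cen_of_mod (hRN _
      (mul_mem ((Subgroup.mem_normalizer_iff.1 hzN g).1 hgR) (inv_mem hgR)) ?_)
    refine (Subgroup.mul_mem_iff_of_index_two hi).2 ?_
    have h1 : z * g * z⁻¹ ∉ N := fun h => hgN <| by
      have := (inferInstance : N.Normal).conj_mem _ h z⁻¹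
      simpa [mul_assoc] using this
    simp [h1, hgN]
  set y' := z * y * z⁻¹ with hy'
  have hyg : y ∈ cen(g) := mem_cen.2 (mem_cen.1 hgM).symm
  have hy'g : y' ∈ cen(g) := (Subgroup.mem_normalizer_iff.1 hzg y).1 hyg
  have hyy' : y * y' = y' * y :=
    commute_of_not_bad hggood hgz (mem_cen.1 hyg) (mem_cen.1 hy'g)
  have hy'N : y' ∈ N := (inferInstance : N.Normal).conj_mem _ hyN z
  have hn' : z * n0 * z⁻¹ * y' ≠ y' * (z * n0 * z⁻¹) := by
    intro e
    refine hn0y (mul_left_cancel (a := z) (mul_right_cancel (b := z⁻¹) ?_))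
    calc z * (n0 * y) * z⁻¹ = z * n0 * z⁻¹ * y' := by rw [hy']; group
      _ = y' * (z * n0 * z⁻¹) := e
      _ = z * (y * n0) * z⁻¹ := by rw [hy']; group
  -- `z` normalises `A = M ⊓ N`
  set A := M ⊓ N with hA
  have hzA : ∀ a ∈ A, z * a * z⁻¹ ∈ A := by
    intro a ha
    have haN : z * a * z⁻¹ ∈ N := (inferInstance : N.Normal).conj_mem _ ha.2 z
    refine ⟨mem_cen.2 (hG.commute_of hNtop hy'N haN hyN
      ((inferInstance : N.Normal).conj_mem _ hn0 z) ?_ hyy' hn'), haN⟩
    calc z * a * z⁻¹ * y' = z * (a * y) * z⁻¹ := by rw [hy']; group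
      _ = z * (y * a) * z⁻¹ := by rw [mem_cen.1 ha.1]
      _ = y' * (z * a * z⁻¹) := by rw [hy']; group
  have hzNA : z ∈ Subgroup.normalizer (A : Set G) := by
    refine Subgroup.mem_normalizer_iff.2 fun a => ⟨hzA a, fun h => ?_⟩
    let f : A → A := fun s => ⟨z * s * z⁻¹, hzA s s.2⟩
    have hinj : Function.Injective f := fun s t e =>
      Subtype.ext (mul_left_cancel (mul_right_cancel (congrArg Subtype.val e)))
    obtain ⟨s, hs⟩ := (Finite.injective_iff_surjective.1 hinj) ⟨z * a * z⁻¹, h⟩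
    exact (mul_left_cancel (mul_right_cancel (congrArg Subtype.val hs) : z * (s : G) = z * a)) ▸ s.2
  have hMA : M ≤ Subgroup.normalizer (A : Set G) := by
    intro a ha
    refine Subgroup.mem_normalizer_iff.2 fun c => ⟨fun hc => ⟨M.mul_mem (M.mul_mem ha hc.1) (M.inv_mem ha),
      (inferInstance : N.Normal).conj_mem _ hc.2 a⟩, fun hc => ⟨?_, ?_⟩⟩
    · have h : a⁻¹ * (a * c * a⁻¹) * a ∈ M := M.mul_mem (M.mul_mem (M.inv_mem ha) hc.1) ha
      simpa [mul_assoc] using h
    · simpa [mul_assoc] using (inferInstance : N.Normal).conj_mem _ hc.2 a⁻¹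
  have hH : Subgroup.normalizer (A : Set G) ≠ ⊤ :=
    hG.normalizer_ne_top (show y ∈ A from ⟨self_mem_cen y, hyN⟩) hy.1
      (Group.isSolvable_of_comm fun a b => Subtype.ext (hAc a a.2.1 a.2.2 b b.2.1 b.2.2))
  exact hzM (hy.le_cen hG hH hMA hzNA)

end CfsgLib.Recog.NonCA
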