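import Cfsg.Agent.Lib.Recog.NonCA.PSLCover
import Cfsg.Agent.Lib.Geom.SubfieldPSL
import Cfsg.Agent.S5892
import Mathlib.FieldTheory.Finite.GaloisField

/-!
The minimal non-CA groups among `PSL(2,q)`.
-/

set_option autoImplicit false
set_option linter.style.haveILetI false

namespace CfsgLib.Recog.NonCA

open Matrix CfsgLib.Geom

variable {F : Type} [Field F] [Fintype F]

local notation "S" => ProjectiveSpecialLinearGroup (Fin 2) F
local notation "cenS(" x ")" => Subgroup.centralizer ({x} : Set S)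

/-- The condition on `q` in the classification of minimal non-CA groups. -/
def Cond (q : ℕ) : Prop :=
  (q.Prime ∧ 5 < q ∧ ¬ 16 ∣ q ^ 2 - 1) ∨ ∃ p : ℕ, p.Prime ∧ p ≠ 2 ∧ (q = 3 ^ p ∨ q = 5 ^ p)

theorem not_sixteen_of_mod {q : ℕ} (h : q % 8 = 3 ∨ q % 8 = 5) : ¬ 16 ∣ q ^ 2 - 1 := by
  rintro ⟨c, hc⟩
  rcases h with h | h
  · obtain ⟨a, rfl⟩ : ∃ a, q = 8 * a + 3 := ⟨q / 8, by omega⟩
    rw [show (8 * a + 3) ^ 2 = 16 * (4 * a * a + 3 * a) + 9 by ring] at hc
    omega
  · obtain ⟨a, rfl⟩ : ∃ a, q = 8 * a + 5 := ⟨q / 8, by omega⟩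
    rw [show (8 * a + 5) ^ 2 = 16 * (4 * a * a + 5 * a + 1) + 9 by ring] at hc
    omega

theorem mod_eight_of_not_sixteen {q : ℕ} (hodd : Odd q) (h : ¬ 16 ∣ q ^ 2 - 1) :
    q % 8 = 3 ∨ q % 8 = 5 := by
  have h2 : q % 2 = 1 := Nat.odd_iff.1 hodd
  by_contra hne
  apply h
  rcases (by omega : q % 8 = 1 ∨ q % 8 = 7) with e | e
  · obtain ⟨a, rfl⟩ : ∃ a, q = 8 * a + 1 := ⟨q / 8, by omega⟩
    exact ⟨4 * a * a + a, by
      rw [show (8 * a + 1) ^ 2 = 16 * (4 * a * a + a) + 1 by ring, Nat.add_sub_cancel]⟩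
  · obtain ⟨a, rfl⟩ : ∃ a, q = 8 * a + 7 := ⟨q / 8, by omega⟩
    exact ⟨4 * a * a + 7 * a + 3, by
      rw [show (8 * a + 7) ^ 2 = 16 * (4 * a * a + 7 * a + 3) + 1 by ring, Nat.add_sub_cancel]⟩

theorem pow_mod_eight {b p : ℕ} (hb : b ^ 2 % 8 = 1) (hp : Odd p) : b ^ p % 8 = b % 8 := by
  obtain ⟨j, rfl⟩ := hp
  rw [pow_succ, pow_mul, Nat.mul_mod, Nat.pow_mod, hb, one_pow]
  simp

theorem Cond.facts {q : ℕ} (h : Cond q) : Odd q ∧ 5 < q ∧ ¬ 16 ∣ q ^ 2 - 1 := by
  rcases h with ⟨hp, h5, h16⟩ | ⟨p, hp, hp2, hq⟩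
  · exact ⟨hp.odd_of_ne_two (by omega), h5, h16⟩
  · have hpo := hp.odd_of_ne_two hp2
    have h2 : 2 ≤ p := hp.two_le
    rcases hq with rfl | rfl
    · refine ⟨Odd.pow (by decide), ?_,
        not_sixteen_of_mod (Or.inl (by rw [pow_mod_eight (by norm_num) hpo]))⟩
      exact lt_of_lt_of_le (by norm_num) (Nat.pow_le_pow_right (by norm_num) h2)
    · refine ⟨Odd.pow (by decide), ?_,
        not_sixteen_of_mod (Or.inr (by rw [pow_mod_eight (by norm_num) hpo]))⟩
      exact lt_of_lt_of_le (by norm_num) (Nat.pow_le_pow_right (by norm_num) h2)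

/-- The element of odd order in a non-abelian part of an involution centraliser. -/
theorem exists_odd_of_noncomm (hodd : Odd (Fintype.card F)) (h5 : 5 ≤ Fintype.card F)
    (h16 : ¬ 16 ∣ Fintype.card F ^ 2 - 1) (M : Subgroup S) {t a b : S} (ht : t * t = 1)
    (ht1 : t ≠ 1) (htM : t ∈ M) (haM : a ∈ M) (hbM : b ∈ M) (hat : a * t = t * a)
    (hbt : b * t = t * b) (hab : a * b ≠ b * a) :
    ∃ k : ℕ, Even k ∧ ¬ 4 ∣ k ∧ (2 * k + 1 = Fintype.card F ∨ 2 * k = Fintype.card F + 1) ∧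
      4 ∣ Nat.card M ∧
      ∃ d ∈ M, d * t = t * d ∧ d * d ≠ 1 ∧ orderOf d ∣ k ∧ Odd (orderOf d) := by
  obtain ⟨k, hk2, hk, hcard, hdata⟩ := involution_data hodd h5 ht ht1
  have h4k : ¬ 4 ∣ k := by
    rintro ⟨c, hc⟩
    apply h16
    rcases hk with e | e
    · exact ⟨4 * c * c + c, by
        rw [← e, hc, show (2 * (4 * c) + 1) ^ 2 = 16 * (4 * c * c + c) + 1 by ring,
          Nat.add_sub_cancel]⟩
    · obtain ⟨c', rfl⟩ : ∃ c', c = c' + 1 := ⟨c - 1, by omega⟩
      refine ⟨4 * c' * c' + 7 * c' + 3, ?_⟩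
      rw [show Fintype.card F = 8 * c' + 7 by omega,
        show (8 * c' + 7) ^ 2 = 16 * (4 * c' * c' + 7 * c' + 3) + 1 by ring, Nat.add_sub_cancel]
  obtain ⟨m, hm⟩ := hk2
  have hmodd : Odd m := by
    rcases Nat.even_or_odd m with ⟨j, hj⟩ | h
    · exact absurd ⟨j, by omega⟩ h4k
    · exact h
  -- elements which are not involutions give an element of odd order
  have hodd_of : ∀ c ∈ M, t * c = c * t → c * c ≠ 1 →
      c * c ∈ M ∧ (c * c) * t = t * (c * c) ∧ (c * c) * (c * c) ≠ 1 ∧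
        orderOf (c * c) ∣ k ∧ Odd (orderOf (c * c)) ∧ Nat.card cenS(c) = k := by
    intro c hcM htc hc2
    obtain ⟨hcc, hord⟩ := hdata c htc hc2
    have hpow : (c * c) ^ m = 1 := by
      rw [← pow_two, ← pow_mul, ← orderOf_dvd_iff_pow_eq_one, show 2 * m = k by omega]
      exact hord
    have ho : Odd (orderOf (c * c)) := hmodd.of_dvd_nat (orderOf_dvd_of_pow_eq_one hpow)
    refine ⟨mul_mem hcM hcM, (((show Commute c t from htc.symm)).mul_left htc.symm).eq, fun e => hc2 ?_,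
      (orderOf_dvd_of_pow_eq_one hpow).trans ⟨2, by omega⟩, ho, hcc⟩
    have h := orderOf_dvd_of_pow_eq_one (show (c * c) ^ 2 = 1 by rw [pow_two]; exact e)
    rcases (Nat.dvd_prime Nat.prime_two).1 h with h1 | h1
    · exact orderOf_eq_one_iff.1 h1
    · rw [h1] at ho; exact absurd ho (by decide)
  -- not all squares vanish
  obtain ⟨c, hcM, htc, hc2⟩ : ∃ c ∈ M, t * c = c * t ∧ c * c ≠ 1 := by
    by_contra hc
    push Not at hc
    have h1 := hc a haM hat.symm
    have h2 := hc b hbM hbt.symm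
    have h3 := hc (a * b) (mul_mem haM hbM) ((show Commute t a from hat.symm).mul_right hbt.symm).eq
    exact hab (calc a * b = (a * b)⁻¹ := (inv_eq_of_mul_eq_one_right h3).symm
      _ = b⁻¹ * a⁻¹ := _root_.mul_inv_rev a b
      _ = b * a := by rw [inv_eq_of_mul_eq_one_right h1, inv_eq_of_mul_eq_one_right h2])
  obtain ⟨hdM, hdt, hd2, hdk, hdo, hcc⟩ := hodd_of c hcM htc hc2
  refine ⟨k, ⟨m, hm⟩, h4k, hk, ?_, c * c, hdM, hdt, hd2, hdk, hdo⟩
  -- an element outside `C(c)` is a second involution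
  have hd1 : c * c ≠ 1 := hc2
  have hc1 : c ≠ 1 := fun e => hc2 (by rw [e, one_mul])
  have hCd : ∀ y : S, y * (c * c) = (c * c) * y → y * c = c * y := fun y hy =>
    psl_comm_of hd1 (Or.inl hd2) hy (by rw [mul_assoc])
  obtain ⟨s, hsM, hst, hsc⟩ : ∃ s ∈ M, s * t = t * s ∧ s * c ≠ c * s := by
    by_contra h
    push Not at h
    exact hab (psl_comm_of hc1 (Or.inl hc2) (h a haM hat) (h b hbM hbt))
  have hs2 : s * s = 1 := by
    by_contra hs2
    obtain ⟨-, -, -, -, -, hsc'⟩ := hodd_of s hsM hst.symm hs2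
    have hs1 : s ≠ 1 := fun e => hs2 (by rw [e, one_mul])
    have hle : ∀ y ∈ cenS(s), y * t = t * y := fun y hy =>
      psl_comm_of hs1 (Or.inl hs2) (mem_cen.1 hy) (hst.symm)
    set T := cenS(t)
    have hsub : cenS(s) ≤ T := fun y hy => mem_cen.2 (hle y hy)
    have hidx : ((cenS(s)).subgroupOf T).index = 2 := by
      have h := ((cenS(s)).subgroupOf T).card_mul_index
      rw [Nat.card_congr (Subgroup.subgroupOfEquivOfLe hsub).toEquiv, hsc', hcard] at h
      have hk0 : 0 < k := by omega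
      exact Nat.eq_of_mul_eq_mul_left hk0 (by rw [h, mul_comm])
    have hmem : (⟨c * c, mem_cen.2 hdt⟩ : T) ∈ (cenS(s)).subgroupOf T := by
      have h := Subgroup.sq_mem_of_index_two hidx
        ((⟨c * c, mem_cen.2 hdt⟩ : T) ^ ((orderOf (c * c) + 1) / 2))
      rwa [← pow_mul, show (orderOf (c * c) + 1) / 2 * 2 = orderOf (c * c) + 1 by
          obtain ⟨j, hj⟩ := hdo; omega, pow_succ,
        show (⟨c * c, mem_cen.2 hdt⟩ : T) ^ orderOf (c * c) = 1 from
          Subtype.ext (pow_orderOf_eq_one (c * c)), one_mul] at h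
    exact hsc (hCd s (mem_cen.1 (Subgroup.mem_subgroupOf.1 hmem)).symm)
  set K : Subgroup S := M ⊓ cenS(t)
  have hT : Subgroup.zpowers t ≤ K :=
    Subgroup.zpowers_le.2 ⟨htM, self_mem_cen t⟩
  haveI : ((Subgroup.zpowers t).subgroupOf K).Normal := ⟨fun z hz g => by
    rw [Subgroup.mem_subgroupOf] at hz ⊢
    obtain ⟨i, hi⟩ := Subgroup.mem_zpowers_iff.1 hz
    have hg : Commute (g : S) t := mem_cen.1 g.2.2
    push_cast
    rw [← hi, (hg.zpow_right i).eq, mul_inv_cancel_right]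
    exact Subgroup.zpow_mem_zpowers t i⟩
  let sK : K := ⟨s, hsM, mem_cen.2 hst⟩
  let sq : K ⧸ (Subgroup.zpowers t).subgroupOf K := QuotientGroup.mk sK
  have hq : orderOf sq = 2 := by
    refine orderOf_eq_prime ?_ fun e => ?_
    · rw [pow_two, ← QuotientGroup.mk_mul, show sK * sK = 1 from Subtype.ext hs2,
        QuotientGroup.mk_one]
    · obtain ⟨i, hi⟩ := Subgroup.mem_zpowers_iff.1
        (Subgroup.mem_subgroupOf.1 ((QuotientGroup.eq_one_iff sK).1 e))
      change t ^ i = s at hi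
      have htc' : Commute t c := htc
      exact hsc (by rw [← hi]; exact (htc'.zpow_left i).eq)
  have h1 := orderOf_dvd_natCard sq
  rw [hq] at h1
  have h2 := ((Subgroup.zpowers t).subgroupOf K).card_eq_card_quotient_mul_card_subgroup
  rw [Nat.card_congr (Subgroup.subgroupOfEquivOfLe hT).toEquiv, Nat.card_zpowers,
    orderOf_eq_prime (by rw [pow_two, ht]) ht1] at h2
  refine dvd_trans ?_ (Subgroup.card_dvd_of_le (inf_le_left : K ≤ M))
  rw [h2]
  exact mul_dvd_mul h1 dvd_rfl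

omit [Fintype F] in
theorem no_odd_of_orders {M : Subgroup S} {t d : S} (ht : t * t = 1) (ht1 : t ≠ 1) (htM : t ∈ M)
    (hdM : d ∈ M) (hdt : d * t = t * d) (hd2 : d * d ≠ 1) (hdo : Odd (orderOf d))
    (hM : ∀ g ∈ M, g ^ 2 = 1 ∨ g ^ 3 = 1 ∨ g ^ 5 = 1) : False := by
  have hc : Commute d t := hdt
  have hodd : ∀ j : ℕ, Odd j → (d * t) ^ j ≠ 1 := fun j hj e => by
    rw [hc.mul_pow, show t ^ j = t by
      obtain ⟨i, rfl⟩ := hj
      rw [pow_succ, pow_mul, pow_two, ht, one_pow, one_mul]] at e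
    have h1 : orderOf t ∣ orderOf d := by
      rw [show t = (d ^ j)⁻¹ from (inv_eq_of_mul_eq_one_right e).symm, orderOf_inv]
      exact orderOf_pow_dvd j
    rw [orderOf_eq_prime (by rw [pow_two, ht]) ht1] at h1
    exact Nat.not_even_iff_odd.2 hdo (even_iff_two_dvd.2 h1)
  rcases hM _ (mul_mem hdM htM) with h | h | h
  · rw [hc.mul_pow, pow_two t, ht, mul_one, pow_two] at h
    exact hd2 h
  · exact hodd 3 (by decide) h
  · exact hodd 5 (by decide) h

theorem dihedral_comm {k : ℕ} {t c : DihedralGroup k} (ht : t * t = 1) (hc : c * c ≠ 1)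
    (h : c * t = t * c) : ∀ g, g * t = t * g := by
  rcases c with i | i
  swap
  · exact absurd (DihedralGroup.sr_mul_self i) hc
  rcases t with j | j
  · rw [DihedralGroup.r_mul_r, DihedralGroup.one_def, DihedralGroup.r.injEq] at ht
    have hj : -j = j := neg_eq_of_add_eq_zero_left ht
    rintro (l | l)
    · rw [DihedralGroup.r_mul_r, DihedralGroup.r_mul_r, add_comm]
    · rw [DihedralGroup.sr_mul_r, DihedralGroup.r_mul_sr]
      congr 1
      rw [sub_eq_add_neg, hj]
  · rw [DihedralGroup.r_mul_sr, DihedralGroup.sr_mul_r, DihedralGroup.sr.injEq] at h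
    refine absurd ?_ hc
    rw [DihedralGroup.r_mul_r, DihedralGroup.one_def]
    congr 1
    linear_combination -h

theorem alt_four_orders : ∀ g : alternatingGroup (Fin 4), g ^ 2 = 1 ∨ g ^ 3 = 1 ∨ g ^ 5 = 1 := by
  decide +kernel

theorem alt_five_orders : ∀ g : alternatingGroup (Fin 5), g ^ 2 = 1 ∨ g ^ 3 = 1 ∨ g ^ 5 = 1 := by
  decide +kernel

theorem maximal_isCA (hq : Cond (Fintype.card F)) (M : Subgroup S) (hM : IsCoatom M) : IsCA M := by
  classical
  obtain ⟨hodd, h5, h16⟩ := hq.facts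
  have hmod := mod_eight_of_not_sixteen hodd h16
  intro x hx
  by_cases hx2 : (x : S) * x = 1
  swap
  · have hx1 : (x : S) ≠ 1 := fun e => hx2 (by rw [e, one_mul])
    refine comm_iff.2 fun a ha b hb => Subtype.ext (psl_comm_of hx1 (Or.inl hx2) ?_ ?_)
    · exact congrArg Subtype.val (mem_cen.1 ha)
    · exact congrArg Subtype.val (mem_cen.1 hb)
  refine by_contra fun hnc => ?_
  obtain ⟨a, ha, b, hb, hab⟩ := exists_noncomm hnc
  have hx1 : (x : S) ≠ 1 := fun e => hx (by
    rw [show x = 1 from Subtype.ext e]; exact one_mem _)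
  obtain ⟨k, hk2, h4k, hk, h4M, d, hdM, hdt, hd2, hdk, hdo⟩ := exists_odd_of_noncomm hodd h5.le h16 M hx2 hx1
    x.2 a.2 b.2 (congrArg Subtype.val (mem_cen.1 ha)) (congrArg Subtype.val (mem_cen.1 hb))
    (fun e => hab (Subtype.ext e))
  obtain ⟨p, hp⟩ := CharP.exists F
  haveI : Fact p.Prime := ⟨CharP.char_is_prime F p⟩
  have horders : ∀ {A : Type} [Group A], (M ≃* A) → (∀ g : A, g ^ 2 = 1 ∨ g ^ 3 = 1 ∨ g ^ 5 = 1) →
      False := fun e hA => no_odd_of_orders hx2 hx1 x.2 hdM hdt hd2 hdo fun g hg => by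
    have := hA (e ⟨g, hg⟩)
    simp only [← map_pow, MulEquiv.map_eq_one_iff] at this
    simpa [Subtype.ext_iff] using this
  have hdih : ∀ j : ℕ, (M ≃* DihedralGroup j) → False := fun j e => hx (mem_center.2 fun g => by
    apply e.injective
    rw [map_mul, map_mul]
    refine dihedral_comm (c := e ⟨d, hdM⟩) ?_ ?_ ?_ (e g)
    · rw [← map_mul, show x * x = 1 from Subtype.ext hx2, map_one]
    · rw [← map_mul]
      exact fun h => hd2 (congrArg Subtype.val (e.map_eq_one_iff.1 h))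
    · rw [← map_mul, ← map_mul]
      exact congrArg e (Subtype.ext hdt))
  rcases Cfsg.Agent.S5892.result p hodd h5.le M hM with h | ⟨-, j, -, ⟨e⟩⟩ | ⟨-, -, j, -, ⟨e⟩⟩ |
    ⟨F₀, _, _, hc, -⟩ | ⟨F₀, _, _, r, hr, hr2, hc, ⟨e⟩⟩ | ⟨-, -, ⟨e⟩⟩ | ⟨-, -, -, ⟨e⟩⟩ | ⟨hp', h8, -⟩
  · obtain ⟨c, hc⟩ := h4M
    obtain ⟨i, hi⟩ : ∃ i, Fintype.card F = 2 * i + 1 := hodd
    rw [hc, hi, Nat.add_sub_cancel] at h
    have h4i : 4 ∣ i := by
      have hco : Nat.Coprime 4 (2 * i + 1) := by
        rw [show (4 : ℕ) = 2 ^ 2 by norm_num]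
        exact (Nat.coprime_two_left.2 ⟨i, rfl⟩).pow_left 2
      refine hco.dvd_of_dvd_mul_left ⟨c, ?_⟩
      refine Nat.eq_of_mul_eq_mul_left two_pos ?_
      rw [h]; ring
    obtain ⟨u, hu⟩ := h4i
    omega
  · exact hdih j e
  · exact hdih j e
  · have : Odd (Fintype.card F₀) := by
      rw [hc] at hodd
      exact (Nat.odd_pow_iff two_ne_zero).1 hodd
    have hsq : Fintype.card F % 8 = 1 := by
      rw [hc]
      obtain ⟨i, hi⟩ := this
      rw [hi, show (2 * i + 1) ^ 2 = 4 * (i * (i + 1)) + 1 by ring]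
      obtain ⟨u, hu⟩ := Nat.even_mul_succ_self i
      omega
    omega
  · have hF0 : 1 < Fintype.card F₀ := Fintype.one_lt_card
    rcases hq with ⟨hprime, -, -⟩ | ⟨p', hp', -, h35⟩
    · rw [hc] at hprime
      exact hr.ne_one (Nat.Prime.eq_one_of_pow hprime)
    obtain ⟨b, hb, hqb⟩ : ∃ b, (b = 3 ∨ b = 5) ∧ Fintype.card F = b ^ p' := by
      rcases h35 with h | h
      · exact ⟨3, Or.inl rfl, h⟩
      · exact ⟨5, Or.inr rfl, h⟩
    have hbp : b.Prime := by rcases hb with rfl | rfl <;> norm_num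
    obtain ⟨j, -, hj⟩ : ∃ j ≤ p', Fintype.card F₀ = b ^ j :=
      (Nat.dvd_prime_pow hbp).1 (by rw [← hqb, hc]; exact dvd_pow_self _ hr.ne_zero)
    have hjr : j * r = p' := Nat.pow_right_injective hbp.two_le
      (show b ^ (j * r) = b ^ p' by rw [pow_mul, ← hj, ← hc, hqb])
    have hj1 : j = 1 := ((hp'.eq_one_or_self_of_dvd j ⟨r, hjr.symm⟩).resolve_right fun e =>
      hr.ne_one (by
        rw [e] at hjr
        exact (Nat.mul_eq_left hp'.ne_zero).1 hjr))
    rw [hj1, pow_one] at hj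
    have hcardM : 2 * Nat.card M = b * (b ^ 2 - 1) := by
      rw [Nat.card_congr e.toEquiv, ← hj]
      exact psl_two_mul_card (by rw [hj]; rcases hb with rfl | rfl <;> decide)
    have hdM' : orderOf d ∣ Nat.card M := Subgroup.orderOf_dvd_natCard M hdM
    have hd1 : orderOf d ≠ 1 := fun h => hd2 (by rw [orderOf_eq_one_iff.1 h, one_mul])
    obtain ⟨j', hj'⟩ := hr2
    have hp'odd : Odd p' := by rw [← hjr, hj1, one_mul, hj']; exact ⟨j', rfl⟩
    have hdiv : orderOf d ∣ b * 3 := by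
      have h12 : orderOf d ∣ 4 * (b * 3) := by
        rcases hb with rfl | rfl
        · rw [show Nat.card M = 12 by omega] at hdM'
          exact hdM'.trans ⟨3, by norm_num⟩
        · rw [show Nat.card M = 60 by omega] at hdM'
          exact hdM'
      exact ((Nat.coprime_two_right.2 hdo).pow_right 2).dvd_of_dvd_mul_left
        (by simpa [pow_two] using h12)
    have hbk : ¬ b ∣ k := fun h => by
      have hbq : b ∣ Fintype.card F := by rw [hqb]; exact dvd_pow_self b hp'.ne_zero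
      have : b ∣ 1 := by
        rcases hk with e' | e'
        · exact (Nat.dvd_add_right (h.mul_left 2)).1 (e' ▸ hbq)
        · exact (Nat.dvd_add_right hbq).1 (e' ▸ h.mul_left 2)
      exact hbp.not_dvd_one this
    have hd3 : orderOf d ∣ 3 := by
      refine (Nat.Coprime.dvd_of_dvd_mul_left ?_ hdiv)
      exact ((hbp.coprime_iff_not_dvd.2 fun h => hbk (h.trans hdk)).symm)
    have h3k : 3 ∣ k := by
      rcases (Nat.dvd_prime Nat.prime_three).1 hd3 with h | h
      · exact absurd h hd1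
      · exact h ▸ hdk
    rcases hb with rfl | rfl
    · exact hbk h3k
    · have h3 : 5 ^ p' % 3 = 2 := by
        obtain ⟨i, hi⟩ := hp'odd
        rw [hi, pow_succ, pow_mul, Nat.mul_mod, Nat.pow_mod]
        norm_num
      obtain ⟨u, hu⟩ := hk2
      obtain ⟨w, hw⟩ := h3k
      have h85 := pow_mod_eight (b := 5) (p := p') (by norm_num) hp'odd
      rw [← hqb] at h3 h85
      rcases hk with e' | e' <;> omega
  · exact horders e alt_five_orders
  · exact horders e alt_four_orders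
  · rw [← hp'] at h8
    omega

/-- The groups in the list are minimal non-CA groups. -/
theorem psl_backward (hq : Cond (Fintype.card F)) :
    ¬ Group.IsSolvable S ∧ ¬ IsCA S ∧ ∀ H : Subgroup S, H ≠ ⊤ → IsCA H := by
  obtain ⟨hodd, h5, -⟩ := hq.facts
  refine ⟨Moebius.psl_not_solvable (by omega), psl_not_isCA hodd h5, fun H hH => ?_⟩
  obtain ⟨M, hM, hle⟩ := (eq_top_or_exists_le_coatom H).resolve_left hH
  exact ((maximal_isCA hq M hM).subgroup (H.subgroupOf M)).of_equiv
    (Subgroup.subgroupOfEquivOfLe hle).symm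

/-- The backward direction for a group isomorphic to a group in the list. -/
theorem backward_of_equiv {G : Type*} [Group G] (e : G ≃* S) (hq : Cond (Fintype.card F)) :
    ¬ Group.IsSolvable G ∧ ¬ IsCA G ∧ ∀ H : Subgroup G, H ≠ ⊤ → IsCA H := by
  obtain ⟨h1, h2, h3⟩ := psl_backward hq
  refine ⟨fun h => h1 ?_, fun h => h2 (h.of_equiv e.symm), fun H hH => ?_⟩
  · haveI := h
    exact solvable_of_surjective (f := e.toMonoidHom) e.surjective
  · refine (h3 (H.map e.toMonoidHom) fun ht => hH ?_).of_equiv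
      (H.equivMapOfInjective e.toMonoidHom e.injective)
    exact Subgroup.map_injective e.injective
      (by rw [ht, Subgroup.map_top_of_surjective _ e.surjective])

/-- The arithmetic condition from the subfield subgroups. -/
theorem psl_condition (hh : Hyp S) (hn : ¬ IsCA S) (h8 : ¬ 8 ∣ Nat.card S) :
    Cond (Fintype.card F) := by
  classical
  have hodd : Odd (Fintype.card F) := by
    rcases Nat.even_or_odd (Fintype.card F) with h | h
    · exact absurd (psl_even_isCA h) hn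
    · exact h
  have h5 : 5 < Fintype.card F := by
    by_contra h5
    have h3 : ¬ Fintype.card F ≤ 3 := fun h => hh.ns (psl_small_solvable h)
    obtain ⟨i, hi⟩ := hodd
    exact hn (psl_five_isCA (by omega))
  have h16 : ¬ 16 ∣ Fintype.card F ^ 2 - 1 := fun h => h8 ((eight_dvd_iff hodd).2 h)
  obtain ⟨p, hp⟩ := CharP.exists F
  obtain ⟨⟨m, hm0⟩, hprime, hq⟩ := FiniteField.card F p
  simp only [PNat.mk_coe] at hq
  haveI : Fact p.Prime := ⟨hprime⟩
  have hp2 : p ≠ 2 := fun e => by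
    rw [hq, e] at hodd
    exact Nat.not_even_iff_odd.2 hodd ((Nat.even_pow' hm0.ne').2 even_two)
  rcases eq_or_ne m 1 with hm | hm
  · exact Or.inl ⟨by rw [hq, hm, pow_one]; exact hprime, h5, h16⟩
  have hm2 : Odd m := by
    rcases Nat.even_or_odd m with ⟨i, hi⟩ | h
    · exfalso
      have hpo : Odd (p ^ i) := (hprime.odd_of_ne_two hp2).pow
      obtain ⟨u, hu⟩ := hpo
      have := mod_eight_of_not_sixteen hodd h16
      rw [hq, hi, pow_add, hu] at this
      obtain ⟨v, hv⟩ := Nat.even_mul_succ_self u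
      rw [show (2 * u + 1) * (2 * u + 1) = 4 * (u * (u + 1)) + 1 by ring] at this
      omega
    · exact h
  have key : ∀ r : ℕ, r.Prime → r ∣ m → r = m ∧ (p = 3 ∨ p = 5) := by
    rintro r hr ⟨j, hj⟩
    have hj0 : j ≠ 0 := fun e => by rw [e, mul_zero] at hj; omega
    let K := GaloisField p j
    letI : Fintype K := Fintype.ofFinite K
    have hK : Fintype.card K = p ^ j := by
      rw [← Nat.card_eq_fintype_card]
      exact GaloisField.card p j hj0
    have hKF : Fintype.card K ^ r = Fintype.card F := by rw [hK, hq, ← pow_mul, hj, mul_comm]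
    obtain ⟨f⟩ := Moebius.exists_ringHom_of_card_pow K F r hr.one_le hKF
    obtain ⟨H, ⟨e⟩⟩ := Moebius.exists_psl_subfield f
    have hKodd : Odd (Fintype.card K) := by rw [hK]; exact (hprime.odd_of_ne_two hp2).pow
    have hKlt : Fintype.card K < Fintype.card F := by
      rw [← hKF]
      exact lt_self_pow₀ Fintype.one_lt_card hr.one_lt
    have hne : H ≠ ⊤ := by
      intro htop
      have hc : Nat.card S = Nat.card (ProjectiveSpecialLinearGroup (Fin 2) K) := by
        rw [← Nat.card_congr e.toEquiv, htop, Subgroup.card_top]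
      have h1 := psl_two_mul_card (F := F) hodd
      have h2 := psl_two_mul_card (F := K) hKodd
      have hs : Fintype.card K ^ 2 - 1 ≤ Fintype.card F ^ 2 - 1 :=
        Nat.sub_le_sub_right (Nat.pow_le_pow_left hKlt.le 2) 1
      have hpos : 0 < Fintype.card F ^ 2 - 1 := by
        have : 2 ≤ Fintype.card F ^ 2 :=
          le_trans (by omega : 2 ≤ Fintype.card F) (Nat.le_self_pow two_ne_zero _)
        omega
      have := Nat.mul_lt_mul_of_lt_of_le hKlt hs hpos
      omega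
    have hK5 : Fintype.card K ≤ 5 := by
      by_contra h
      exact psl_not_isCA hKodd (by omega) ((hh.sub H hne).of_equiv e.symm)
    have hp3 : 3 ≤ p := by
      have := hprime.two_le
      omega
    have hj1 : j = 1 := by
      by_contra h
      have : p ^ 2 ≤ p ^ j := Nat.pow_le_pow_right hprime.pos (by omega)
      have : 3 * 3 ≤ p ^ 2 := by rw [pow_two]; exact Nat.mul_le_mul hp3 hp3
      omega
    subst hj1
    rw [pow_one] at hK
    refine ⟨by omega, ?_⟩
    by_contra h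
    have : p ≠ 4 := fun e => by rw [e] at hprime; norm_num at hprime
    omega
  obtain ⟨hrm, hp35⟩ := key m.minFac (Nat.minFac_prime hm) (Nat.minFac_dvd m)
  have hmp : m.Prime := hrm ▸ Nat.minFac_prime hm
  refine Or.inr ⟨m, hmp, fun e => ?_, ?_⟩
  · rw [e] at hm2
    exact absurd hm2 (by decide)
  · rcases hp35 with rfl | rfl
    · exact Or.inl hq
    · exact Or.inr hq

end CfsgLib.Recog.NonCA
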