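import Cfsg.Agent.Lib.Recog.NonCA.PSLCentralizer
import Cfsg.Agent.Lib.Classical.SLTwoSylowOdd
import Mathlib.GroupTheory.Transfer

/-!
Central extensions of `PSL(2,q)`: the Sylow subgroups for odd primes are abelian (`q ≠ 9` for the
prime of the characteristic), hence such primes do not divide the centre of a perfect extension.
-/

set_option autoImplicit false
set_option linter.style.haveILetI false

namespace CfsgLib.Recog.NonCA

open Matrix CfsgLib.Geom
open scoped commutatorElement

universe u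

variable {F : Type} [Field F]

local notation "S" => ProjectiveSpecialLinearGroup (Fin 2) F
local notation "SL2" => Matrix.SpecialLinearGroup (Fin 2) F

/-- The unipotent element with entry `c`. -/
def uSL (c : F) : SL2 := ⟨!![1, c; 0, 1], by simp [Matrix.det_fin_two]⟩

theorem uSL_mul (a b : F) : uSL a * uSL b = uSL (a + b) := by
  apply Subtype.ext
  show (uSL a).1 * (uSL b).1 = (uSL (a + b)).1
  ext i j
  fin_cases i <;> fin_cases j <;> simp [uSL, Matrix.mul_apply, Fin.sum_univ_two, add_comm]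

/-- The unipotent elements of `PSL(2,q)`. -/
def uP (c : F) : S := QuotientGroup.mk (uSL c)

theorem uP_mul (a b : F) : uP a * uP b = uP (a + b) := by
  rw [uP, uP, uP, ← QuotientGroup.mk_mul, uSL_mul]

theorem uP_zero : uP (0 : F) = 1 := by
  have h := uP_mul (F := F) 0 0
  rw [add_zero] at h
  exact mul_eq_left.1 h

/-- The unipotent subgroup. -/
def uGrp (F : Type) [Field F] : Subgroup (ProjectiveSpecialLinearGroup (Fin 2) F) where
  carrier := Set.range uP
  mul_mem' := by
    rintro _ _ ⟨a, rfl⟩ ⟨b, rfl⟩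
    exact ⟨a + b, (uP_mul a b).symm⟩
  one_mem' := ⟨0, uP_zero⟩
  inv_mem' := by
    rintro _ ⟨a, rfl⟩
    exact ⟨-a, (inv_eq_of_mul_eq_one_right (by rw [uP_mul, add_neg_cancel, uP_zero])).symm⟩

theorem uP_injective : Function.Injective (uP (F := F)) := by
  intro a b h
  rw [uP, uP, QuotientGroup.eq] at h
  have e : uSL a * ((uSL a)⁻¹ * uSL b) = uSL b := mul_inv_cancel_left _ _
  have e' := congrArg Subtype.val e
  rw [Matrix.SpecialLinearGroup.coe_mul] at e'
  rcases CfsgLib.InvChar.PSLFour.coe_center_sl h with h1 | h1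
  · rw [h1, mul_one] at e'
    simpa [uSL] using congrFun (congrFun e' 0) 1
  · rw [h1] at e'
    have h00 := congrFun (congrFun e' 0) 0
    have h01 := congrFun (congrFun e' 0) 1
    simp [uSL] at h00 h01
    have h2 : (2 : F) = 0 := by linear_combination -h00
    linear_combination h01 + a * h2

variable [Fintype F]

theorem card_uGrp : Nat.card (uGrp F) = Fintype.card F := by
  rw [← Nat.card_eq_fintype_card]
  exact (Nat.card_eq_of_bijective (fun c : F => (⟨uP c, c, rfl⟩ : uGrp F))
    ⟨fun a b h => uP_injective (congrArg Subtype.val h),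
      fun ⟨_, c, rfl⟩ => ⟨c, rfl⟩⟩).symm

/-- The diagonal element with entries `s, s⁻¹`. -/
def dSL (s : F) (hs : s ≠ 0) : SL2 := ⟨!![s, 0; 0, s⁻¹], by simp [Matrix.det_fin_two, hs]⟩

/-- A square times a translation is conjugate to it by a diagonal element. -/
theorem exists_torus {s : F} (hs : s ≠ 0) : ∃ h : S, ∀ c : F, h * uP c * h⁻¹ = uP (s * s * c) := by
  refine ⟨QuotientGroup.mk' (Subgroup.center SL2) (dSL s hs), fun c => ?_⟩
  rw [mul_inv_eq_iff_eq_mul]
  show QuotientGroup.mk' (Subgroup.center SL2) (dSL s hs) * QuotientGroup.mk' _ (uSL c) =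
    QuotientGroup.mk' _ (uSL (s * s * c)) * QuotientGroup.mk' _ (dSL s hs)
  rw [← map_mul, ← map_mul]
  refine congrArg _ (Subtype.ext ?_)
  show (dSL s hs).1 * (uSL c).1 = (uSL (s * s * c)).1 * (dSL s hs).1
  ext i j
  fin_cases i <;> fin_cases j <;> simp [uSL, dSL, Matrix.mul_apply, Fin.sum_univ_two]
  field_simp

open Polynomial in
/-- Two non-zero squares with non-zero square sum and `a² + ab + b² ≠ 0`. -/
theorem exists_squares (hodd : Odd (Fintype.card F)) (h14 : 14 ≤ Fintype.card F) :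
    ∃ a b : F, IsSquare a ∧ IsSquare b ∧ IsSquare (a + b) ∧ a ≠ 0 ∧ b ≠ 0 ∧ a + b ≠ 0 ∧
      a * a + a * b + b * b ≠ 0 := by
  classical
  have h2 := CfsgLib.InvChar.PSLFour.two_ne_zero_of_odd hodd
  set Q : F[X] := C 16 * X ^ 4 + C 4 * X ^ 2 * (1 - X ^ 2) ^ 2 + (1 - X ^ 2) ^ 4 with hQ
  set P : F[X] := X * (X ^ 4 - 1) * Q with hP
  have hQ0 : Q ≠ 0 := by
    intro e
    have := congrArg (Polynomial.eval 0) e
    simp [hQ] at this
  have hP0 : P ≠ 0 := by
    refine mul_ne_zero (mul_ne_zero X_ne_zero ?_) hQ0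
    intro e
    have := congrArg (Polynomial.eval 0) e
    simp at this
  have hdeg : P.natDegree ≤ 13 := by
    rw [hP, hQ]
    compute_degree
  obtain ⟨t, ht⟩ : ∃ t : F, P.eval t ≠ 0 := by
    by_contra hc
    push Not at hc
    have := Finset.card_le_card (show (Finset.univ : Finset F) ⊆ P.roots.toFinset from fun t _ => by
      rw [Multiset.mem_toFinset, Polynomial.mem_roots hP0]
      exact hc t)
    rw [Finset.card_univ] at this
    have h1 := Multiset.toFinset_card_le P.roots
    have h3 := P.card_roots'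
    omega
  simp only [hP, hQ, eval_mul, eval_X, eval_sub, eval_pow, eval_one, eval_add, eval_C] at ht
  rw [mul_ne_zero_iff, mul_ne_zero_iff] at ht
  obtain ⟨⟨ht0, ht4⟩, hT⟩ := ht
  have hp : 1 + t ^ 2 ≠ 0 := fun e => ht4 (by linear_combination (t ^ 2 - 1) * e)
  have hm : 1 - t ^ 2 ≠ 0 := fun e => ht4 (by linear_combination (-(t ^ 2) - 1) * e)
  refine ⟨(2 * t) ^ 2, (1 - t ^ 2) ^ 2, ⟨2 * t, by ring⟩, ⟨1 - t ^ 2, by ring⟩,
    ⟨1 + t ^ 2, by ring⟩, pow_ne_zero _ (mul_ne_zero h2 ht0), pow_ne_zero _ hm, ?_, ?_⟩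
  · rw [show (2 * t) ^ 2 + (1 - t ^ 2) ^ 2 = (1 + t ^ 2) ^ 2 by ring]
    exact pow_ne_zero _ hp
  · intro e
    exact hT (by linear_combination e)

omit [Fintype F] in
theorem comm_congr {L : Type u} [Group L] (φ : L →* S)
    (hker : ∀ z : L, φ z = 1 → z ∈ Subgroup.center L) {a a' b b' : L} (ha : φ a = φ a') (hb : φ b = φ b') : ⁅a, b⁆ = ⁅a', b'⁆ := by
  obtain ⟨z, hz, rfl⟩ : ∃ z ∈ Subgroup.center L, a' = a * z :=
    ⟨a⁻¹ * a', hker _ (by rw [map_mul, map_inv, ← ha, inv_mul_cancel]), by group⟩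
  obtain ⟨w, hw, rfl⟩ : ∃ w ∈ Subgroup.center L, b' = b * w :=
    ⟨b⁻¹ * b', hker _ (by rw [map_mul, map_inv, ← hb, inv_mul_cancel]), by group⟩
  have hz' := fun g => Subgroup.mem_center_iff.1 hz g
  have hw' := fun g => Subgroup.mem_center_iff.1 hw g
  simp only [commutatorElement_def, _root_.mul_inv_rev]
  calc a * b * a⁻¹ * b⁻¹
      = a * (b * (z * (w * w⁻¹) * z⁻¹) * a⁻¹) * b⁻¹ := by group
    _ = a * z * (b * w) * (z⁻¹ * a⁻¹) * (w⁻¹ * b⁻¹) := by
        have e1 : z * (b * w) = b * w * z := (hz' _).symm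
        have e2 : ∀ g, g * w⁻¹ = w⁻¹ * g := fun g =>
          Subgroup.mem_center_iff.1 (Subgroup.inv_mem _ hw) g
        calc a * (b * (z * (w * w⁻¹) * z⁻¹) * a⁻¹) * b⁻¹
            = a * (b * z) * (w * (w⁻¹ * (z⁻¹ * a⁻¹))) * b⁻¹ := by group
          _ = a * (b * z) * (w * ((z⁻¹ * a⁻¹) * w⁻¹)) * b⁻¹ := by rw [e2 (z⁻¹ * a⁻¹)]
          _ = a * (z * b) * (w * ((z⁻¹ * a⁻¹) * w⁻¹)) * b⁻¹ := by rw [hz' b]
          _ = a * z * (b * w) * (z⁻¹ * a⁻¹) * (w⁻¹ * b⁻¹) := by group

/-- The preimage of the unipotent subgroup is abelian. -/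
theorem comm_of_mem_uGrp {L : Type u} [Group L] (φ : L →* S)
    (hker : ∀ z : L, φ z = 1 → z ∈ Subgroup.center L) (hφ : Function.Surjective φ) (hodd : Odd (Fintype.card F))
    (h9 : Fintype.card F ≠ 9) {a b : L} (ha : φ a ∈ uGrp F) (hb : φ b ∈ uGrp F) : a * b = b * a := by
  choose l hl using fun c : F => hφ (uP c)
  obtain ⟨x, hx⟩ := ha
  obtain ⟨y, hy⟩ := hb
  suffices h : ∀ x y : F, ⁅l x, l y⁆ = 1 by
    rw [← commutatorElement_eq_one_iff_mul_comm,
      comm_congr φ hker (hx.symm.trans (hl x).symm) (hy.symm.trans (hl y).symm)]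
    exact h x y
  have hcen : ∀ x y, ⁅l x, l y⁆ ∈ Subgroup.center L := fun x y => hker _ (by
    rw [map_commutatorElement, hl, hl, commutatorElement_eq_one_iff_mul_comm, uP_mul, uP_mul,
      add_comm])
  have hc : ∀ x y (g : L), g * ⁅l x, l y⁆ = ⁅l x, l y⁆ * g := fun x y g =>
    Subgroup.mem_center_iff.1 (hcen x y) g
  have hadd1 : ∀ x x' y, ⁅l (x + x'), l y⁆ = ⁅l x', l y⁆ * ⁅l x, l y⁆ := fun x x' y => by
    rw [comm_congr φ hker (show φ (l (x + x')) = φ (l x * l x') by
      rw [map_mul, hl, hl, hl, uP_mul]) (rfl : φ (l y) = φ (l y))]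
    have e : ⁅l x * l x', l y⁆ = l x * ⁅l x', l y⁆ * (l x)⁻¹ * ⁅l x, l y⁆ := by
      simp only [commutatorElement_def]
      group
    rw [e, hc x' y (l x), mul_inv_cancel_right]
  have hadd2 : ∀ x y y', ⁅l x, l (y + y')⁆ = ⁅l x, l y⁆ * ⁅l x, l y'⁆ := fun x y y' => by
    rw [comm_congr φ hker (rfl : φ (l x) = φ (l x)) (show φ (l (y + y')) = φ (l y * l y') by
      rw [map_mul, hl, hl, hl, uP_mul])]
    have e : ⁅l x, l y * l y'⁆ = ⁅l x, l y⁆ * (l y * ⁅l x, l y'⁆ * (l y)⁻¹) := by
      simp only [commutatorElement_def]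
      group
    rw [e, hc x y' (l y), mul_inv_cancel_right]
  have hz1 : ∀ y, ⁅l 0, l y⁆ = 1 := fun y => by
    have h := hadd1 0 0 y
    rw [add_zero] at h
    exact mul_eq_left.1 h.symm
  have hz2 : ∀ x, ⁅l x, l 0⁆ = 1 := fun x => by
    have h := hadd2 x 0 0
    rw [add_zero] at h
    exact mul_eq_left.1 h.symm
  have hscale : ∀ s x y : F, s ≠ 0 → ⁅l (s * s * x), l (s * s * y)⁆ = ⁅l x, l y⁆ := fun s x y hs => by
    obtain ⟨h, hh⟩ := exists_torus hs
    obtain ⟨g, rfl⟩ := hφ h
    have e : ∀ c, φ (l (s * s * c)) = φ (g * l c * g⁻¹) := fun c => by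
      rw [map_mul, map_mul, map_inv, hl, hl, hh]
    rw [comm_congr φ hker (e x) (e y), ← conjugate_commutatorElement, hc, mul_inv_cancel_right]
  have hsq : ∀ a y : F, IsSquare a → a ≠ 0 → ⁅l a, l y⁆ = ⁅l 1, l (y / a)⁆ := by
    rintro a y ⟨s, rfl⟩ hs
    have hs' : s ≠ 0 := fun e => hs (by rw [e, zero_mul])
    have h := hscale s 1 (y / (s * s)) hs'
    rwa [mul_one, mul_div_cancel₀ y hs] at h
  have hone : ∀ y : F, ⁅l 1, l y⁆ = 1 := by
    obtain ⟨p, hp⟩ := CharP.exists F
    obtain ⟨⟨m, hm⟩, hprime, hq⟩ := FiniteField.card F p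
    simp only [PNat.mk_coe] at hq
    have hp2 : p ≠ 2 := fun e => by
      rw [hq, e] at hodd
      exact Nat.not_even_iff_odd.2 hodd ((Nat.even_pow' hm.ne').2 even_two)
    haveI : Fact p.Prime := ⟨hprime⟩
    by_cases h14 : 14 ≤ Fintype.card F
    · obtain ⟨a, b, ha, hb, hab, ha0, hb0, hab0, hne⟩ := exists_squares hodd h14
      intro y
      have hc0 : 1 / (a + b) - 1 / a - 1 / b ≠ 0 := by
        intro e
        apply hne
        field_simp at e
        linear_combination -e
      set c : F := 1 / (a + b) - 1 / a - 1 / b with hcdef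
      have h := hadd1 a b (y / c)
      rw [hsq _ _ hab hab0, hsq _ _ hb hb0, hsq _ _ ha ha0] at h
      have e : y / c / (a + b) = y + (y / c / b + y / c / a) := by
        have : y = c * (y / c) := by rw [mul_div_cancel₀ y hc0]
        conv_rhs => arg 1; rw [this, hcdef]
        ring
      rw [e, hadd2, hadd2] at h
      exact mul_eq_right.1 h
    · have hm1 : m = 1 := by
        by_contra hne
        have h3 : 3 ≤ p := by
          have := hprime.two_le
          omega
        have hm2 : 2 ≤ m := by omega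
        have : p ^ 2 ≤ Fintype.card F := by
          rw [hq]; exact Nat.pow_le_pow_right hprime.pos hm2
        have hp3 : p = 3 := by
          by_contra hp3
          have : 5 * 5 ≤ p ^ 2 := by
            have : p ≠ 4 := fun e => by rw [e] at hprime; norm_num at hprime
            rw [pow_two]; exact Nat.mul_le_mul (by omega) (by omega)
          omega
        subst hp3
        have hm3 : m < 3 := by
          by_contra hm3
          have : 3 ^ 3 ≤ Fintype.card F := by
            rw [hq]; exact Nat.pow_le_pow_right (by norm_num) (by omega)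
          omega
        obtain rfl : m = 2 := by omega
        exact h9 (by rw [hq]; norm_num)
      subst hm1
      rw [pow_one] at hq
      intro y
      obtain ⟨i, rfl⟩ : ∃ i : ℕ, (i : F) = y := by
        have hinj : Function.Injective (fun i : Fin p => ((i : ℕ) : F)) := fun i j e => by
          apply Fin.ext
          have := (CharP.natCast_eq_natCast F p).1 e
          exact this.eq_of_lt_of_lt i.2 j.2
        obtain ⟨i, hi⟩ := ((Fintype.bijective_iff_injective_and_card _).2
          ⟨hinj, by rw [Fintype.card_fin, hq]⟩).2 y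
        exact ⟨i, hi⟩
      induction i with
      | zero => rw [Nat.cast_zero, hz2]
      | succ i ih => rw [Nat.cast_succ, hadd2, ih, commutatorElement_self, mul_one]
  have hsq1 : ∀ a y : F, IsSquare a → ⁅l a, l y⁆ = 1 := fun a y ha => by
    rcases eq_or_ne a 0 with rfl | ha0
    · exact hz1 y
    · rw [hsq a y ha ha0, hone]
  intro x y
  have h2 := CfsgLib.InvChar.PSLFour.two_ne_zero_of_odd hodd
  have e : x + ((x - 1) / 2) * ((x - 1) / 2) = ((x + 1) / 2) * ((x + 1) / 2) := by
    field_simp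
    ring
  have h := hadd1 x (((x - 1) / 2) * ((x - 1) / 2)) y
  rw [e, hsq1 _ y ⟨_, rfl⟩, hsq1 _ y ⟨_, rfl⟩, one_mul] at h
  exact h.symm

/-- A Sylow subgroup of `PSL(2,q)` for an odd prime not dividing `q` is cyclic. -/
theorem isCyclic_sylow_psl (p : ℕ) [Fact p.Prime] (hp : p ≠ 2) (c : ℕ) [Fact c.Prime] [CharP F c]
    (hpc : p ≠ c) (P : Sylow p S) : IsCyclic (P : Subgroup S) := by
  obtain ⟨R⟩ : Nonempty (Sylow p SL2) := inferInstance
  haveI := CfsgLib.Classical.isCyclic_sylow_sl_two_odd c p hp hpc R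
  set π := QuotientGroup.mk' (Subgroup.center SL2)
  have hπ : Function.Surjective π := QuotientGroup.mk'_surjective _
  haveI : IsCyclic ((R : Subgroup SL2).map π) :=
    isCyclic_of_surjective (π.subgroupMap (R : Subgroup SL2)) (π.subgroupMap_surjective _)
  haveI : IsCyclic ((R.mapSurjective hπ : Sylow p S) : Subgroup S) := by
    rw [Sylow.coe_mapSurjective]; infer_instance
  exact isCyclic_of_surjective (Sylow.equiv (R.mapSurjective hπ) P) (MulEquiv.surjective _)

/-- The Sylow subgroups of a central extension of `PSL(2,q)` for odd primes are abelian. -/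
theorem sylow_comm_of_cover {L : Type u} [Group L] [Finite L]
    (e : L ⧸ Subgroup.center L ≃* S) {p : ℕ} [Fact p.Prime] (hp : p ≠ 2)
    (h9 : Fintype.card F = 9 → p ≠ 3) (P : Sylow p L) : IsMulCommutative (P : Subgroup L) := by
  set φ : L →* S := e.toMonoidHom.comp (QuotientGroup.mk' (Subgroup.center L)) with hφdef
  have hφ : Function.Surjective φ := e.surjective.comp (QuotientGroup.mk'_surjective _)
  have hker : ∀ z : L, φ z = 1 → z ∈ Subgroup.center L := fun z hz =>
    (QuotientGroup.eq_one_iff z).1 (e.map_eq_one_iff.1 hz)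
  obtain ⟨c, hc⟩ := CharP.exists F
  obtain ⟨m, hprime, hq⟩ := FiniteField.card F c
  haveI : Fact c.Prime := ⟨hprime⟩
  refine comm_iff.2 fun a ha b hb => ?_
  have hmem : ∀ a ∈ (P : Subgroup L), φ a ∈ ((P.mapSurjective hφ : Sylow p S) : Subgroup S) :=
    fun a ha => by rw [Sylow.coe_mapSurjective]; exact Subgroup.mem_map_of_mem _ ha
  by_cases hpc : p = c
  · subst hpc
    have hodd : Odd (Fintype.card F) := by
      rw [hq]; exact (hprime.odd_of_ne_two hp).pow
    have hne9 : Fintype.card F ≠ 9 := fun h => by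
      refine h9 h ?_
      have : p ∣ 9 := by rw [← h, hq]; exact dvd_pow_self p m.ne_zero
      exact (Nat.prime_dvd_prime_iff_eq hprime Nat.prime_three).1
        (hprime.dvd_of_dvd_pow (n := 2) this)
    have hU : Nat.card (uGrp F) = p ^ (Nat.card S).factorization p := by
      rw [card_uGrp, hq]
      congr 1
      have hm2 := psl_two_mul_card hodd
      have h1 : (2 * Nat.card S).factorization p = (Nat.card S).factorization p := by
        rw [Nat.factorization_mul two_ne_zero Nat.card_pos.ne', Finsupp.add_apply,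
          Nat.factorization_eq_zero_of_not_dvd (fun h => hp
            ((Nat.prime_dvd_prime_iff_eq hprime Nat.prime_two).1 h)), zero_add]
      have hd : ¬ p ∣ Fintype.card F ^ 2 - 1 := fun h => by
        have h' : p ∣ Fintype.card F ^ 2 := dvd_pow (by rw [hq]; exact dvd_pow_self p m.ne_zero) two_ne_zero
        have := Nat.dvd_sub h' h
        rw [Nat.sub_sub_self (Nat.one_le_pow _ _ Fintype.card_pos)] at this
        exact hprime.one_lt.ne' (Nat.dvd_one.1 this)
      rw [← h1, hm2, Nat.factorization_mul Fintype.card_ne_zero (fun h0 => hd (by rw [h0]; exact dvd_zero p)),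
        Finsupp.add_apply, Nat.factorization_eq_zero_of_not_dvd hd, add_zero, hq,
        Nat.Prime.factorization_pow hprime, Finsupp.single_eq_same]
    set U : Sylow p S := Sylow.ofCard (uGrp F) hU
    obtain ⟨g, hg⟩ := MulAction.exists_smul_eq S (P.mapSurjective hφ) U
    obtain ⟨l, rfl⟩ := hφ g
    have hin : ∀ a ∈ (P : Subgroup L), φ (l * a * l⁻¹) ∈ uGrp F := fun a ha => by
      rw [map_mul, map_mul, map_inv]
      have h1 : MulAut.conj (φ l) (φ a) ∈ ((φ l) • P.mapSurjective hφ : Sylow p S).toSubgroup :=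
        Subgroup.smul_mem_pointwise_smul (φ a) (MulAut.conj (φ l)) _ (hmem a ha)
      rw [hg] at h1
      simpa [U, MulAut.conj_apply] using h1
    have := comm_of_mem_uGrp φ hker hφ hodd hne9 (hin a ha) (hin b hb)
    calc a * b = l⁻¹ * (l * a * l⁻¹ * (l * b * l⁻¹)) * l := by group
      _ = l⁻¹ * (l * b * l⁻¹ * (l * a * l⁻¹)) * l := by rw [this]
      _ = b * a := by group
  · haveI := isCyclic_sylow_psl p hp c hpc (P.mapSurjective hφ)
    obtain ⟨⟨g, hgmem⟩, hgen⟩ := IsCyclic.exists_generator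
      (α := ((P.mapSurjective hφ : Sylow p S) : Subgroup S))
    obtain ⟨G, rfl⟩ := hφ g
    obtain ⟨i, hi⟩ := Subgroup.mem_zpowers_iff.1 (hgen ⟨_, hmem a ha⟩)
    obtain ⟨j, hj⟩ := Subgroup.mem_zpowers_iff.1 (hgen ⟨_, hmem b hb⟩)
    have hi' : φ a = φ (G ^ i) := by rw [map_zpow]; exact (congrArg Subtype.val hi).symm
    have hj' : φ b = φ (G ^ j) := by rw [map_zpow]; exact (congrArg Subtype.val hj).symm
    rw [← commutatorElement_eq_one_iff_mul_comm, comm_congr φ hker hi' hj',
      commutatorElement_eq_one_iff_mul_comm]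
    exact ((Commute.refl G).zpow_zpow i j).eq

/-- A prime with abelian Sylow subgroups does not divide the centre of a perfect group. -/
theorem not_dvd_center_of_sylow_comm {L : Type u} [Group L] [Finite L] (hperf : commutator L = ⊤)
    {p : ℕ} [Fact p.Prime] (h : ∀ P : Sylow p L, IsMulCommutative (P : Subgroup L)) :
    ¬ p ∣ Nat.card (Subgroup.center L) := by
  intro hd
  obtain ⟨⟨z, hz⟩, hzo⟩ := exists_prime_orderOf_dvd_card' p hd
  rw [Subgroup.orderOf_mk] at hzo
  have hpz : IsPGroup p (Subgroup.zpowers z) :=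
    IsPGroup.of_card (n := 1) (by rw [Nat.card_zpowers, hzo, pow_one])
  obtain ⟨P, hP⟩ := hpz.exists_le_sylow
  haveI := h P
  letI : CommGroup (P : Subgroup L) :=
    { (P : Subgroup L).toGroup with mul_comm := fun a b => (h P).is_comm.comm a b }
  let τ : L →* (P : Subgroup L) := MonoidHom.transfer (MonoidHom.id (P : Subgroup L))
  have hτ : τ z = 1 := by
    have hle : (⊤ : Subgroup L) ≤ τ.ker := hperf ▸ Abelianization.commutator_subset_ker τ
    exact hle (Subgroup.mem_top z)
  have key : ∀ (k : ℕ) (g₀ : L), g₀⁻¹ * z ^ k * g₀ ∈ (P : Subgroup L) →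
      g₀⁻¹ * z ^ k * g₀ = z ^ k := fun k g₀ _ => by
    rw [mul_assoc, ← Subgroup.mem_center_iff.1 (pow_mem hz k) g₀, inv_mul_cancel_left]
  have e := MonoidHom.transfer_eq_pow (MonoidHom.id (P : Subgroup L)) z key
  have h1 : z ^ (P : Subgroup L).index = 1 := by
    have := congrArg Subtype.val (e.symm.trans hτ)
    exact this
  have h2 : p ∣ (P : Subgroup L).index := hzo.symm.dvd.trans (orderOf_dvd_of_pow_eq_one h1)
  exact P.not_dvd_index h2

/-- The statement used for the perfect residual. -/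
theorem center_sylow_trivial {L : Type u} [Group L] [Finite L] (hperf : commutator L = ⊤)
    (e : L ⧸ Subgroup.center L ≃* S) {p : ℕ} [Fact p.Prime] (hp : p ≠ 2)
    (h9 : Fintype.card F = 9 → p ≠ 3) :
    (∀ P : Sylow p L, IsMulCommutative (P : Subgroup L)) ∧ ¬ p ∣ Nat.card (Subgroup.center L) :=
  ⟨fun P => sylow_comm_of_cover e hp h9 P,
    not_dvd_center_of_sylow_comm hperf fun P => sylow_comm_of_cover e hp h9 P⟩

end CfsgLib.Recog.NonCA
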