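import Cfsg.Agent.Lib.Recog.NonCA.KleinLocal.Struct
import Cfsg.Agent.Lib.Recog.NonCA.KleinChar
import Cfsg.Agent.Lib.Recog.NonCA.PSL
import Cfsg.Agent.Lib.Recog.NonCA.PSLCover

/-!
A perfect group of the minimal non-CA kind with a bad 2-element is `PSL₂(q)`: the centraliser of
the involution in `G/Z` has the shape of `KleinCent`, so `G/Z` is `PSL₂(q)`, and then `Z = 1`.
-/

set_option autoImplicit false
set_option linter.unusedSectionVars false
set_option maxHeartbeats 800000

namespace CfsgLib.Recog.NonCA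

universe u

variable {G : Type u} [Group G] [Finite G]

local notation "cen(" x ")" => Subgroup.centralizer ({x} : Set G)
local notation "Z(G)" => Subgroup.center G

theorem Hyp.of_equiv' {G' : Type*} [Group G'] (hG : Hyp G) (e : G ≃* G') : Hyp G' := by
  refine ⟨fun hs => hG.ns ?_, fun H hH => ?_⟩
  · haveI := hs
    exact Group.isSolvable_of_surjective (f := e.symm.toMonoidHom) e.symm.surjective
  · refine (hG.sub (H.map e.symm.toMonoidHom) fun ht => hH ?_).of_equiv
      (H.equivMapOfInjective e.symm.toMonoidHom e.symm.injective)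
    exact Subgroup.map_injective e.symm.injective
      (by rw [ht, Subgroup.map_top_of_surjective _ e.symm.surjective])

namespace Frame

variable {t u n : G} {K : Subgroup G}

theorem inv_lift (hG : Hyp G) (h : Frame t u n K) {a : G} (ha : a ∈ K)
    (haz : u * a * u⁻¹ * a ∈ Z(G)) :
    ∃ d ∈ Z(G), a * d ∈ K ∧ u * (a * d) * u⁻¹ = (a * d)⁻¹ := by
  obtain ⟨i, hi⟩ := h.exists_root (h.center_le (inv_mem haz))
  set d := ((u * a * u⁻¹ * a)⁻¹) ^ i with hd
  have hdZ : d ∈ Z(G) := pow_mem (inv_mem haz) i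
  refine ⟨d, hdZ, mul_mem ha (h.center_le hdZ), eq_inv_of_mul_eq_one_left ?_⟩
  have hu : u * d = d * u := mem_center.1 hdZ u
  have ha' : d * a = a * d := (mem_center.1 hdZ a).symm
  calc u * (a * d) * u⁻¹ * (a * d) = u * a * u⁻¹ * (u * d) * u⁻¹ * (a * d) := by group
    _ = u * a * u⁻¹ * (d * a) * d := by rw [hu]; group
    _ = (u * a * u⁻¹ * a) * (d * d) := by rw [ha']; group
    _ = 1 := by rw [hi, mul_inv_cancel]

theorem sylow_le_four (h : Frame t u n K) :
    ∃ P : Sylow 2 G, (P : Subgroup G) = Subgroup.zpowers t ⊔ Subgroup.zpowers u ∧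
      Nat.card (P : Subgroup G) ≤ 4 := by
  classical
  obtain ⟨P, hP⟩ := h.sylow
  refine ⟨P, hP, ?_⟩
  have htP : t ∈ (P : Subgroup G) := hP ▸ Subgroup.mem_sup_left (Subgroup.mem_zpowers t)
  have huP : u ∈ (P : Subgroup G) := hP ▸ Subgroup.mem_sup_right (Subgroup.mem_zpowers u)
  have hle : (P : Subgroup G) ≤ cen(t) := by
    rw [hP, sup_le_iff, Subgroup.zpowers_le, Subgroup.zpowers_le]
    exact ⟨h.tM, h.uM⟩
  have hsub : ((P : Subgroup G) : Set G) ⊆ (({1, t, u, t * u} : Finset G) : Set G) := by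
    intro r hr
    obtain ⟨w, hw, k, hk, rfl⟩ := h.decomp r (hle hr)
    have hwP : w ∈ (P : Subgroup G) := by
      rcases hw with e | e | e | e <;> rw [e]
      exacts [one_mem _, htP, huP, mul_mem htP huP]
    have hkP : k ∈ (P : Subgroup G) := by simpa using mul_mem (inv_mem hwP) hr
    obtain ⟨i, hi⟩ := P.2 ⟨k, hkP⟩
    have hi' : k ^ 2 ^ i = 1 := congrArg Subtype.val hi
    have hk1 : k = 1 := orderOf_eq_one_iff.1 (Nat.eq_one_of_dvd_coprimes
      (Nat.Coprime.pow_left i (Nat.coprime_two_left.2 (h.odd_order hk)))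
      (orderOf_dvd_of_pow_eq_one hi') dvd_rfl)
    rw [hk1, mul_one]
    simpa using hw
  show Nat.card ((P : Subgroup G) : Set G) ≤ 4
  rw [Nat.card_coe_set_eq]
  refine (Set.ncard_le_ncard hsub (Finset.finite_toSet _)).trans ?_
  rw [Set.ncard_coe_finset]
  exact Finset.card_le_four

end Frame

/-- A bad 2-element in a perfect group forces `PSL₂(q)`. -/
theorem Hyp.klein_case (hG : Hyp G) (hperf : commutator G = ⊤) {x : G} (hx : Bad x) {k : ℕ}
    (hk : x ^ 2 ^ k = 1) : ∃ (F : Type) (_ : Field F) (_ : Fintype F),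
      Cond (Fintype.card F) ∧
      Nonempty (G ≃* Matrix.ProjectiveSpecialLinearGroup (Fin 2) F) := by
  classical
  obtain ⟨t, u, n, K, h⟩ := hG.exists_frame hperf hx hk
  have : Fact (Nat.Prime 2) := ⟨Nat.prime_two⟩
  have := hG.quot_simple hperf
  set π := QuotientGroup.mk' Z(G) with hπ
  have hπ1 : ∀ g, π g = 1 ↔ g ∈ Z(G) := fun g => QuotientGroup.eq_one_iff g
  have hπe : ∀ {a b}, π a = π b → ∃ z ∈ Z(G), b = a * z := fun {a b} e =>
    ⟨a⁻¹ * b, (hπ1 _).1 (by rw [map_mul, map_inv, e, inv_mul_cancel]), by group⟩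
  -- the two subgroups
  let F0 : Subgroup G :=
    { carrier := {a | a ∈ K ∧ u * a * u⁻¹ * a ∈ Z(G)}
      one_mem' := ⟨one_mem K, by simp⟩
      mul_mem' := by
        rintro a b ⟨ha, haz⟩ ⟨hb, hbz⟩
        refine ⟨mul_mem ha hb, ?_⟩
        obtain ⟨d, hd, hadK, had⟩ := h.inv_lift hG ha haz
        obtain ⟨e, he, hbeK, hbe⟩ := h.inv_lift hG hb hbz
        have hc := h.comm_center hG (inv_mem hadK)
          (by rw [show u * (a * d)⁻¹ * u⁻¹ = (u * (a * d) * u⁻¹)⁻¹ by group, had])
          (inv_mem hbeK)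
          (by rw [show u * (b * e)⁻¹ * u⁻¹ = (u * (b * e) * u⁻¹)⁻¹ by group, hbe])
        refine (hπ1 _).1 ?_
        have hd' : π d = 1 := (hπ1 d).2 hd
        have he' : π e = 1 := (hπ1 e).2 he
        have hc' := (hπ1 _).2 hc
        simp only [map_mul, map_inv, hd', he', mul_one, inv_inv] at hc'
        have h1 : π (u * a * u⁻¹) = (π a)⁻¹ :=
          eq_inv_of_mul_eq_one_left (by rw [← map_mul]; exact (hπ1 _).2 haz)
        have h2 : π (u * b * u⁻¹) = (π b)⁻¹ :=
          eq_inv_of_mul_eq_one_left (by rw [← map_mul]; exact (hπ1 _).2 hbz)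
        rw [show u * (a * b) * u⁻¹ * (a * b) = (u * a * u⁻¹) * (u * b * u⁻¹) * a * b by group,
          map_mul, map_mul, map_mul, h1, h2]
        exact hc'
      inv_mem' := by
        rintro a ⟨ha, haz⟩
        refine ⟨inv_mem ha, ?_⟩
        have h1 : π (u * a * u⁻¹) = (π a)⁻¹ :=
          eq_inv_of_mul_eq_one_left (by rw [← map_mul]; exact (hπ1 _).2 haz)
        refine (hπ1 _).1 ?_
        rw [show u * a⁻¹ * u⁻¹ = (u * a * u⁻¹)⁻¹ by group, map_mul, map_inv, h1, inv_inv, map_inv,
          mul_inv_cancel] }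
  set FX : Subgroup (G ⧸ Z(G)) := F0.map π with hFX
  set DX : Subgroup (G ⧸ Z(G)) := (K ⊓ cen(u)).map π with hDX
  have hlift : ∀ q ∈ FX, ∃ a ∈ K, u * a * u⁻¹ = a⁻¹ ∧ π a = q := by
    rintro _ ⟨a, ⟨ha, haz⟩, rfl⟩
    obtain ⟨d, hd, hadK, had⟩ := h.inv_lift hG ha haz
    exact ⟨a * d, hadK, had, by rw [map_mul, (hπ1 d).2 hd, mul_one]⟩
  have hmemF : ∀ {a}, a ∈ K → u * a * u⁻¹ = a⁻¹ → π a ∈ FX := fun {a} ha hau =>
    Subgroup.mem_map_of_mem π (show a ∈ F0 from ⟨ha, by rw [hau, inv_mul_cancel]; exact one_mem _⟩)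
  have hmemD : ∀ {d}, d ∈ K → d ∈ cen(u) → π d ∈ DX := fun {d} hd hdu =>
    Subgroup.mem_map_of_mem π (show d ∈ K ⊓ cen(u) from ⟨hd, hdu⟩)
  -- an element fixed outside the centre of `M` fixes no inverted element modulo the centre
  have hfree : ∀ d a, d ∈ K → d ∈ cen(u) → d ∉ Subgroup.centralizer (cen(t) : Set G) → a ∈ K →
      u * a * u⁻¹ = a⁻¹ → π d * π a = π a * π d → a = 1 := by
    intro d a hd hdu hdc ha hau e
    obtain ⟨z, hz, e'⟩ : ∃ z ∈ Z(G), d * a * d⁻¹ = a * z := hπe (by
      rw [map_mul, map_mul, map_inv, e, mul_inv_cancel_right])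
    have h1 : u * (a * z) * u⁻¹ = (a * z)⁻¹ := by
      rw [← e', show u * (d * a * d⁻¹) * u⁻¹ =
        (u * d * u⁻¹) * (u * a * u⁻¹) * (u * d * u⁻¹)⁻¹ by group, h.fix_of_comm hdu, hau]
      group
    have hz1 : z = 1 := by
      refine h.sq_eq_one (h.center_le hz) ?_
      rw [show u * (a * z) * u⁻¹ = (u * a * u⁻¹) * (u * z * u⁻¹) by group, hau,
        mem_center.1 hz u, mul_inv_cancel_right, mul_inv_rev, ← mem_center.1 (inv_mem hz) a⁻¹] at h1
      rw [mul_eq_one_iff_eq_inv]
      exact mul_left_cancel h1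
    rw [hz1, mul_one] at e'
    have hau' := h.fix_of_comm
      (h.fixed_of_comm hG hd hdu hdc ha (mul_inv_eq_iff_eq_mul.1 e').symm)
    exact h.sq_eq_one ha (by rw [mul_eq_one_iff_eq_inv, ← hau, hau'])
  have hcenF : ∀ d, d ∈ K → d ∈ cen(u) → (∀ q ∈ FX, π d * q = q * π d) →
      d ∈ Subgroup.centralizer (cen(t) : Set G) := by
    intro d hd hdu hall
    by_contra hdc
    obtain ⟨a, ha, hau, ha1⟩ := h.exists_inv hG
    exact ha1 (hfree d a hd hdu hdc ha hau (hall _ (hmemF ha hau)))
  have htZ : t ∉ Z(G) := h.bad.1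
  have huZ : u ∉ Z(G) := h.u_bad.1
  obtain ⟨P, hP, hPcard⟩ := h.sylow_le_four
  set Pb := P.mapSurjective (f := π) (QuotientGroup.mk'_surjective Z(G)) with hPb
  have hPbe : (Pb : Subgroup (G ⧸ Z(G))) = (P : Subgroup G).map π := by
    rw [hPb, Sylow.coe_mapSurjective]
  have hord : ∀ {g}, g ∉ Z(G) → g * g = 1 → orderOf (π g) = 2 := fun {g} hg hgg =>
    orderOf_eq_prime (by rw [pow_two, ← map_mul, hgg, map_one]) fun e => hg ((hπ1 g).1 e)
  have hKC : KleinCent (π t) (π u) (π n) FX DX := by
    constructor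
    case ht => exact hord htZ h.tt
    case hu => exact hord huZ h.uu
    case htu => rw [← map_mul, h.htu, map_mul]
    case hne =>
      intro e
      obtain ⟨z, hz, e'⟩ := hπe e
      have hz2 : z * z = 1 := by
        have := h.uu
        rw [e', show t * z * (t * z) = t * (z * t) * z by group, ← mem_center.1 hz t,
          show t * (t * z) * z = t * t * (z * z) by group, h.tt, one_mul] at this
        exact this
      rw [h.sq_eq_one (h.center_le hz) hz2, mul_one] at e'
      exact h.tu_ne e'.symm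
    case hsyl => exact ⟨Pb, by rw [hPbe, hP, Subgroup.map_sup, MonoidHom.map_zpowers,
      MonoidHom.map_zpowers]⟩
    case hn =>
      exact ⟨by rw [← map_inv, ← map_mul, ← map_mul, h.hn1],
        by rw [← map_inv, ← map_mul, ← map_mul, h.hn2, map_mul]⟩
    case hFcomm =>
      intro p hp q hq
      obtain ⟨a, ha, hau, rfl⟩ := hlift p hp
      obtain ⟨b, hb, hbu, rfl⟩ := hlift q hq
      have := (hπ1 _).2 (h.comm_center hG ha hau hb hbu)
      simp only [map_mul, map_inv] at this
      rw [← commutatorElement_eq_one_iff_mul_comm, commutatorElement_def]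
      exact this
    case hFodd =>
      exact h.hKodd.of_dvd_nat ((Subgroup.card_map_dvd F0 π).trans
        (Subgroup.card_dvd_of_le fun a ha => ha.1))
    case hFu =>
      intro p hp
      obtain ⟨a, ha, hau, rfl⟩ := hlift p hp
      rw [← map_inv, ← map_mul, ← map_mul, hau, map_inv]
    case hFt =>
      intro p hp
      obtain ⟨a, ha, hau, rfl⟩ := hlift p hp
      rw [← map_mul, ← map_mul, mem_cen.1 (h.hKM ha)]
    case hDcomm =>
      rintro _ ⟨a, ⟨ha, hau⟩, rfl⟩ _ ⟨b, ⟨hb, hbu⟩, rfl⟩
      rw [← map_mul, ← map_mul, h.commD hG ha hau hb hbu]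
    case hDodd =>
      exact h.hKodd.of_dvd_nat ((Subgroup.card_map_dvd _ π).trans
        (Subgroup.card_dvd_of_le inf_le_left))
    case hDt =>
      rintro _ ⟨a, ⟨ha, hau⟩, rfl⟩
      rw [← map_mul, ← map_mul, mem_cen.1 (h.hKM ha)]
    case hDu =>
      rintro _ ⟨a, ⟨ha, hau⟩, rfl⟩
      rw [← map_mul, ← map_mul, mem_cen.1 hau]
    case hDn =>
      rintro _ ⟨a, ⟨ha, hau⟩, rfl⟩
      rw [← map_inv, ← map_mul, ← map_mul]
      obtain ⟨h1, h2⟩ := h.conjn_fixed ha hau
      exact hmemD h1 h2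
    case hDF =>
      rintro _ ⟨d, ⟨hd, hdu⟩, rfl⟩ p hp
      obtain ⟨a, ha, hau, rfl⟩ := hlift p hp
      rw [← map_inv, ← map_mul, ← map_mul]
      refine hmemF (mul_mem (mul_mem hd ha) (inv_mem hd)) ?_
      rw [show u * (d * a * d⁻¹) * u⁻¹ =
        (u * d * u⁻¹) * (u * a * u⁻¹) * (u * d * u⁻¹)⁻¹ by group, h.fix_of_comm hdu, hau]
      group
    case hdisj =>
      rw [Subgroup.eq_bot_iff_forall]
      intro p hp
      obtain ⟨a, ha, hau, hap⟩ := hlift p hp.1
      obtain ⟨d, ⟨hd, hdu⟩, hdp⟩ := hp.2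
      obtain ⟨z, hz, e⟩ := hπe (hdp.trans hap.symm)
      have hau' : u * a * u⁻¹ = a := by
        refine h.fix_of_comm ?_
        rw [e]
        exact mul_mem hdu (mem_cen.2 (mem_center.1 hz u).symm)
      rw [← hap, h.sq_eq_one ha (by rw [mul_eq_one_iff_eq_inv, ← hau, hau']), map_one]
    case hcent =>
      refine le_antisymm (fun q hq => ?_) ?_
      · obtain ⟨g, rfl⟩ := QuotientGroup.mk'_surjective Z(G) q
        have hgM : g ∈ cen(t) := h.bad.mem_of_comm_mod hG ((hπ1 _).1 (by
          rw [map_mul, map_mul, map_mul, map_inv, map_inv,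
            Subgroup.mem_centralizer_singleton_iff.1 hq, mul_inv_cancel_right, mul_inv_cancel]))
        obtain ⟨w, hw, c, hc, rfl⟩ := h.decomp g hgM
        obtain ⟨d, a, hd, hdu, ha, hau, rfl⟩ := h.decompK hc
        rw [map_mul, map_mul]
        have hT := Subgroup.mem_zpowers (π t)
        have hU := Subgroup.mem_zpowers (π u)
        have hWm : π w ∈ Subgroup.zpowers (π t) ⊔ Subgroup.zpowers (π u) := by
          rcases hw with e | e | e | e <;> rw [e]
          · rw [map_one]; exact one_mem _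
          · exact Subgroup.mem_sup_left hT
          · exact Subgroup.mem_sup_right hU
          · rw [map_mul]; exact mul_mem (Subgroup.mem_sup_left hT) (Subgroup.mem_sup_right hU)
        exact mul_mem (Subgroup.mem_sup_left (Subgroup.mem_sup_left hWm))
          (mul_mem (Subgroup.mem_sup_right (hmemD hd hdu))
            (Subgroup.mem_sup_left (Subgroup.mem_sup_right (hmemF ha hau))))
      · have key : ∀ g, g ∈ cen(t) → π g ∈ Subgroup.centralizer ({π t} : Set (G ⧸ Z(G))) :=
          fun g hg => Subgroup.mem_centralizer_singleton_iff.2 (by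
            rw [← map_mul, ← map_mul, mem_cen.1 hg])
        simp only [sup_le_iff, Subgroup.zpowers_le]
        refine ⟨⟨⟨key t h.tM, key u h.uM⟩, ?_⟩, ?_⟩
        · rintro _ ⟨a, ⟨ha, -⟩, rfl⟩; exact key a (h.hKM ha)
        · rintro _ ⟨a, ⟨ha, -⟩, rfl⟩; exact key a (h.hKM ha)
    case hfix =>
      rintro _ ⟨d, ⟨hd, hdu⟩, rfl⟩
      by_cases hdc : d ∈ Subgroup.centralizer (cen(t) : Set G)
      · left
        intro p hp
        obtain ⟨a, ha, hau, rfl⟩ := hlift p hp
        rw [← map_mul, ← map_mul, Subgroup.mem_centralizer_iff.1 hdc a (h.hKM ha)]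
      · right
        intro p hp e
        obtain ⟨a, ha, hau, rfl⟩ := hlift p hp
        rw [hfree d a hd hdu hdc ha hau e, map_one]
    case hD0 =>
      rintro _ ⟨d, ⟨hd, hdu⟩, rfl⟩ h1 h2
      obtain ⟨hd', hdu'⟩ := h.conjn_fixed hd hdu
      have e1 := hcenF d hd hdu h1
      have e2 := hcenF (n * d * n⁻¹) hd' hdu' (fun q hq => by
        simp only [map_mul, map_inv]; exact h2 q hq)
      by_contra hne
      have hdZ : d ∉ Z(G) := fun hz => hne ((hπ1 d).2 hz)
      obtain ⟨hdb, hdcen⟩ := h.cen_of_central hG hdZ e1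
      obtain ⟨-, hdcen'⟩ := h.cen_of_central hG (conj_notMem_center hdZ) e2
      exact h.hnM (hdcen ▸ hdb.mem_of_cen_conj_eq hG (hdcen'.trans hdcen.symm))
    case hFcen =>
      intro p hp hp1 q hq
      obtain ⟨a, ha, hau, rfl⟩ := hlift p hp
      obtain ⟨c, rfl⟩ := QuotientGroup.mk'_surjective Z(G) q
      have haZ : a ∉ Z(G) := fun hz => hp1 ((hπ1 a).2 hz)
      have ha2 : ¬ a * a = 1 := fun e => haZ ((h.sq_eq_one ha e) ▸ one_mem _)
      have hab : ¬ Bad a := by
        intro hb
        have hinv : cen(a⁻¹) = cen(a) := by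
          ext g
          simp only [mem_cen]
          exact ⟨fun e => by
            have := (show Commute g a⁻¹ from e).inv_right
            rwa [inv_inv] at this, fun e => (show Commute g a from e).inv_right.eq⟩
        have hua := hb.mem_of_cen_conj_eq hG (g := u) (by rw [hau, hinv])
        apply ha2
        rw [mul_eq_one_iff_eq_inv, ← hau, mem_cen.1 hua, mul_inv_cancel_right]
      obtain ⟨z, hz, e⟩ : ∃ z ∈ Z(G), c * a * c⁻¹ = a * z := hπe (by
        rw [map_mul, map_mul, map_inv, hq, mul_inv_cancel_right])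
      rw [← map_mul, ← map_mul]
      refine congrArg π ?_
      have hta : t * a = a * t := (mem_cen.1 (h.hKM ha)).symm
      have hj : ∀ j, j * a = a * j → j ∈ cen(t) := fun j hj =>
        mem_cen.2 (commute_of_not_bad hab haZ hj hta)
      set j := c * t * c⁻¹ with hjdef
      have hja : j * a = a * j := by
        have h1 : j * (a * z) = a * z * j := by
          rw [← e, hjdef]
          calc c * t * c⁻¹ * (c * a * c⁻¹) = c * (t * a) * c⁻¹ := by group
            _ = c * (a * t) * c⁻¹ := by rw [hta]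
            _ = c * a * c⁻¹ * (c * t * c⁻¹) := by group
        refine mul_right_cancel (b := z) ?_
        calc j * a * z = j * (a * z) := mul_assoc _ _ _
          _ = a * z * j := h1
          _ = a * (z * j) := mul_assoc _ _ _
          _ = a * (j * z) := by rw [mem_center.1 hz j]
          _ = a * j * z := (mul_assoc _ _ _).symm
      have hj2 : j * j = 1 := by
        rw [hjdef, show c * t * c⁻¹ * (c * t * c⁻¹) = c * (t * t) * c⁻¹ by group, h.tt, mul_one,
          mul_inv_cancel]
      obtain ⟨w, hw, m, hm, hjw⟩ := h.decomp j (hj j hja)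
      have hjt : j = t := by
        by_cases hwu : w = u ∨ w = t * u
        · exfalso
          apply ha2
          have hwa : w⁻¹ * a * w = a⁻¹ := by
            rcases hwu with e | e <;> rw [e]
            · rw [h.uinv, ← hau, h.uinv]
            · rw [← hau, mul_inv_rev, h.uinv, h.tinv,
                show u * t * a * (t * u) = u * (t * a * t) * u by group, hta, mul_assoc a, h.tt,
                mul_one]
          have hcm : m * a * m⁻¹ = a⁻¹ := by
            refine mul_inv_eq_iff_eq_mul.2 ?_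
            rw [hjw] at hja
            calc m * a = w⁻¹ * (w * m * a) := by group
              _ = w⁻¹ * a * w * m := by rw [hja]; group
              _ = a⁻¹ * m := by rw [hwa]
          have hm2 : m * m * a = a * (m * m) := by
            refine mul_inv_eq_iff_eq_mul.1 ?_
            calc m * m * a * (m * m)⁻¹ = m * (m * a * m⁻¹) * m⁻¹ := by group
              _ = m * a⁻¹ * m⁻¹ := by rw [hcm]
              _ = (m * a * m⁻¹)⁻¹ := by group
              _ = a := by rw [hcm, inv_inv]
          obtain ⟨i, hi⟩ := h.odd_order hm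
          have hmp : m = (m * m) ^ (i + 1) := by
            rw [← pow_two, ← pow_mul, show 2 * (i + 1) = orderOf m + 1 by omega, pow_succ,
              pow_orderOf_eq_one, one_mul]
          have hma : m * a = a * m := by
            rw [hmp]
            exact ((show Commute (m * m) a from hm2).pow_left _).eq
          rw [mul_eq_one_iff_eq_inv, ← hcm, hma, mul_inv_cancel_right]
        · rcases hw with e | e | e | e
          · exfalso
            rw [e, one_mul] at hjw
            have h1 : j = 1 := h.sq_eq_one (hjw ▸ hm) hj2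
            refine htZ ?_
            rw [conj_eq_one_iff.1 (hjdef.symm.trans h1)]
            exact one_mem _
          · rw [e] at hjw
            have h1 : m * m = 1 := by
              rw [hjw, show t * m * (t * m) = t * (m * t) * m by group, mem_cen.1 (h.hKM hm),
                show t * (t * m) * m = t * t * (m * m) by group, h.tt, one_mul] at hj2
              exact hj2
            rw [hjw, h.sq_eq_one hm h1, mul_one]
          · exact absurd (Or.inl e) hwu
          · exact absurd (Or.inr e) hwu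
      rw [← hjt]
      conv_rhs => rw [hjdef, inv_mul_cancel_right]
      rw [hjt]
  obtain ⟨F, iF, iFF, ⟨e⟩⟩ := KleinCent.exists_psl hG.quot_not_comm hKC
  have h8 : ¬ 8 ∣ Nat.card (Matrix.ProjectiveSpecialLinearGroup (Fin 2) F) := by
    rw [← Nat.card_congr e.toEquiv]
    intro h8
    have h1 : Nat.card (Pb : Subgroup (G ⧸ Z(G))) ≤ 4 := by
      rw [hPbe]
      exact (Nat.le_of_dvd Nat.card_pos (Subgroup.card_map_dvd _ π)).trans hPcard
    have h2 : 2 ^ 3 ∣ Nat.card (Pb : Subgroup (G ⧸ Z(G))) := by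
      refine Nat.Coprime.dvd_of_dvd_mul_right ?_
        (show 2 ^ 3 ∣ Nat.card (Pb : Subgroup (G ⧸ Z(G))) * (Pb : Subgroup (G ⧸ Z(G))).index by
          rw [Subgroup.card_mul_index]; exact h8)
      exact ((Nat.prime_two.coprime_iff_not_dvd).2 Pb.not_dvd_index).pow_left 3
    have := Nat.le_of_dvd Nat.card_pos h2
    omega
  have hZ : Z(G) = ⊥ := by
    rw [← Subgroup.card_eq_one]
    refine Nat.eq_one_iff_not_exists_prime_dvd.2 fun p hp hd => ?_
    have : Fact p.Prime := ⟨hp⟩
    have hp2 : p ≠ 2 := by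
      rintro rfl
      exact Nat.not_even_iff_odd.2 h.zodd (even_iff_two_dvd.2 hd)
    have h9 : Fintype.card F = 9 → p ≠ 3 := fun h9 =>
      absurd ((eight_dvd_iff (by rw [h9]; decide)).2 (by rw [h9]; norm_num)) h8
    exact (center_sylow_trivial hperf e hp2 h9).2 hd
  let eG : G ≃* Matrix.ProjectiveSpecialLinearGroup (Fin 2) F :=
    (QuotientGroup.quotientBot (G := G)).symm.trans
      ((QuotientGroup.quotientMulEquivOfEq hZ.symm).trans e)
  exact ⟨F, iF, iFF, psl_condition (hG.of_equiv' eG)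
    (fun hca => (hca.of_equiv eG).not_bad _ hx) h8, ⟨eG⟩⟩

end CfsgLib.Recog.NonCA
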