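import Cfsg.Agent.Lib.Recog.NonCA.OuterHom

/-!
The group induced on a perfect normal subgroup over `PSL(2,q)` is inner up to a 2-group.
-/

set_option autoImplicit false
set_option linter.style.haveILetI false
set_option linter.unusedSectionVars false

namespace CfsgLib.Recog.NonCA

open Matrix CfsgLib.Geom

universe u

variable {G : Type u} [Group G] [Finite G] {F : Type} [Field F] [Fintype F]

local notation "Z(G)" => Subgroup.center G
local notation "S" => ProjectiveSpecialLinearGroup (Fin 2) F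

/-- The data used outside the fields with 4 and 9 elements. -/
theorem exists_char_sylow {L : Type u} [Group L] [Finite L] (hperf : commutator L = ⊤)
    (e : L ⧸ Subgroup.center L ≃* S) (hq : 4 ≤ Fintype.card F) (h4 : Fintype.card F ≠ 4)
    (h9 : Fintype.card F ≠ 9) :
    ∃ p : ℕ, ∃ _ : Fact p.Prime, ¬ p ∣ Nat.card (Subgroup.center L) ∧ ∃ P : Sylow p L,
      IsMulCommutative (P : Subgroup L) ∧
      ((P : Subgroup L).map (e.toMonoidHom.comp (QuotientGroup.mk' (Subgroup.center L)))) =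
        uGrp F := by
  classical
  obtain ⟨p, hc⟩ := CharP.exists F
  obtain ⟨n, hp, hcard⟩ := FiniteField.card F p
  haveI : Fact p.Prime := ⟨hp⟩
  set φ : L →* S := e.toMonoidHom.comp (QuotientGroup.mk' (Subgroup.center L)) with hφdef
  have hφ : Function.Surjective φ := e.surjective.comp (QuotientGroup.mk'_surjective _)
  have hker : ∀ z : L, φ z = 1 → z ∈ Subgroup.center L := fun z hz =>
    (QuotientGroup.eq_one_iff z).1 (e.map_eq_one_iff.1 hz)
  have hU : Nat.card (uGrp F) = p ^ (Nat.card S).factorization p := by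
    rw [card_uGrp, hcard]
    congr 1
    have hm := CfsgLib.Classical.card_psl_two_mul (F := F)
    have hdvd : ∀ {t : ℕ}, t ∣ Fintype.card F - 1 ∨ t ∣ Fintype.card F ^ 2 - 1 → ¬ p ∣ t := by
      intro t ht hpt
      have hd : ∀ k, 0 < k → ¬ p ∣ Fintype.card F ^ k - 1 := fun k hk h => by
        have h' : p ∣ Fintype.card F ^ k :=
          dvd_pow (by rw [hcard]; exact dvd_pow_self p n.ne_zero) hk.ne'
        have := Nat.dvd_sub h' h
        rw [Nat.sub_sub_self (Nat.one_le_pow _ _ Fintype.card_pos)] at this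
        exact hp.one_lt.ne' (Nat.dvd_one.1 this)
      rcases ht with ht | ht
      · exact hd 1 one_pos (by rw [pow_one]; exact hpt.trans ht)
      · exact hd 2 two_pos (hpt.trans ht)
    have hg : ¬ p ∣ Nat.gcd 2 (Fintype.card F - 1) := hdvd (Or.inl (Nat.gcd_dvd_right _ _))
    have hs : ¬ p ∣ Fintype.card F ^ 2 - 1 := hdvd (Or.inr dvd_rfl)
    have h0 : Fintype.card F ^ 2 - 1 ≠ 0 := fun h => hs (by rw [h]; exact dvd_zero p)
    have h := congrArg (fun k : ℕ => k.factorization p) hm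
    rw [Nat.factorization_mul (fun h => hg (by rw [h]; exact dvd_zero p)) Nat.card_pos.ne',
      Nat.factorization_mul Fintype.card_ne_zero h0, Finsupp.add_apply, Finsupp.add_apply,
      Nat.factorization_eq_zero_of_not_dvd hg, Nat.factorization_eq_zero_of_not_dvd hs,
      zero_add, add_zero] at h
    rw [h, hcard, hp.factorization_pow, Finsupp.single_eq_same]
  set U : Sylow p S := Sylow.ofCard (uGrp F) hU
  obtain ⟨P₀⟩ : Nonempty (Sylow p L) := inferInstance
  obtain ⟨g, hg⟩ := MulAction.exists_smul_eq S (P₀.mapSurjective hφ) U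
  obtain ⟨l, rfl⟩ := hφ g
  obtain ⟨P, hPU⟩ : ∃ P : Sylow p L, (P : Subgroup L).map φ = uGrp F := by
    refine ⟨l • P₀, ?_⟩
    rw [show uGrp F = (U : Subgroup S) from rfl, ← hg, Sylow.coe_subgroup_smul,
      Sylow.coe_subgroup_smul, Sylow.coe_mapSurjective, Subgroup.pointwise_smul_def,
      Subgroup.pointwise_smul_def]
    ext y
    constructor
    · rintro ⟨_, ⟨a, ha, rfl⟩, rfl⟩
      exact ⟨φ a, ⟨a, ha, rfl⟩, by simp [MulAut.conj_apply]⟩
    · rintro ⟨_, ⟨a, ha, rfl⟩, rfl⟩
      exact ⟨_, ⟨a, ha, rfl⟩, by simp [MulAut.conj_apply]⟩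
  have hPc : IsMulCommutative (P : Subgroup L) := by
    rcases hp.eq_two_or_odd' with rfl | hodd
    · have heven : Even (Fintype.card F) := by
        rw [hcard]; exact (Nat.even_pow' n.ne_zero).2 even_two
      have h8 : 8 ≤ Fintype.card F := by
        rw [hcard] at hq h4 ⊢
        have h3 : 3 ≤ (n : ℕ) := by
          by_contra h
          push Not at h
          interval_cases hn : (n : ℕ) <;> simp at hq h4
        calc (8 : ℕ) = 2 ^ 3 := rfl
          _ ≤ 2 ^ (n : ℕ) := Nat.pow_le_pow_right (by norm_num) h3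
      exact comm_iff.2 fun a ha b hb => comm_of_mem_uGrp_even φ hker hφ heven h8
        (hPU ▸ Subgroup.mem_map_of_mem φ ha) (hPU ▸ Subgroup.mem_map_of_mem φ hb)
    · refine (center_sylow_trivial hperf e ?_ (fun h => absurd h h9)).1 P
      intro h
      rw [h] at hodd
      exact absurd hodd (by decide)
  refine ⟨p, ⟨hp⟩, ?_, P, hPc, hPU⟩
  refine not_dvd_center_of_sylow_comm hperf fun Q => comm_iff.2 fun a ha b hb => ?_
  have h := (Sylow.equiv Q P).injective
    (a₁ := ⟨a, ha⟩ * ⟨b, hb⟩) (a₂ := ⟨b, hb⟩ * ⟨a, ha⟩)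
    (by rw [map_mul, map_mul]; exact hPc.is_comm.comm _ _)
  exact congrArg Subtype.val h

theorem Hyp.isPGroup_two_quotient (hG : Hyp G) (L : Subgroup G) [L.Normal]
    (hperf : ⁅L, L⁆ = L) (hns : ¬ Group.IsSolvable L) (hL : L ≠ ⊤)
    (hs : Group.IsSolvable (G ⧸ L)) (e : L ⧸ Subgroup.center L ≃* S)
    (hq : 4 ≤ Fintype.card F) : IsPGroup 2 (G ⧸ (L ⊔ Z(G))) := by
  classical
  set θ := outerHom L e with hθ
  set φ : L →* S := e.toMonoidHom.comp (QuotientGroup.mk' (Subgroup.center L)) with hφdef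
  have hθφ : ∀ (g : G) (l : L), θ g (φ l) = φ (MulAut.conjNormal g l) := fun g l =>
    outerHom_apply L e g l
  by_cases hsmall : Fintype.card F = 4 ∨ Fintype.card F = 9
  · obtain ⟨p, hp, hF⟩ : ∃ p : ℕ, p.Prime ∧ Fintype.card F = p ^ 2 := by
      rcases hsmall with h | h
      · exact ⟨2, Nat.prime_two, h⟩
      · exact ⟨3, Nat.prime_three, h⟩
    haveI : Fact p.Prime := ⟨hp⟩
    intro x
    obtain ⟨g, rfl⟩ := QuotientGroup.mk'_surjective _ x
    refine ⟨2, ?_⟩
    rw [← map_pow, QuotientGroup.mk'_apply, QuotientGroup.eq_one_iff]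
    obtain ⟨v, hv⟩ := pow_four_inner hF (θ g)
    exact hG.mem_sup_of_inner L hperf hs e (g := g ^ 2 ^ 2) (by rw [map_pow]; exact hv)
  push Not at hsmall
  obtain ⟨p, hpf, hndvd, P, hPc, hPU⟩ :=
    exists_char_sylow (commutator_eq_top_of_eq L hperf) e hq hsmall.1 hsmall.2
  have hφ : Function.Surjective φ := e.surjective.comp (QuotientGroup.mk'_surjective _)
  -- `p`-elements over the unipotent subgroup lie in `P`
  have hmemP : ∀ {x : L}, (∃ k, x ^ p ^ k = 1) → φ x ∈ uGrp F → x ∈ (P : Subgroup L) := by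
    intro x ⟨k, hk⟩ hx
    rw [← hPU] at hx
    obtain ⟨u, hu, hux⟩ := hx
    have hz : u⁻¹ * x ∈ Subgroup.center L := by
      refine (QuotientGroup.eq_one_iff _).1 (e.map_eq_one_iff.1 ?_)
      show φ (u⁻¹ * x) = 1
      rw [map_mul, map_inv, hux, inv_mul_cancel]
    obtain ⟨j, hj⟩ := P.2 ⟨u, hu⟩
    have hj' : u ^ p ^ j = 1 := congrArg Subtype.val hj
    have hcomm : Commute u⁻¹ x := by
      have h1 : x = u * (u⁻¹ * x) := (mul_inv_cancel_left u x).symm
      rw [h1]
      exact ((Commute.refl u).inv_left).mul_right (Subgroup.mem_center_iff.1 hz u⁻¹)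
    have hz1 : u⁻¹ * x = 1 := by
      have h1 : (u⁻¹ * x) ^ p ^ (j + k) = 1 := by
        rw [hcomm.mul_pow, inv_pow]
        rw [show p ^ (j + k) = p ^ j * p ^ k from pow_add _ _ _, pow_mul, hj', one_pow, inv_one,
          one_mul, mul_comm, pow_mul, hk, one_pow]
      by_contra hne
      obtain ⟨t, -, ht⟩ := (Nat.dvd_prime_pow hpf.out).1 (orderOf_dvd_of_pow_eq_one h1)
      rcases t with _ | t
      · exact hne (orderOf_eq_one_iff.1 (by rw [ht, pow_zero]))
      · refine hndvd (Dvd.dvd.trans ?_ ((Subgroup.orderOf_mk (a := u⁻¹ * x) hz) ▸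
          orderOf_dvd_natCard (⟨u⁻¹ * x, hz⟩ : Subgroup.center L)))
        rw [ht]
        exact dvd_pow_self p t.succ_ne_zero
    rwa [show x = u from (inv_mul_eq_one.1 hz1).symm]
  set H := Subgroup.normalizer (((P : Subgroup L).map L.subtype : Subgroup G) : Set G)
  have hsup : H ⊔ L = ⊤ := Sylow.normalizer_sup_eq_top P
  have hHP : ∀ g : G, g ∈ H → ∀ u ∈ (P : Subgroup L), MulAut.conjNormal g u ∈ (P : Subgroup L) := by
    intro g hg u hu
    obtain ⟨u', hu', he⟩ := (Subgroup.mem_normalizer_iff.1 hg (u : G)).1 ⟨u, hu, rfl⟩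
    rwa [show MulAut.conjNormal g u = u' from Subtype.ext
      (by rw [MulAut.conjNormal_apply]; exact he.symm)]
  -- torus elements in `H`
  have htorus : ∀ s : F, s ≠ 0 → ∃ t : L, (t : G) ∈ H ∧
      ∀ c : F, θ t (uP c) = uP (s * s * c) := by
    intro s hs
    obtain ⟨h, hh⟩ := exists_torus hs
    obtain ⟨t, rfl⟩ := hφ h
    have hθt : ∀ c : F, θ (t : G) (uP c) = uP (s * s * c) := by
      intro c
      obtain ⟨m, hm⟩ := hφ (uP c)
      rw [← hm, hθφ, show MulAut.conjNormal (t : G) m = t * m * t⁻¹ from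
        Subtype.ext (MulAut.conjNormal_apply _ _), map_mul, map_mul, map_inv, hm, hh]
    refine ⟨t, ?_, hθt⟩
    refine Subgroup.mem_normalizer_fintype ?_
    rintro _ ⟨u, hu, rfl⟩
    refine ⟨MulAut.conjNormal (t : G) u, hmemP ?_ ?_, MulAut.conjNormal_apply _ _⟩
    · obtain ⟨j, hj⟩ := P.2 ⟨u, hu⟩
      refine ⟨j, ?_⟩
      rw [← map_pow, show u ^ p ^ j = 1 from congrArg Subtype.val hj, map_one]
    · rw [← hθφ]
      obtain ⟨c, hc⟩ : φ u ∈ uGrp F := hPU ▸ Subgroup.mem_map_of_mem φ hu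
      rw [← hc, hθt]
      exact ⟨_, rfl⟩
  obtain ⟨u₀, hu₀, hu₀1⟩ : uP (1 : F) ∈ (P : Subgroup L).map φ := by rw [hPU]; exact ⟨1, rfl⟩
  -- `H` is proper and does not centralise `u₀`
  have hPne : ¬ (P : Subgroup L).map L.subtype ≤ Z(G) := by
    intro h
    have hc : u₀ ∈ Subgroup.center L := Subgroup.mem_center_iff.2 fun l => Subtype.ext
      (mem_center.1 (h ⟨u₀, hu₀, rfl⟩) (l : G))
    have h1 : φ u₀ = 1 := by
      show e (QuotientGroup.mk' (Subgroup.center L) u₀) = 1
      rw [QuotientGroup.mk'_apply, (QuotientGroup.eq_one_iff u₀).2 hc, map_one]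
    rw [hu₀1, ← uP_zero] at h1
    exact one_ne_zero (uP_injective h1)
  have hPG : IsPGroup p ((P : Subgroup L).map L.subtype) := P.2.map _
  have hH : H ≠ ⊤ := fun ht => hPne <| by
    haveI : ((P : Subgroup L).map L.subtype).Normal := Subgroup.normalizer_eq_top_iff.1 ht
    haveI := hPG.isNilpotent
    exact hG.solvable_le_center _ inferInstance
  -- elements of `H` fixing `uP 1` are inner
  have hstab : ∀ g ∈ H, θ g (uP 1) = uP 1 → g ∈ L ⊔ Z(G) := by
    intro g hg hfix
    have hgu : MulAut.conjNormal g u₀ = u₀ := by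
      have h1 := hθφ g u₀
      rw [hu₀1, hfix, ← hu₀1] at h1
      have h2 : u₀⁻¹ * MulAut.conjNormal g u₀ ∈ Subgroup.center L :=
        QuotientGroup.eq.1 (e.injective h1)
      obtain ⟨j, hj⟩ := P.2 ⟨_, mul_mem (inv_mem hu₀) (hHP g hg u₀ hu₀)⟩
      have hj' := congrArg Subtype.val hj
      simp only [SubmonoidClass.coe_pow, Subgroup.coe_one] at hj'
      by_contra hne
      obtain ⟨t, -, ht⟩ := (Nat.dvd_prime_pow hpf.out).1 (orderOf_dvd_of_pow_eq_one hj')
      rcases t with _ | t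
      · exact hne (inv_mul_eq_one.1 (orderOf_eq_one_iff.1 (by rw [ht, pow_zero]))).symm
      · refine hndvd (Dvd.dvd.trans ?_ ((Subgroup.orderOf_mk (a := u₀⁻¹ * MulAut.conjNormal g u₀)
          h2) ▸ orderOf_dvd_natCard (⟨_, h2⟩ : Subgroup.center L)))
        rw [ht]
        exact dvd_pow_self p t.succ_ne_zero
    have hgu' : g * (u₀ : G) = (u₀ : G) * g := by
      rw [← mul_inv_eq_iff_eq_mul, ← MulAut.conjNormal_apply, hgu]
    obtain ⟨s, hs0, hsq1⟩ : ∃ s : F, s ≠ 0 ∧ s * s ≠ 1 := by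
      by_contra hc
      push Not at hc
      have hsub : (Finset.univ : Finset F) ⊆ {0, 1, -1} := fun s _ => by
        rcases eq_or_ne s 0 with rfl | h0
        · simp
        · rcases mul_self_eq_one_iff.1 (hc s h0) with h | h <;> simp [h]
      have := (Finset.card_le_card hsub).trans Finset.card_le_three
      rw [Finset.card_univ] at this
      omega
    obtain ⟨t, htH, ht⟩ := htorus s hs0
    have htu : (t : G) * (u₀ : G) ≠ (u₀ : G) * t := by
      intro h
      have h1 := hθφ t u₀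
      rw [show MulAut.conjNormal (t : G) u₀ = u₀ from Subtype.ext (by
        rw [MulAut.conjNormal_apply, h, mul_inv_cancel_right]), hu₀1, ht, mul_one] at h1
      exact hsq1 (uP_injective h1)
    have hall : ∀ u ∈ (P : Subgroup L), g * (u : G) = (u : G) * g := by
      intro u hu
      exact hG.commute_of hH (x := (u₀ : G)) (h := (t : G))
        (Subgroup.le_normalizer ⟨u₀, hu₀, rfl⟩) hg (Subgroup.le_normalizer ⟨u, hu, rfl⟩) htH hgu'
        (congrArg Subtype.val (comm_iff.1 hPc u hu u₀ hu₀)) htu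
    obtain ⟨v, hv⟩ := aut_fix_uGrp (θ g) fun c => by
      obtain ⟨u, hu, huc⟩ : uP c ∈ (P : Subgroup L).map φ := by rw [hPU]; exact ⟨c, rfl⟩
      rw [← huc, hθφ]
      exact congrArg φ (Subtype.ext (by
        rw [MulAut.conjNormal_apply, hall u hu, mul_inv_cancel_right]))
    exact hG.mem_sup_of_inner L hperf hs e hv
  have himg : ∀ g ∈ H, ∃ c : F, c ≠ 0 ∧ θ g (uP 1) = uP c := by
    intro g hg
    have h1 := hθφ g u₀
    rw [hu₀1] at h1
    obtain ⟨c, hc⟩ : φ (MulAut.conjNormal g u₀) ∈ uGrp F :=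
      hPU ▸ Subgroup.mem_map_of_mem φ (hHP g hg u₀ hu₀)
    refine ⟨c, ?_, h1.trans hc.symm⟩
    rintro rfl
    rw [← hc, uP_zero, ← map_one (θ g)] at h1
    exact one_ne_zero (uP_injective ((θ g).injective h1 |>.trans uP_zero.symm))
  have hrep : ∀ x : G ⧸ (L ⊔ Z(G)), ∃ h : G, h ∈ H ∧ QuotientGroup.mk h = x := by
    intro x
    obtain ⟨g, rfl⟩ := QuotientGroup.mk_surjective x
    obtain ⟨h, hh, l, hl, rfl⟩ := Subgroup.mem_sup_of_normal_right.1 (hsup ▸ Subgroup.mem_top g)
    refine ⟨h, hh, (QuotientGroup.mk_mul_of_mem h (Subgroup.mem_sup_left hl)).symm⟩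
  choose r hrH hr using hrep
  choose c hc0 hc using fun x => himg (r x) (hrH x)
  let b : G ⧸ (L ⊔ Z(G)) → Bool := fun x => decide (IsSquare (c x))
  have hb : Function.Injective b := by
    intro x y hxy
    have hiff : IsSquare (c x) ↔ IsSquare (c y) := by simpa [b] using hxy
    have hsq : IsSquare (c x / c y) := by
      by_cases hy : IsSquare (c y)
      · exact (hiff.2 hy).div hy
      · have hx : ¬ IsSquare (c x) := fun h => hy (hiff.1 h)
        have h2 : ringChar F ≠ 2 := fun h => hy (FiniteField.isSquare_of_char_two h _)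
        have hmul : quadraticChar F (c x / c y) * quadraticChar F (c y) = quadraticChar F (c x) := by
          rw [← map_mul, div_mul_cancel₀ _ (hc0 y)]
        rw [quadraticChar_neg_one_iff_not_isSquare.2 hx,
          quadraticChar_neg_one_iff_not_isSquare.2 hy] at hmul
        rw [← quadraticChar_one_iff_isSquare (div_ne_zero (hc0 x) (hc0 y))]
        linarith
    obtain ⟨s, hs⟩ := hsq
    have hs0 : s ≠ 0 := fun e => div_ne_zero (hc0 x) (hc0 y) (by rw [hs, e, zero_mul])
    obtain ⟨t, htH, ht⟩ := htorus s hs0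
    have hmem : ((t : G) * r y)⁻¹ * r x ∈ L ⊔ Z(G) := by
      refine hstab _ (mul_mem (inv_mem (mul_mem htH (hrH y))) (hrH x)) ?_
      have h1 : θ ((t : G) * r y) (uP 1) = uP (c x) := by
        rw [map_mul, MulAut.mul_apply, hc, ht, ← hs, div_mul_cancel₀ _ (hc0 y)]
      rw [map_mul, MulAut.mul_apply, hc, map_inv, ← h1, MulAut.inv_apply_self]
    rw [← hr x, ← hr y]
    refine (QuotientGroup.eq.2 ?_).symm
    rw [show (r y)⁻¹ * r x = (r y)⁻¹ * ((t : G) : G)⁻¹ * (r x) *
      ((r x)⁻¹ * (t : G) * r x) by group]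
    refine mul_mem (by rwa [_root_.mul_inv_rev] at hmem) ?_
    simpa using Subgroup.mem_sup_left (T := Z(G))
      (Subgroup.Normal.conj_mem (inferInstance : L.Normal) _ t.2 (r x)⁻¹)
  intro x
  refine ⟨1, ?_⟩
  rw [pow_one, pow_two]
  by_contra hne
  have hcard := Nat.card_le_card_of_injective b hb
  rw [Nat.card_eq_fintype_card (α := Bool), Fintype.card_bool] at hcard
  have h3 : Nat.card (G ⧸ (L ⊔ Z(G))) = 1 ∨ Nat.card (G ⧸ (L ⊔ Z(G))) = 2 := by
    have := Nat.card_pos (α := G ⧸ (L ⊔ Z(G)))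
    omega
  apply hne
  rw [← pow_two]
  rcases h3 with h | h
  · have : Subsingleton (G ⧸ (L ⊔ Z(G))) := (Nat.card_eq_one_iff_unique.1 h).1
    exact Subsingleton.elim _ _
  · rw [← h]; exact pow_card_eq_one'

end CfsgLib.Recog.NonCA
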