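import Cfsg.Agent.Lib.Recog.NonCA.IndexTwo
import Cfsg.Agent.Lib.Recog.NonCA.GoodCase
import Cfsg.Agent.Lib.Recog.NonCA.CoverCA
import Cfsg.Agent.Lib.Recog.NonCA.Outer
import Cfsg.Agent.Lib.Recog.NonCA.KleinLocal

/-!
A non-solvable minimal non-CA group is isomorphic to some PSL(2,q).
-/

set_option autoImplicit false
set_option linter.unusedSectionVars false

namespace CfsgLib.Recog.NonCA

open Matrix

universe u

variable {G : Type u} [Group G] [Finite G]

theorem exists_index_two {Q : Type u} [Group Q] [Finite Q] (hQ : IsPGroup 2 Q) [Nontrivial Q] :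
    ∃ K : Subgroup Q, K.Normal ∧ K.index = 2 := by
  have : Fact (Nat.Prime 2) := ⟨Nat.prime_two⟩
  obtain ⟨n, hn, he⟩ := hQ.nontrivial_iff_card.1 inferInstance
  obtain ⟨m, rfl⟩ := Nat.exists_eq_succ_of_ne_zero hn.ne'
  obtain ⟨K, hK⟩ := Sylow.exists_subgroup_card_pow_prime (G := Q) 2 (n := m)
    (he ▸ pow_dvd_pow 2 (Nat.le_succ m))
  have hi : K.index = 2 := by
    have h := K.card_mul_index
    rw [hK, he, pow_succ] at h
    exact Nat.eq_of_mul_eq_mul_left (by positivity) h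
  exact ⟨K, Subgroup.normal_of_index_eq_two hi, hi⟩

/-- A CA-group times the centre is CA. -/
theorem isCA_of_sup_center {L : Subgroup G} (hL : IsCA L) (hs : L ⊔ Subgroup.center G = ⊤) :
    IsCA G := by
  intro x hx
  have hdec : ∀ g : G, ∃ l ∈ L, ∃ z ∈ Subgroup.center G, l * z = g := fun g =>
    Subgroup.mem_sup_of_normal_right.1 (hs ▸ Subgroup.mem_top g)
  refine comm_iff.2 fun a ha b hb => ?_
  obtain ⟨l, hl, z, hz, rfl⟩ := hdec x
  obtain ⟨la, hla, za, hza, rfl⟩ := hdec a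
  obtain ⟨lb, hlb, zb, hzb, rfl⟩ := hdec b
  have hstrip : ∀ {c d u v : G}, u ∈ Subgroup.center G → v ∈ Subgroup.center G →
      (c * u * (d * v) = d * v * (c * u) ↔ c * d = d * c) := by
    intro c d u v hu hv
    have hu' := mem_center.1 hu
    have hv' := mem_center.1 hv
    have h1 : c * u * (d * v) = c * d * (u * v) := by
      rw [mul_assoc c u, ← mul_assoc u d, ← hu' d]; group
    have h2 : d * v * (c * u) = d * c * (u * v) := by
      rw [mul_assoc d v, ← mul_assoc v c, ← hv' c, mul_assoc c v u, hu' v]; group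
    rw [h1, h2]
    exact mul_left_inj _
  have hlx : (⟨l, hl⟩ : L) ∉ Subgroup.center L := fun hc => hx <| by
    refine mem_center.2 fun g => ?_
    obtain ⟨lg, hlg, zg, hzg, rfl⟩ := hdec g
    exact (hstrip hzg hz).2 (congrArg Subtype.val (Subgroup.mem_center_iff.1 hc ⟨lg, hlg⟩))
  exact (hstrip hza hzb).2 (congrArg Subtype.val (commute_of_not_bad (a := (⟨la, hla⟩ : L))
    (b := ⟨lb, hlb⟩) (hL.not_bad _) hlx (Subtype.ext ((hstrip hza hz).1 (mem_cen.1 ha)))
    (Subtype.ext ((hstrip hzb hz).1 (mem_cen.1 hb)))))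

theorem Hyp.exists_psl_of_not_isCA (hG : Hyp G) (hn : ¬ IsCA G) :
    ∃ (F : Type) (_ : Field F) (_ : Fintype F), Cond (Fintype.card F) ∧
      Nonempty (G ≃* ProjectiveSpecialLinearGroup (Fin 2) F) := by
  obtain ⟨x, hx⟩ : ∃ x : G, Bad x := by
    by_contra h
    exact hn (isCA_iff.2 (not_exists.1 h))
  obtain ⟨L, hLn, hLs, hperf, hLtop, hquot⟩ := hG.exists_perfect
  by_cases hL : L = ⊤
  · subst hL
    have hp : commutator G = ⊤ := by rw [commutator_def]; exact hperf
    by_cases hno : ∀ y : G, Bad y → ∀ k : ℕ, y ^ 2 ^ k ≠ 1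
    · obtain ⟨F, hF, hF', hq, ⟨e⟩⟩ := hG.exists_psl_of_good hp hno
      exact absurd (hG.isCA_of_psl hp hno e hq) hn
    · push Not at hno
      obtain ⟨y, hy, k, hk⟩ := hno
      exact hG.klein_case hp hy hk
  have hCA : IsCA L := hG.sub L hL
  obtain ⟨F, hF, hF', hq, ⟨e⟩⟩ := (hG.subgroup hLs).exists_psl_of_good hLtop
    (fun y hy => absurd hy (hCA.not_bad y))
  have h2 := hG.isPGroup_two_quotient L hperf hLs hL (hquot) e hq
  have hne : L ⊔ Subgroup.center G ≠ ⊤ := fun h => hn (isCA_of_sup_center hCA h)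
  have : Nontrivial (G ⧸ (L ⊔ Subgroup.center G)) :=
    QuotientGroup.nontrivial_iff.2 hne
  obtain ⟨K, hKn, hKi⟩ := exists_index_two h2
  exact (hG.no_index_two hx (K.comap (QuotientGroup.mk' _))
    (by rw [Subgroup.index_comap_of_surjective K (QuotientGroup.mk'_surjective _), hKi])
    (le_sup_right.trans (QuotientGroup.le_comap_mk' _ _))).elim

end CfsgLib.Recog.NonCA
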