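import Cfsg.Agent.Lib.Recog.NonCA.AbelianNormal

/-!
Minimal non-central solvable normal subgroups: basic facts and the dichotomy for the Sylow
2-subgroup of a quotient.
-/

set_option autoImplicit false
set_option linter.unusedSectionVars false
set_option maxHeartbeats 1000000

namespace CfsgLib.Recog.NonCA

open CfsgLib.Recog.GenDihedral (isSolvable_of_cyclic_sylow)

universe u

variable {G : Type u} [Group G]

local notation "cen(" x ")" => Subgroup.centralizer ({x} : Set G)
local notation "Z(G)" => Subgroup.center G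

/-- The commutator `a b a⁻¹ b⁻¹`. -/
def cm (a b : G) : G := a * b * a⁻¹ * b⁻¹

theorem cm_mul (a b : G) : cm a b * b = a * b * a⁻¹ := by rw [cm]; group

theorem cm_eq_one {a b : G} : cm a b = 1 ↔ a * b = b * a := by
  rw [cm, mul_inv_eq_one, mul_inv_eq_iff_eq_mul]

theorem cm_inv (a b : G) : (cm a b)⁻¹ = cm b a := by simp [cm, mul_assoc]

theorem cm_mul_left {a b c : G} (h : cm b c ∈ Z(G)) : cm (a * b) c = cm a c * cm b c := by
  have e : cm (a * b) c = a * cm b c * (c * a⁻¹ * c⁻¹) := by rw [cm, cm]; group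
  rw [e, mem_center.1 h a, mul_assoc]
  have e2 : a * (c * a⁻¹ * c⁻¹) = cm a c := by rw [cm]; group
  rw [e2, mem_center.1 h (cm a c)]

theorem cm_mul_right {a b c : G} (h : cm a c ∈ Z(G)) : cm a (b * c) = cm a b * cm a c := by
  have e : cm a (b * c) = a * b * a⁻¹ * cm a c * b⁻¹ := by rw [cm, cm]; group
  rw [e, mul_assoc (a * b * a⁻¹), ← mem_center.1 h b⁻¹, ← mul_assoc]
  rfl

theorem cm_center_right {a z : G} (h : z ∈ Z(G)) : cm a z = 1 :=
  cm_eq_one.2 (mem_center.1 h a)

theorem cm_center_left {a z : G} (h : z ∈ Z(G)) : cm z a = 1 :=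
  cm_eq_one.2 (mem_center.1 h a).symm

theorem cm_inv_left {a b : G} (h : cm a b ∈ Z(G)) : cm a⁻¹ b = (cm a b)⁻¹ := by
  have := cm_mul_left (a := a⁻¹) h
  rw [inv_mul_cancel, cm_center_left (one_mem _)] at this
  exact eq_inv_of_mul_eq_one_left this.symm

theorem cm_inv_right {a b : G} (h : cm a b ∈ Z(G)) : cm a b⁻¹ = (cm a b)⁻¹ := by
  have := cm_mul_right (b := b⁻¹) h
  rw [inv_mul_cancel, cm_center_right (one_mem _)] at this
  exact eq_inv_of_mul_eq_one_left this.symm

theorem cm_pow_right {a b : G} (h : cm a b ∈ Z(G)) : ∀ n : ℕ, cm a (b ^ n) = cm a b ^ n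
  | 0 => by rw [pow_zero, pow_zero, cm_center_right (one_mem _)]
  | n + 1 => by rw [pow_succ, cm_mul_right h, cm_pow_right h n, pow_succ]

theorem cm_pow_left {a b : G} (h : cm a b ∈ Z(G)) : ∀ n : ℕ, cm (a ^ n) b = cm a b ^ n
  | 0 => by rw [pow_zero, pow_zero, cm_center_left (one_mem _)]
  | n + 1 => by rw [pow_succ, cm_mul_left h, cm_pow_left h n, pow_succ]

theorem conj_cm (g a b : G) : g * cm a b * g⁻¹ = cm (g * a * g⁻¹) (g * b * g⁻¹) := by
  simp [cm, mul_assoc]

/-- A minimal non-central solvable normal subgroup. -/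
structure MinNil (U : Subgroup G) (p : ℕ) : Prop where
  normal : U.Normal
  notle : ¬ U ≤ Z(G)
  solv : Group.IsSolvable U
  comm : ∀ a ∈ U, ∀ b ∈ U, cm a b ∈ Z(G)
  min : ∀ K : Subgroup G, K.Normal → K ≤ U → K ≠ U → K ≤ Z(G)
  prime : p.Prime
  pow : ∀ a ∈ U, a ^ p ∈ Z(G)

/-- The elements acting trivially on `U` modulo the centre. -/
def triv (U : Subgroup G) [U.Normal] : Subgroup G where
  carrier := {g | ∀ a ∈ U, cm g a ∈ Z(G)}
  one_mem' a _ := by rw [cm_center_left (one_mem _)]; exact one_mem _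
  mul_mem' {g h} hg hh a ha := by
    rw [cm_mul_left (hh a ha)]; exact mul_mem (hg a ha) (hh a ha)
  inv_mem' {g} hg a ha := by rw [cm_inv_left (hg a ha)]; exact inv_mem (hg a ha)

theorem mem_triv {U : Subgroup G} [U.Normal] {g : G} :
    g ∈ triv U ↔ ∀ a ∈ U, cm g a ∈ Z(G) := Iff.rfl

instance (U : Subgroup G) [U.Normal] : (triv U).Normal := ⟨fun g hg x a ha => by
  have h1 := Subgroup.Normal.conj_mem (inferInstance : Z(G).Normal) _
    (hg (x⁻¹ * a * x⁻¹⁻¹) (Subgroup.Normal.conj_mem inferInstance a ha x⁻¹)) x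
  rwa [conj_cm, show x * (x⁻¹ * a * x⁻¹⁻¹) * x⁻¹ = a by group] at h1⟩

variable [Finite G]

theorem Hyp.exists_minNil (hG : Hyp G) (N : Subgroup G) [N.Normal] (hN : Group.IsSolvable N)
    (hne : ¬ N ≤ Z(G)) : ∃ U p, MinNil (G := G) U p ∧ U ≤ N := by
  obtain ⟨U, hU, hmin⟩ := Set.Finite.exists_minimal (s := {K : Subgroup G | K.Normal ∧ K ≤ N ∧
    ¬ K ≤ Z(G)}) (Set.toFinite _) ⟨N, inferInstance, le_rfl, hne⟩
  obtain ⟨hUn, hUN, hUne⟩ := hU
  have := hN
  have hUs : Group.IsSolvable U :=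
    Group.isSolvable_of_isSolvable_injective (f := Subgroup.inclusion hUN)
      (Subgroup.inclusion_injective hUN)
  have hlow : ∀ K : Subgroup G, K.Normal → K ≤ U → K ≠ U → K ≤ Z(G) := fun K hK hKU hne' =>
    by_contra fun h => hne' (le_antisymm hKU (hmin ⟨hK, hKU.trans hUN, h⟩ hKU))
  have hder : ⁅U, U⁆ ≤ Z(G) := by
    refine hlow _ inferInstance (Subgroup.commutator_le_left U U) fun e => hUne ?_
    obtain ⟨n, hn⟩ := id hUs
    have key : ∀ m, (derivedSeries U m).map U.subtype = U := by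
      intro m
      induction m with
      | zero => rw [derivedSeries_zero, ← MonoidHom.range_eq_map, Subgroup.range_subtype]
      | succ m ih => rw [derivedSeries_succ, Subgroup.map_commutator, ih, e]
    have := key n
    rw [hn, Subgroup.map_bot] at this
    exact this ▸ bot_le
  have hcomm : ∀ a ∈ U, ∀ b ∈ U, cm a b ∈ Z(G) := fun a ha b hb => by
    have := hder (Subgroup.commutator_mem_commutator ha hb)
    rwa [commutatorElement_def] at this
  set C := Z(G).subgroupOf U
  have : IsMulCommutative (U ⧸ C) := ⟨⟨fun x y => by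
    induction x using QuotientGroup.induction_on with
    | H x =>
      induction y using QuotientGroup.induction_on with
      | H y =>
        refine QuotientGroup.eq.2 (Subgroup.mem_subgroupOf.2 ?_)
        have h := hcomm _ (inv_mem y.2) _ (inv_mem x.2)
        simp only [cm] at h
        simp only [Subgroup.coe_mul, Subgroup.coe_inv]
        convert h using 1
        group⟩⟩
  have hCne : C ≠ ⊤ := fun e => hUne fun a ha =>
    Subgroup.mem_subgroupOf.1 (e ▸ Subgroup.mem_top (⟨a, ha⟩ : U))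
  obtain ⟨p, hp, hpd⟩ := Nat.exists_prime_and_dvd (n := C.index)
    (fun e => hCne (Subgroup.index_eq_one.1 e))
  have : Fact p.Prime := ⟨hp⟩
  refine ⟨U, p, ⟨hUn, hUne, hUs, hcomm, hlow, hp, ?_⟩, hUN⟩
  set S := {y : G | ∃ a ∈ U, a ^ p = y} with hS
  have hSU : Subgroup.closure S ≤ U := (Subgroup.closure_le U).2 fun y ⟨a, ha, he⟩ =>
    he ▸ pow_mem ha p
  set K := (U ⊓ Z(G)) ⊔ Subgroup.closure S with hK
  have : (Subgroup.closure S).Normal := by
    refine ⟨fun y hy x => ?_⟩
    induction hy using Subgroup.closure_induction with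
    | mem y hy =>
      obtain ⟨a, ha, rfl⟩ := hy
      exact Subgroup.subset_closure ⟨x * a * x⁻¹, hUn.conj_mem a ha x, conj_pow⟩
    | one => simp [one_mem]
    | mul y z _ _ h1 h2 =>
      rw [show x * (y * z) * x⁻¹ = (x * y * x⁻¹) * (x * z * x⁻¹) by group]; exact mul_mem h1 h2
    | inv y _ h1 => rw [show x * y⁻¹ * x⁻¹ = (x * y * x⁻¹)⁻¹ by group]; exact inv_mem h1
  have hKU : K ≤ U := sup_le inf_le_left hSU
  by_cases hKe : K = U
  · exfalso
    letI : CommGroup (U ⧸ C) := { (inferInstance : Group (U ⧸ C)) with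
      mul_comm := fun a b => mul_comm' a b }
    let f : (U ⧸ C) →* (U ⧸ C) := powMonoidHom p
    have hsurj : Function.Surjective f := by
      intro q
      obtain ⟨a, rfl⟩ := QuotientGroup.mk'_surjective C q
      have : ∀ y ∈ K, ∀ hy : y ∈ U, QuotientGroup.mk' C ⟨y, hy⟩ ∈ f.range := by
        have hle : K ≤ ((f.range.comap (QuotientGroup.mk' C)).map U.subtype) := by
          refine sup_le (fun y hy => ⟨⟨y, hy.1⟩, ?_, rfl⟩) ((Subgroup.closure_le _).2 ?_)
          · refine ⟨1, ?_⟩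
            rw [map_one]
            exact ((QuotientGroup.eq_one_iff _).2 (Subgroup.mem_subgroupOf.2 hy.2)).symm
          · rintro y ⟨b, hb, rfl⟩
            exact ⟨⟨b, hb⟩ ^ p, ⟨QuotientGroup.mk' C ⟨b, hb⟩, (map_pow _ _ _).symm⟩, by simp⟩
        intro y hy hyU
        obtain ⟨y', hy', he⟩ := hle hy
        rwa [show (⟨y, hyU⟩ : U) = y' from Subtype.ext he.symm]
      exact MonoidHom.mem_range.1 (this a (by rw [hKe]; exact a.2) a.2)
    obtain ⟨w, hw⟩ := exists_prime_orderOf_dvd_card' (G := U ⧸ C) p hpd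
    have hinj : Function.Injective f := Finite.injective_iff_surjective.2 hsurj
    have : w = 1 := hinj (by
      simp only [f, powMonoidHom_apply, one_pow]
      exact orderOf_dvd_iff_pow_eq_one.1 (dvd_of_eq hw))
    rw [this, orderOf_one] at hw
    exact hp.ne_one hw.symm
  · intro a ha
    exact hlow K inferInstance hKU hKe (Subgroup.mem_sup_right (Subgroup.subset_closure ⟨a, ha, rfl⟩))

namespace MinNil

variable {U : Subgroup G} {p : ℕ}

theorem exists_noncomm (hG : Hyp G) (h : MinNil U p) : ∃ a ∈ U, ∃ b ∈ U, a * b ≠ b * a := by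
  by_contra hc
  push Not at hc
  have := h.normal
  exact h.notle (hG.abelian_le_center U hc)

theorem centralizer_eq (hG : Hyp G) (h : MinNil U p) {x : G} (hx : x ∈ U)
    (hc : ∀ a ∈ U, a * x = x * a) : x ∈ Z(G) := by
  have := h.normal
  exact hG.abelian_le_center (U ⊓ Subgroup.centralizer (U : Set G)) (fun a ha b hb =>
    (Subgroup.mem_centralizer_iff.1 ha.2 b hb.1).symm)
    ⟨hx, Subgroup.mem_centralizer_iff.2 hc⟩

theorem not_bad (hG : Hyp G) (h : MinNil U p) {x : G} (hx : x ∈ U) : ¬ Bad x := fun hb =>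
  hb.1 (h.centralizer_eq hG hx fun a ha => mem_cen.1 (hb.mem_of_comm_mod hG (h.comm a ha x hx)))

theorem exists_not_center (hG : Hyp G) (h : MinNil U p) : ∃ x ∈ U, x ∉ Z(G) :=
  Set.not_subset.1 h.notle

theorem mem_center_of_centralizes (hG : Hyp G) (h : MinNil U p) {g : G}
    (hg : ∀ a ∈ U, g * a = a * g) : g ∈ Z(G) := by
  obtain ⟨x, hx, hxZ⟩ := h.exists_not_center hG
  have := h.normal
  have hc : ∀ {g : G}, g ∈ Subgroup.centralizer (U : Set G) → g * x = x * g := fun hg =>
    (Subgroup.mem_centralizer_iff.1 hg x hx).symm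
  exact hG.abelian_le_center (Subgroup.centralizer (U : Set G)) (fun a ha b hb =>
    commute_of_not_bad (h.not_bad hG hx) hxZ (hc ha) (hc hb))
    (Subgroup.mem_centralizer_iff.2 fun a ha => (hg a ha).symm)

theorem le_triv (h : MinNil U p) [U.Normal] : U ≤ triv U := fun g hg a ha => h.comm g hg a ha

theorem not_bad_triv (hG : Hyp G) (h : MinNil U p) [U.Normal] {k : G} (hk : k ∈ triv U) :
    ¬ Bad k := by
  intro hb
  refine hb.1 (h.mem_center_of_centralizes hG fun a ha => ?_)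
  have hz : cm a k ∈ Z(G) := cm_inv k a ▸ inv_mem (hk a ha)
  exact (mem_cen.1 (hb.mem_of_comm_mod hG hz)).symm

theorem triv_solvable (hG : Hyp G) (h : MinNil U p) [U.Normal] : Group.IsSolvable (triv U) := by
  have : Group.IsSolvable Z(G) := Group.isSolvable_of_comm fun a b => mul_comm' a b
  set C := (Z(G)).subgroupOf (triv U)
  have : Group.IsSolvable ((triv U) ⧸ C) := Group.isSolvable_of_comm fun x y => by
    induction x using QuotientGroup.induction_on with
    | H x =>
      induction y using QuotientGroup.induction_on with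
      | H y =>
        refine QuotientGroup.eq.2 (Subgroup.mem_subgroupOf.2 ?_)
        refine h.mem_center_of_centralizes hG fun a ha => ?_
        simp only [Subgroup.coe_mul, Subgroup.coe_inv]
        refine cm_eq_one.1 ?_
        have hx := x.2 a ha
        have hy := y.2 a ha
        have hxy := (mul_mem x.2 y.2) a ha
        have hyx := (inv_mem (mul_mem x.2 y.2)) a ha
        rw [cm_mul_left ((mul_mem y.2 x.2) a ha), cm_inv_left hxy, cm_mul_left hy, cm_mul_left hx,
          ← mem_center.1 hy (cm (x : G) a)]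
        group
  refine CfsgLib.Invol.MetacyclicTwo.solvable_of_extension C ?_ inferInstance
  exact Group.isSolvable_of_isSolvable_injective
    (f := ((triv U).subtype.comp C.subtype).codRestrict Z(G) fun c => Subgroup.mem_subgroupOf.1 c.2)
    (fun a b e => Subtype.ext (Subtype.ext (congrArg Subtype.val e :)))

end MinNil

/-- Either a four-group or a central involution in the image of a Sylow 2-subgroup. -/
theorem two_dichotomy {N : Subgroup G} [N.Normal] (hN : ¬ Group.IsSolvable (G ⧸ N)) (P : Sylow 2 G)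
    (hPN : ∀ x ∈ (P : Subgroup G), x ∈ N → x ∈ Z(G)) :
    (∃ g ∈ (P : Subgroup G), ∃ h ∈ (P : Subgroup G), g ∉ N ∧ h ∉ N ∧ g * h ∉ N ∧
      g * g ∈ Z(G) ∧ h * h ∈ Z(G) ∧ cm g h ∈ Z(G)) ∨
    (∃ τ ∈ (P : Subgroup G), τ ∉ N ∧ (∀ x ∈ (P : Subgroup G), x * τ = τ * x) ∧
      ∃ a ∈ (P : Subgroup G), ∃ c ∈ (P : Subgroup G), a * c ≠ c * a) := by
  have : Fact (Nat.Prime 2) := ⟨Nat.prime_two⟩
  have hZ := fun {z : G} (hz : z ∈ Z(G)) (y : G) => mem_center.1 hz y
  set π := QuotientGroup.mk' N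
  have hπ : ∀ {h : G}, π h = 1 ↔ h ∈ N := QuotientGroup.eq_one_iff _
  set Pb := P.mapSurjective (f := π) (QuotientGroup.mk'_surjective N) with hPb
  have hPbmem : ∀ {y : G ⧸ N}, y ∈ (Pb : Subgroup (G ⧸ N)) ↔ ∃ x ∈ (P : Subgroup G), π x = y :=
    fun {y} => by rw [hPb, Sylow.coe_mapSurjective, Subgroup.mem_map]
  have hncyc : ¬ IsCyclic (Pb : Subgroup (G ⧸ N)) := fun h => hN (isSolvable_of_cyclic_sylow Pb h)
  have hbot : (Pb : Subgroup (G ⧸ N)) ≠ ⊥ := fun h => hncyc (by rw [h]; infer_instance)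
  have : Nontrivial (Pb : Subgroup (G ⧸ N)) := (Subgroup.nontrivial_iff_ne_bot _).2 hbot
  have := (IsPGroup.center_nontrivial Pb.2 : Nontrivial (Subgroup.center (Pb : Subgroup (G ⧸ N))))
  obtain ⟨n, hn0, hn⟩ := (Pb.2.to_subgroup _).nontrivial_iff_card.1 this
  obtain ⟨z, hz⟩ := exists_prime_orderOf_dvd_card'
    (G := Subgroup.center (Pb : Subgroup (G ⧸ N))) 2 (hn ▸ dvd_pow_self 2 hn0.ne')
  set zb : G ⧸ N := ((z : (Pb : Subgroup (G ⧸ N))) : G ⧸ N) with hzb
  have hzb2 : zb * zb = 1 := by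
    have : z * z = 1 := by
      rw [← pow_two]
      exact orderOf_dvd_iff_pow_eq_one.1 (dvd_of_eq hz)
    rw [hzb, ← Subgroup.coe_mul, ← Subgroup.coe_mul, this]; rfl
  have hzb1 : zb ≠ 1 := fun e => by
    rw [orderOf_eq_one_iff.2 (Subtype.ext (Subtype.ext e) : z = 1)] at hz
    exact absurd hz (by norm_num)
  have hzbP : zb ∈ (Pb : Subgroup (G ⧸ N)) := (z : (Pb : Subgroup (G ⧸ N))).2
  have hzbc : ∀ y ∈ (Pb : Subgroup (G ⧸ N)), y * zb = zb * y := fun y hy =>
    congrArg Subtype.val (Subgroup.mem_center_iff.1 z.2 ⟨y, hy⟩)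
  obtain ⟨τ, hτP, hτ⟩ := hPbmem.1 hzbP
  have hτN : τ ∉ N := fun h => hzb1 (by rw [← hτ]; exact hπ.2 h)
  by_cases hone : ∀ y ∈ (Pb : Subgroup (G ⧸ N)), y * y = 1 → y = 1 ∨ y = zb
  · right
    have hpow : ∀ x ∈ (P : Subgroup G), x ∉ N → ∃ m : ℕ, π (x ^ m) = zb := by
      intro x hx hxN
      have hy : π x ∈ (Pb : Subgroup (G ⧸ N)) := hPbmem.2 ⟨x, hx, rfl⟩
      obtain ⟨k, hk⟩ := (IsPGroup.iff_orderOf.1 Pb.2) ⟨π x, hy⟩
      rw [← Subgroup.orderOf_coe] at hk
      rcases k with _ | k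
      · exact absurd (hπ.1 (orderOf_eq_one_iff.1 hk)) hxN
      · refine ⟨2 ^ k, ?_⟩
        rw [map_pow]
        refine (hone _ (pow_mem hy _) ?_).resolve_left ?_
        · rw [← pow_add, ← two_mul, ← pow_succ', ← hk, pow_orderOf_eq_one]
        · intro h
          have := Nat.le_of_dvd (by positivity) (orderOf_dvd_of_pow_eq_one h)
          rw [hk, pow_succ] at this
          have := Nat.two_pow_pos k
          omega
    refine ⟨τ, hτP, hτN, fun x hx => ?_, ?_⟩
    · by_cases hxN : x ∈ N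
      · exact (hZ (hPN x hx hxN) τ).symm
      · obtain ⟨m, hm⟩ := hpow x hx hxN
        have hc : (x ^ m)⁻¹ * τ ∈ Z(G) := hPN _ (mul_mem (inv_mem (pow_mem hx _)) hτP)
          (hπ.1 (by rw [map_mul, map_inv, hm, hτ, inv_mul_cancel]))
        calc x * τ = x * x ^ m * ((x ^ m)⁻¹ * τ) := by group
          _ = x ^ m * (x * ((x ^ m)⁻¹ * τ)) := by rw [← pow_succ', pow_succ]; group
          _ = x ^ m * (((x ^ m)⁻¹ * τ) * x) := by rw [hZ hc x]
          _ = τ * x := by group
    · by_contra h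
      push Not at h
      refine hncyc ?_
      refine CfsgLib.Recog.PGroupImprimitive.isCyclic_of_comm_unique Pb.2 (fun x y => ?_)
        fun X Y hX hY => ?_
      · obtain ⟨a, ha, hax⟩ := hPbmem.1 x.2
        obtain ⟨r, hr, hry⟩ := hPbmem.1 y.2
        exact Subtype.ext (by rw [Subgroup.coe_mul, Subgroup.coe_mul, ← hax, ← hry, ← map_mul,
          ← map_mul, h a ha r hr])
      · have key : ∀ X : Subgroup (Pb : Subgroup (G ⧸ N)), Nat.card X = 2 →
            X = Subgroup.zpowers ⟨zb, hzbP⟩ := fun X hX => by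
          obtain ⟨x, hx⟩ := exists_prime_orderOf_dvd_card' (G := X) 2 (by rw [hX])
          have hxz : ((x : (Pb : Subgroup (G ⧸ N))) : G ⧸ N) = zb := by
            refine (hone _ (x : (Pb : Subgroup (G ⧸ N))).2 ?_).resolve_left fun e => ?_
            · rw [← Subgroup.coe_mul, ← Subgroup.coe_mul, ← pow_two,
                orderOf_dvd_iff_pow_eq_one.1 (dvd_of_eq hx)]
              rfl
            · rw [orderOf_eq_one_iff.2 (Subtype.ext (Subtype.ext e) : x = 1)] at hx
              exact absurd hx (by norm_num)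
          refine (Subgroup.eq_of_le_of_card_ge (Subgroup.zpowers_le.2 ?_) ?_).symm
          · rw [← (Subtype.ext hxz : (x : (Pb : Subgroup (G ⧸ N))) = ⟨zb, hzbP⟩)]
            exact x.2
          · rw [Nat.card_zpowers, hX, ← Subgroup.orderOf_coe, Subtype.coe_mk, ← hxz,
              Subgroup.orderOf_coe, Subgroup.orderOf_coe, hx]
        rw [key X hX, key Y hY]
  · left
    push Not at hone
    obtain ⟨w, hwP, hw2, hw1, hwz⟩ := hone
    obtain ⟨g, hgP, hg⟩ := hPbmem.1 hwP
    refine ⟨g, hgP, τ, hτP, fun h => hw1 (by rw [← hg]; exact hπ.2 h), hτN, fun h => hwz ?_,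
      hPN _ (mul_mem hgP hgP) (hπ.1 (by rw [map_mul, hg, hw2])),
      hPN _ (mul_mem hτP hτP) (hπ.1 (by rw [map_mul, hτ, hzb2])),
      hPN _ (mul_mem (mul_mem (mul_mem hgP hτP) (inv_mem hgP)) (inv_mem hτP)) (hπ.1 ?_)⟩
    · have h1 : w * zb = 1 := by rw [← hg, ← hτ, ← map_mul]; exact hπ.2 h
      rw [eq_inv_of_mul_eq_one_left h1, inv_eq_of_mul_eq_one_right hzb2]
    · rw [cm, map_mul, map_mul, map_mul, map_inv, map_inv, hg, hτ, hzbc w hwP]
      group

end CfsgLib.Recog.NonCA
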