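import Cfsg.Agent.Lib.Recog.NonCA.Residual
import Cfsg.Agent.Lib.Recog.NonCA.PSLUnip
import Cfsg.Agent.Lib.Invol.CN.AutPSLTwo
import Cfsg.Agent.Lib.KnownC.FieldAut

/-!
The action of a group on a normal subgroup over `PSL(2,q)`; the small fields.
-/

set_option autoImplicit false
set_option linter.style.haveILetI false
set_option linter.unusedSectionVars false

namespace CfsgLib.Recog.NonCA

open Matrix CfsgLib.Geom

universe u

variable {G : Type u} [Group G] {F : Type} [Field F]

local notation "Z(G)" => Subgroup.center G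
local notation "S" => ProjectiveSpecialLinearGroup (Fin 2) F

/-- The conjugation action on `S ≅ L/Z(L)`. -/
def outerHom (L : Subgroup G) [L.Normal] (e : L ⧸ Subgroup.center L ≃* S) : G →* MulAut S :=
  ((MulAut.congr e).toMonoidHom.comp (CfsgLib.KnownC.centerQuotAut L)).comp MulAut.conjNormal

theorem outerHom_apply (L : Subgroup G) [L.Normal] (e : L ⧸ Subgroup.center L ≃* S) (g : G)
    (l : L) : outerHom L e g (e (QuotientGroup.mk l)) =
      e (QuotientGroup.mk (MulAut.conjNormal g l)) := by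
  show e (CfsgLib.KnownC.centerQuotAut L (MulAut.conjNormal g)
    (e.symm (e (QuotientGroup.mk l)))) = _
  rw [e.symm_apply_apply, CfsgLib.KnownC.centerQuotAut_mk]

/-- Over `GF(p^2)` the fourth power of every automorphism is inner. -/
theorem pow_four_inner [Fintype F] {p : ℕ} [Fact p.Prime] (hF : Fintype.card F = p ^ 2)
    (β : MulAut S) : ∃ v : S, β ^ 4 = MulAut.conj v := by
  rcases CfsgLib.KnownC.mulAut_psl_cases (le_refl 2) β with ⟨g, σ, rfl⟩ | ⟨h3, -⟩
  swap
  · omega
  have hσ : σ * σ = 1 := by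
    rw [← pow_two, ← (CfsgLib.KnownC.exists_zmod_mulEquiv_ringAut hF).1]
    exact pow_card_eq_one'
  obtain ⟨g', hg'⟩ : ∃ g', g' = g * GeneralLinearGroup.map (σ : F →+* F) g := ⟨_, rfl⟩
  have h2 : CfsgLib.KnownC.semiAut g σ ^ 2 =
      CfsgLib.KnownC.semiAut g' (RingEquiv.refl F) := by
    rw [pow_two, CfsgLib.KnownC.semiAut_mul, ← hg', hσ]; rfl
  obtain ⟨g'', hg''⟩ : ∃ g'', g'' =
      g' * GeneralLinearGroup.map ((RingEquiv.refl F : F ≃+* F) : F →+* F) g' := ⟨_, rfl⟩
  have h4 : CfsgLib.KnownC.semiAut g σ ^ 4 =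
      CfsgLib.KnownC.semiAut g'' (RingEquiv.refl F) := by
    rw [show (4 : ℕ) = 2 * 2 from rfl, pow_mul, h2, pow_two, CfsgLib.KnownC.semiAut_mul, ← hg'']
    rfl
  have hdet : g''.1.det = g'.1.det ^ 2 * (1 : GL (Fin 2) F).1.det := by
    rw [hg'', Units.val_mul, det_mul, Units.val_one, det_one, mul_one, pow_two]
    rfl
  have hne : g'.1.det ≠ 0 := ((Matrix.isUnit_iff_isUnit_det g'.1).1 g'.isUnit).ne_zero
  obtain ⟨v, hv⟩ := CfsgLib.Invol.CN.exists_conj_mul_semiAut (le_refl 2) g'' 1 (RingEquiv.refl F)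
    hne hdet
  exact ⟨v, by rw [h4, hv, CfsgLib.KnownC.semiAut_one, mul_one]⟩

variable [Finite G]

theorem Hyp.center_le (hG : Hyp G) (L : Subgroup G) [L.Normal] {z : L}
    (hz : z ∈ Subgroup.center L) : (z : G) ∈ Z(G) := by
  refine hG.abelian_le_center ((Subgroup.center L).map L.subtype) ?_ ⟨z, hz, rfl⟩
  rintro _ ⟨a, ha, rfl⟩ _ ⟨b, -, rfl⟩
  exact congrArg Subtype.val (Subgroup.mem_center_iff.1 ha b).symm

theorem Hyp.mem_center_of_centralizes_normal (hG : Hyp G) (L : Subgroup G) [L.Normal]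
    (hs : Group.IsSolvable (G ⧸ L)) {g : G} (hg : ∀ l : L, g * l = l * g) : g ∈ Z(G) := by
  set C := Subgroup.centralizer (L : Set G)
  have : Group.IsSolvable (L.subgroupOf C) := Group.isSolvable_of_comm fun a b =>
    Subtype.ext (Subtype.ext
      (Subgroup.mem_centralizer_iff.1 (b : C).2 _ (Subgroup.mem_subgroupOf.1 a.2)))
  have hC : Group.IsSolvable C := by
    refine Group.isSolvable_of_ker_le_range (L.subgroupOf C).subtype
      ((QuotientGroup.mk' L).comp C.subtype) fun c hc => ?_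
    rw [MonoidHom.mem_ker, MonoidHom.comp_apply, QuotientGroup.mk'_apply,
      QuotientGroup.eq_one_iff] at hc
    exact ⟨⟨c, Subgroup.mem_subgroupOf.2 hc⟩, rfl⟩
  exact hG.solvable_le_center C hC
    (Subgroup.mem_centralizer_iff.2 fun l hl => (hg ⟨l, hl⟩).symm)

theorem commutator_eq_top_of_eq (L : Subgroup G) (h : ⁅L, L⁆ = L) : commutator L = ⊤ := by
  refine Subgroup.map_injective L.subtype_injective ?_
  rw [commutator_def, Subgroup.map_commutator, ← MonoidHom.range_eq_map, Subgroup.range_subtype, h]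

theorem Hyp.outerHom_ker (hG : Hyp G) (L : Subgroup G) [L.Normal] (hperf : ⁅L, L⁆ = L)
    (hs : Group.IsSolvable (G ⧸ L)) (e : L ⧸ Subgroup.center L ≃* S) {g : G}
    (hg : outerHom L e g = 1) : g ∈ Z(G) := by
  have hz : ∀ l : L, cm g (l : G) ∈ Z(G) := by
    intro l
    have h := outerHom_apply L e g l
    rw [hg, MulAut.one_apply] at h
    have hzz := hG.center_le L (QuotientGroup.eq.1 (e.injective h))
    rw [Subgroup.coe_mul, Subgroup.coe_inv, MulAut.conjNormal_apply] at hzz
    have e1 : cm g (l : G) = (l : G) * ((l : G)⁻¹ * (g * l * g⁻¹)) * (l : G)⁻¹ := by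
      rw [cm]; group
    rw [e1, mem_center.1 hzz (l : G), mul_inv_cancel_right]
    exact hzz
  let δ : L →* Z(G) :=
    { toFun := fun l => ⟨cm g (l : G), hz l⟩
      map_one' := Subtype.ext (cm_center_right (one_mem _))
      map_mul' := fun a b => Subtype.ext (cm_mul_right (hz b)) }
  have hker : commutator L ≤ δ.ker := by
    rw [commutator_def, Subgroup.commutator_le]
    intro a _ b _
    rw [MonoidHom.mem_ker, map_commutatorElement, commutatorElement_eq_one_iff_mul_comm]
    exact mul_comm' _ _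
  rw [commutator_eq_top_of_eq L hperf] at hker
  exact hG.mem_center_of_centralizes_normal L hs fun l => cm_eq_one.1
    (congrArg Subtype.val (MonoidHom.mem_ker.1 (hker (Subgroup.mem_top l))))

theorem Hyp.mem_sup_of_inner (hG : Hyp G) (L : Subgroup G) [L.Normal] (hperf : ⁅L, L⁆ = L)
    (hs : Group.IsSolvable (G ⧸ L)) (e : L ⧸ Subgroup.center L ≃* S) {g : G} {v : S}
    (hg : outerHom L e g = MulAut.conj v) : g ∈ L ⊔ Z(G) := by
  obtain ⟨l, hl⟩ := e.surjective.comp (QuotientGroup.mk_surjective) v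
  simp only [Function.comp_apply] at hl
  have hinn : outerHom L e (l : G) = MulAut.conj v := by
    refine MulEquiv.ext fun s => ?_
    obtain ⟨m, rfl⟩ := e.surjective.comp (QuotientGroup.mk_surjective) s
    simp only [Function.comp_apply]
    rw [outerHom_apply, MulAut.conj_apply, ← hl, ← map_mul, ← map_inv, ← map_mul]
    refine congrArg e ?_
    rw [← QuotientGroup.mk_mul, ← QuotientGroup.mk_inv, ← QuotientGroup.mk_mul]
    exact congrArg _ (Subtype.ext (by rw [MulAut.conjNormal_apply]; rfl))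
  have h : outerHom L e ((l : G)⁻¹ * g) = 1 := by
    rw [map_mul, map_inv, hinn, hg, inv_mul_cancel]
  rw [show g = (l : G) * ((l : G)⁻¹ * g) by group]
  exact mul_mem (Subgroup.mem_sup_left l.2)
    (Subgroup.mem_sup_right (hG.outerHom_ker L hperf hs e h))

end CfsgLib.Recog.NonCA
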