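import Cfsg.Agent.Lib.Recog.NonCA.SolvableNormal

/-!
The solvable residual: quotients by non-solvable normal subgroups are solvable, and a perfect group
is simple modulo its centre.
-/

set_option autoImplicit false
set_option linter.unusedSectionVars false
set_option maxHeartbeats 1000000

namespace CfsgLib.Recog.NonCA

universe u

variable {G : Type u} [Group G] [Finite G]

local notation "Z(G)" => Subgroup.center G

theorem Hyp.isSolvable_quotient (hG : Hyp G) (N : Subgroup G) [N.Normal]
    (hN : ¬ Group.IsSolvable N) : Group.IsSolvable (G ⧸ N) := by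
  by_contra hQ
  have key : ∀ q : ℕ, q.Prime → q ≠ 2 → ¬ q ∣ Nat.card (commutator N) := by
    intro q hq _
    have : Fact q.Prime := ⟨hq⟩
    obtain ⟨T⟩ := (inferInstance : Nonempty (Sylow q N))
    set TG := (T : Subgroup N).map N.subtype with hTG
    set H := Subgroup.normalizer (TG : Set G)
    have hsup : H ⊔ N = ⊤ := Sylow.normalizer_sup_eq_top T
    have hTp : IsPGroup q TG := T.2.map _
    have := hTp.isNilpotent
    have hcen : ∀ h ∈ H, ∀ y ∈ TG, h * y = y * h := by
      by_cases hHt : H = ⊤
      · have : TG.Normal := Subgroup.normalizer_eq_top_iff.1 hHt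
        exact fun h _ y hy => mem_center.1 (hG.solvable_le_center TG inferInstance hy) h
      · have hHns : ¬ Group.IsSolvable H := fun hs => hQ <| by
          refine Group.isSolvable_of_surjective (f := (QuotientGroup.mk' N).comp H.subtype) fun g => ?_
          obtain ⟨g, rfl⟩ := QuotientGroup.mk'_surjective N g
          obtain ⟨h, hh, n, hn, rfl⟩ := Subgroup.mem_sup_of_normal_right.1 (hsup ▸ Subgroup.mem_top g)
          exact ⟨⟨h, hh⟩, by simp [(QuotientGroup.eq_one_iff n).2 hn]⟩
        have : (TG.subgroupOf H).Normal := Subgroup.normal_in_normalizer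
        have := (IsPGroup.of_equiv hTp
          (Subgroup.subgroupOfEquivOfLe (Subgroup.le_normalizer : TG ≤ H)).symm).isNilpotent
        exact fun h hh y hy => congrArg Subtype.val (mem_center.1
          ((hG.subgroup hHns).solvable_le_center (TG.subgroupOf H) inferInstance
            (x := ⟨y, Subgroup.le_normalizer hy⟩) hy) ⟨h, hh⟩)
    have hmem : ∀ y : N, y ∈ (T : Subgroup N) → (y : G) ∈ TG := fun y hy => ⟨y, hy, rfl⟩
    have hnc : Subgroup.normalizer ((T : Subgroup N) : Set N) ≤
        Subgroup.centralizer ((T : Subgroup N) : Set N) := by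
      intro n hn
      refine Subgroup.mem_centralizer_iff.2 fun y hy => Subtype.ext (hcen n ?_ y (hmem y hy)).symm
      refine Subgroup.mem_normalizer_iff.2 fun z => ⟨?_, ?_⟩
      · rintro ⟨z, hz, rfl⟩
        exact ⟨n * z * n⁻¹, (Subgroup.mem_normalizer_iff.1 hn z).1 hz, rfl⟩
      · rintro ⟨z', hz', he⟩
        exact ⟨n⁻¹ * z' * n, (Subgroup.mem_normalizer_iff.1 hn _).2 (by rw [show n * (n⁻¹ * z' * n) * n⁻¹ = z' by group]; exact hz'),
          by simp only [map_mul, map_inv, Subgroup.subtype_apply] at he ⊢; rw [he]; group⟩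
    have : IsMulCommutative (T : Subgroup N) := ⟨⟨fun a b => Subtype.ext (Subtype.ext
      (hcen _ (Subgroup.le_normalizer (hmem a a.2)) _ (hmem b b.2)))⟩⟩
    have hle : commutator N ≤ (MonoidHom.transferSylow T hnc).ker := by
      rw [commutator_def, Subgroup.commutator_le]
      intro a _ b _
      rw [MonoidHom.mem_ker, map_commutatorElement, commutatorElement_eq_one_iff_mul_comm]
      exact mul_comm' _ _
    exact fun h => MonoidHom.not_dvd_card_ker_transferSylow T hnc
      (h.trans (Subgroup.card_dvd_of_le hle))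
  have h2 : IsPGroup 2 (commutator N) :=
    IsPGroup.of_card (n := (Nat.card (commutator N)).primeFactorsList.length)
      (Nat.eq_prime_pow_of_unique_prime_dvd Nat.card_pos.ne' fun {d} hd hdd =>
        by_contra fun h => key d hd h hdd)
  have : Fact (Nat.Prime 2) := ⟨Nat.prime_two⟩
  have := h2.isNilpotent
  refine hN (CfsgLib.Invol.MetacyclicTwo.solvable_of_extension (commutator N) inferInstance ?_)
  exact Group.isSolvable_of_comm fun a b => @mul_comm (Abelianization N) _ a b

/-- A perfect non-solvable normal subgroup with solvable quotient. -/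
theorem Hyp.exists_perfect (hG : Hyp G) : ∃ L : Subgroup G, L.Normal ∧ ¬ Group.IsSolvable L ∧
    ⁅L, L⁆ = L ∧ commutator L = ⊤ ∧ ∀ [L.Normal], Group.IsSolvable (G ⧸ L) := by
  obtain ⟨L, ⟨hLn, hLs⟩, hmin⟩ := Set.Finite.exists_minimal
    (s := {K : Subgroup G | K.Normal ∧ ¬ Group.IsSolvable K}) (Set.toFinite _)
    ⟨⊤, inferInstance, fun hs => hG.ns (Group.isSolvable_of_surjective
      (f := (⊤ : Subgroup G).subtype) fun g => ⟨⟨g, trivial⟩, rfl⟩)⟩
  have hle : ⁅L, L⁆ ≤ L := Subgroup.commutator_le_left L L
  have hmap : (commutator L).map L.subtype = ⁅L, L⁆ := by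
    rw [commutator_def, Subgroup.map_commutator, ← MonoidHom.range_eq_map, Subgroup.range_subtype]
  have hns : ¬ Group.IsSolvable (⁅L, L⁆ : Subgroup G) := fun hs => hLs <| by
    have : Group.IsSolvable (commutator L) := by
      have := hs
      rw [← hmap] at this
      exact Group.isSolvable_of_isSolvable_injective
        (f := ((commutator L).equivMapOfInjective _ L.subtype_injective).toMonoidHom)
        (MulEquiv.injective _)
    exact CfsgLib.Invol.MetacyclicTwo.solvable_of_extension (commutator L) this
      (Group.isSolvable_of_comm fun a b => @mul_comm (Abelianization L) _ a b)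
  have heq : ⁅L, L⁆ = L := le_antisymm hle (hmin ⟨inferInstance, hns⟩ hle)
  refine ⟨L, hLn, hLs, heq, Subgroup.map_injective L.subtype_injective ?_,
    fun {_} => hG.isSolvable_quotient L hLs⟩
  rw [hmap, heq, ← MonoidHom.range_eq_map, Subgroup.range_subtype]

theorem Hyp.quot_solvable_eq_bot (hG : Hyp G) {N : Subgroup (G ⧸ Z(G))} [N.Normal]
    (hN : Group.IsSolvable N) : N = ⊥ := by
  have : Group.IsSolvable Z(G) := Group.isSolvable_of_comm fun a b => mul_comm' a b
  have hle := hG.solvable_le_center (N.comap (QuotientGroup.mk' Z(G)))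
    (isSolvable_comap inferInstance hN)
  refine eq_bot_iff.2 fun x hx => ?_
  obtain ⟨y, rfl⟩ := QuotientGroup.mk'_surjective _ x
  exact (QuotientGroup.eq_one_iff y).2 (hle hx)

theorem Hyp.quot_not_solvable (hG : Hyp G) : ¬ Group.IsSolvable (G ⧸ Z(G)) := fun h =>
  hG.ns (CfsgLib.Invol.MetacyclicTwo.solvable_of_extension Z(G)
    (Group.isSolvable_of_comm fun a b => mul_comm' a b) h)

theorem Hyp.quot_not_comm (hG : Hyp G) : ¬ IsMulCommutative (G ⧸ Z(G)) := fun h =>
  hG.quot_not_solvable (Group.isSolvable_of_comm fun a b => mul_comm' a b)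

theorem Hyp.quot_simple (hG : Hyp G) (hperf : commutator G = ⊤) : IsSimpleGroup (G ⧸ Z(G)) := by
  have : Nontrivial (G ⧸ Z(G)) := by
    by_contra h
    rw [not_nontrivial_iff_subsingleton] at h
    exact hG.quot_not_comm ⟨⟨fun a b => Subsingleton.elim _ _⟩⟩
  refine ⟨fun N hN => ?_⟩
  by_cases hs : Group.IsSolvable N
  · exact Or.inl (hG.quot_solvable_eq_bot hs)
  · refine Or.inr ?_
    set K := N.comap (QuotientGroup.mk' Z(G))
    have hKs : ¬ Group.IsSolvable K := fun h => hs <| by
      refine Group.isSolvable_of_surjective (G := K)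
        (f := { toFun := fun k => ⟨QuotientGroup.mk' Z(G) k, k.2⟩
                map_one' := Subtype.ext (map_one _)
                map_mul' := fun a b => Subtype.ext (map_mul _ _ _) }) ?_
      rintro ⟨x, hx⟩
      obtain ⟨y, rfl⟩ := QuotientGroup.mk'_surjective _ x
      exact ⟨⟨y, hx⟩, rfl⟩
    obtain ⟨n, hn⟩ := hG.isSolvable_quotient K hKs
    have hperf' : ∀ m, derivedSeries G m = ⊤ := by
      intro m
      induction m with
      | zero => exact derivedSeries_zero G
      | succ m ih => rw [derivedSeries_succ, ih, ← commutator_def, hperf]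
    have htop : (⊤ : Subgroup (G ⧸ K)) = ⊥ := by
      rw [← Subgroup.map_top_of_surjective (QuotientGroup.mk' K) (QuotientGroup.mk'_surjective K),
        ← hperf' n, map_derivedSeries_eq (QuotientGroup.mk'_surjective K), hn]
    rw [eq_top_iff]
    intro x _
    obtain ⟨y, rfl⟩ := QuotientGroup.mk'_surjective _ x
    have : QuotientGroup.mk' K y = 1 := Subgroup.mem_bot.1 (htop ▸ Subgroup.mem_top _)
    exact (QuotientGroup.eq_one_iff y).1 this

theorem Hyp.quot_center (hG : Hyp G) : Subgroup.center (G ⧸ Z(G)) = ⊥ :=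
  hG.quot_solvable_eq_bot (Group.isSolvable_of_comm fun a b => mul_comm' a b)

end CfsgLib.Recog.NonCA
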