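import Cfsg.Agent.Lib.Recog.NonCA.MinimalNormal
import Cfsg.Agent.Lib.Char.Burnside

/-!
Solvable normal subgroups are central.
-/

set_option autoImplicit false
set_option linter.unusedSectionVars false
set_option maxHeartbeats 1000000

namespace CfsgLib.Recog.NonCA

universe u

variable {G : Type u} [Group G] [Finite G]

local notation "cen(" x ")" => Subgroup.centralizer ({x} : Set G)
local notation "Z(G)" => Subgroup.center G

theorem MinNil.false_odd (hG : Hyp G) {U : Subgroup G} {p : ℕ} (h : MinNil U p) (hp2 : p ≠ 2) :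
    False := by
  have : Fact (Nat.Prime 2) := ⟨Nat.prime_two⟩
  have := h.normal
  obtain ⟨P⟩ := (inferInstance : Nonempty (Sylow 2 G))
  have hZ := fun {z : G} (hz : z ∈ Z(G)) (y : G) => mem_center.1 hz y
  have hodd : Odd p := h.prime.odd_of_ne_two hp2
  -- fixed modulo the centre is fixed
  have hexact : ∀ {k a : G}, k ∈ (P : Subgroup G) → a ∈ U → cm k a ∈ Z(G) → k * a = a * k := by
    intro k a hk ha hz
    refine cm_eq_one.1 ?_
    have h1 : cm k a ^ p = 1 := by rw [← cm_pow_right hz, cm_center_right (h.pow a ha)]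
    obtain ⟨j, hj⟩ := (IsPGroup.iff_orderOf.1 P.2) ⟨k, hk⟩
    rw [← Subgroup.orderOf_coe] at hj
    have h2 : cm k a ^ 2 ^ j = 1 := by
      rw [← cm_pow_left hz, ← hj, pow_orderOf_eq_one, cm_center_left (one_mem _)]
    have hcop : Nat.Coprime p (2 ^ j) :=
      Nat.Coprime.pow_right _ ((Nat.coprime_primes h.prime Nat.prime_two).2 hp2)
    exact orderOf_eq_one_iff.1 (Nat.eq_one_of_dvd_coprimes hcop (orderOf_dvd_of_pow_eq_one h1)
      (orderOf_dvd_of_pow_eq_one h2))
  have hPN : ∀ k ∈ (P : Subgroup G), k ∈ triv U → k ∈ Z(G) := fun k hk hkt =>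
    h.mem_center_of_centralizes hG fun a ha => hexact hk ha (hkt a ha)
  set π := QuotientGroup.mk' U
  set H := ((P : Subgroup G).map π).comap π with hH
  have hHne : H ≠ ⊤ := by
    have hm : IsPGroup 2 ((P : Subgroup G).map π) := P.2.map π
    have := hm.isNilpotent
    exact hG.ne_top_of_solvable (isSolvable_comap h.solv inferInstance)
  have hPH : ∀ k ∈ (P : Subgroup G), k ∈ H := fun k hk => Subgroup.mem_map_of_mem π hk
  have hUH : ∀ a ∈ U, a ∈ H := fun a ha => QuotientGroup.le_comap_mk' U _ ha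
  have hmove : ∀ k ∈ (P : Subgroup G), k ∉ triv U → ∃ a ∈ U, a * k ≠ k * a := by
    intro k _ hkt
    by_contra hc
    push Not at hc
    exact hkt fun a ha => by rw [cm_eq_one.2 (hc a ha).symm]; exact one_mem _
  rcases two_dichotomy (fun hs => hG.ns (CfsgLib.Invol.MetacyclicTwo.solvable_of_extension
      (triv U) (h.triv_solvable hG) hs)) P hPN with
    ⟨g, hg, k, hk, hgt, hkt, hgkt, hg2, hk2, hgk⟩ | ⟨τ, hτ, hτt, hτc, a, ha, c, hc, hac⟩
  · obtain ⟨a₁, ha₁, b₁, hb₁, hab⟩ := h.exists_noncomm hG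
    -- fixed points of each involution commute
    have hfix : ∀ i ∈ (P : Subgroup G), i ∉ triv U → ∀ x ∈ U, ∀ y ∈ U, i * x = x * i →
        i * y = y * i → x * y = y * x := by
      intro i hi hit x hx y hy hix hiy
      obtain ⟨w, hw, hwi⟩ := hmove i hi hit
      exact hG.commute_of hHne (hPH i hi) (hUH x hx) (hUH y hy) (hUH w hw) hix.symm hiy.symm hwi
    have hconj : ∀ {i x : G}, x ∈ U → i * x * i⁻¹ ∈ U := fun hx =>
      Subgroup.Normal.conj_mem h.normal _ hx _
    have hroot : ∀ x ∈ U, ∀ y ∈ U, cm x y * cm x y = 1 → cm x y = 1 := by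
      intro x hx y hy h2
      have h1 : cm x y ^ p = 1 := by
        rw [← cm_pow_right (h.comm x hx y hy), cm_center_right (h.pow y hy)]
      exact orderOf_eq_one_iff.1 (Nat.eq_one_of_dvd_coprimes
        ((Nat.coprime_primes h.prime Nat.prime_two).2 hp2) (orderOf_dvd_of_pow_eq_one h1)
        (orderOf_dvd_of_pow_eq_one (by rw [pow_two, h2])))
    -- an involution negates the commutator form in each argument
    have key : ∀ i ∈ (P : Subgroup G), i ∉ triv U → i * i ∈ Z(G) → ∀ x ∈ U, ∀ y ∈ U,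
        cm x (i * y * i⁻¹) = (cm x y)⁻¹ := by
      intro i hi hit hi2 x hx y hy
      have hσσ : ∀ x : G, i * (i * x * i⁻¹) * i⁻¹ = x := fun x => by
        rw [show i * (i * x * i⁻¹) * i⁻¹ = (i * i) * x * (i * i)⁻¹ by group,
          ← hZ hi2 x, mul_inv_cancel_right]
      have hf : ∀ x ∈ U, i * (x * (i * x * i⁻¹)) = x * (i * x * i⁻¹) * i := by
        intro x hx
        refine hexact hi (mul_mem hx (hconj hx)) ?_
        have e : cm i (x * (i * x * i⁻¹)) = cm (i * x * i⁻¹) x := by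
          rw [cm, show i * (x * (i * x * i⁻¹)) * i⁻¹ = (i * x * i⁻¹) * (i * (i * x * i⁻¹) * i⁻¹)
            by group, hσσ, cm]
          group
        rw [e]
        exact h.comm _ (hconj hx) _ hx
      have hfU : ∀ x ∈ U, x * (i * x * i⁻¹) ∈ U := fun x hx => mul_mem hx (hconj hx)
      have hff : cm (x * (i * x * i⁻¹)) (y * (i * y * i⁻¹)) = 1 :=
        cm_eq_one.2 (hfix i hi hit _ (hfU x hx) _ (hfU y hy) (hf x hx) (hf y hy))
      have hinv : ∀ a ∈ U, ∀ b ∈ U, cm (i * a * i⁻¹) (i * b * i⁻¹) = cm a b := fun a ha b hb => by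
        rw [← conj_cm, hZ (h.comm a ha b hb) i, mul_inv_cancel_right]
      have e1 : cm (i * x * i⁻¹) y = cm x (i * y * i⁻¹) := by
        conv_lhs => rw [← hσσ y, hinv x hx _ (hconj hy)]
      rw [cm_mul_left (h.comm _ (hconj hx) _ (hfU y hy)), cm_mul_right (h.comm _ hx _ (hconj hy)),
        cm_mul_right (h.comm _ (hconj hx) _ (hconj hy)), hinv x hx y hy, e1,
        ← hZ (h.comm x hx y hy) (cm x (i * y * i⁻¹))] at hff
      have h2 : cm x (y * (i * y * i⁻¹)) = 1 := by
        refine hroot x hx _ (hfU y hy) ?_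
        rw [cm_mul_right (h.comm _ hx _ (hconj hy))]
        rw [← hZ (h.comm x hx y hy) (cm x (i * y * i⁻¹))]
        exact hff
      rw [cm_mul_right (h.comm _ hx _ (hconj hy))] at h2
      exact eq_inv_of_mul_eq_one_right h2
    refine hab (cm_eq_one.1 (hroot a₁ ha₁ b₁ hb₁ ?_))
    have e := key (g * k) (mul_mem hg hk) hgkt (by
      have e : g * k * (g * k) = (g * g) * (g⁻¹ * k * g * k⁻¹) * (k * k) := by group
      rw [e]
      refine mul_mem (mul_mem hg2 ?_) hk2
      rw [show g⁻¹ * k * g * k⁻¹ = cm g⁻¹ k from by rw [cm]; group, cm_inv_left hgk]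
      exact inv_mem hgk) a₁ ha₁ b₁ hb₁
    have e2 : g * k * b₁ * (g * k)⁻¹ = g * (k * b₁ * k⁻¹) * g⁻¹ := by group
    rw [e2, key g hg hgt hg2 a₁ ha₁ _ (hconj hb₁), key k hk hkt hk2 a₁ ha₁ b₁ hb₁, inv_inv] at e
    exact mul_eq_one_iff_eq_inv.2 e
  · obtain ⟨w, hw, hwτ⟩ := hmove τ hτ hτt
    exact hac (hG.commute_of hHne (hPH τ hτ) (hPH a ha) (hPH c hc) (hUH w hw) (hτc a ha) (hτc c hc) hwτ)

theorem isSolvable_perm_of_card_le_four {W : Type u} [Finite W] (h : Nat.card W ≤ 4) :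
    Group.IsSolvable (Equiv.Perm W) := by
  have := Fintype.ofFinite W
  classical
  obtain ⟨e⟩ : Nonempty (W ↪ Fin 4) := Function.Embedding.nonempty_of_card_le
    (by rwa [Fintype.card_fin, ← Nat.card_eq_fintype_card])
  have : Group.IsSolvable (Equiv.Perm (Fin 4)) :=
    CfsgLib.Char.burnside_pq 2 3 Nat.prime_two Nat.prime_three 3 1 _
      (by rw [Nat.card_perm, Nat.card_fin]; rfl)
  exact Group.isSolvable_of_isSolvable_injective (f := Equiv.Perm.viaEmbeddingHom e)
    (Equiv.Perm.viaEmbeddingHom_injective e)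

theorem MinNil.false_two (hG : Hyp G) {U : Subgroup G} (h : MinNil U 2) : False := by
  have : Fact (Nat.Prime 2) := ⟨Nat.prime_two⟩
  have := h.normal
  have hZ := fun {z : G} (hz : z ∈ Z(G)) (y : G) => mem_center.1 hz y
  have hconj : ∀ {i x : G}, x ∈ U → i * x * i⁻¹ ∈ U := fun hx =>
    Subgroup.Normal.conj_mem h.normal _ hx _
  have hsqU : ∀ x ∈ U, x * x ∈ Z(G) := fun x hx => pow_two x ▸ h.pow x hx
  set K := triv U
  have hKns : ¬ Group.IsSolvable (G ⧸ K) := fun hs =>
    hG.ns (CfsgLib.Invol.MetacyclicTwo.solvable_of_extension K (h.triv_solvable hG) hs)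
  obtain ⟨gb, hgb⟩ := exists_prime_orderOf_dvd_card' (G := G ⧸ K) 2 (by
    by_contra h2
    exact hKns (CfsgLib.FT.odd_order_solvable
      (Nat.not_even_iff_odd.1 fun he => h2 (even_iff_two_dvd.1 he))))
  obtain ⟨g, rfl⟩ := QuotientGroup.mk'_surjective K gb
  have hgK : g ∉ K := fun hm => by
    rw [show QuotientGroup.mk' K g = 1 from (QuotientGroup.eq_one_iff g).2 hm, orderOf_one] at hgb
    exact absurd hgb (by norm_num)
  have hg2 : g * g ∈ K := (QuotientGroup.eq_one_iff _).1 (by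
    rw [← QuotientGroup.mk'_apply, map_mul, ← pow_two]
    exact orderOf_dvd_iff_pow_eq_one.1 (dvd_of_eq hgb))
  -- the elements `l = [g, u]`
  have hl : ∀ {g : G}, g * g ∈ K → ∀ u ∈ U, cm g u ∈ U ∧ cm g (cm g u) ∈ Z(G) := by
    intro g hg2 u hu
    have hlU : cm g u ∈ U := mul_mem (hconj hu) (inv_mem hu)
    refine ⟨hlU, ?_⟩
    have e : cm g (cm g u) = cm (g * g) u * (cm g u * cm g u)⁻¹ := by simp only [cm]; group
    rw [e]
    exact mul_mem (hg2 u hu) (inv_mem (hsqU _ hlU))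
  have hfixl : ∀ {g : G}, ∀ x ∈ U, cm g x ∈ Z(G) → ∀ u ∈ U, cm x (cm g u) = 1 := by
    intro g x hx hz u hu
    have h1 : cm (g * x * g⁻¹) (g * u * g⁻¹) = cm x u := by
      rw [← conj_cm, hZ (h.comm x hx u hu) g, mul_inv_cancel_right]
    have hlU : cm g u ∈ U := mul_mem (hconj hu) (inv_mem hu)
    rw [← cm_mul g x, ← cm_mul g u,
      cm_mul_left (h.comm x hx _ (mul_mem hlU hu)), cm_center_left hz, one_mul,
      cm_mul_right (h.comm x hx u hu)] at h1
    exact mul_eq_right.1 h1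
  have hsq_l : ∀ {g : G}, ∀ u ∈ U, cm g u * cm g u = cm (cm g u) u := by
    intro g u hu
    have hlU : cm g u ∈ U := mul_mem (hconj hu) (inv_mem hu)
    set l := cm g u
    have e : (l * u) * (l * u) = u * u := by
      rw [cm_mul g u, show g * u * g⁻¹ * (g * u * g⁻¹) = g * (u * u) * g⁻¹ by group,
        hZ (hsqU u hu) g, mul_inv_cancel_right]
    have e2 : l * u * (l * u) = cm u l * (l * l) * (u * u) := by
      calc l * u * (l * u) = (l * cm u l) * (l * u * u) := by rw [cm]; group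
        _ = (cm u l * l) * (l * u * u) := by rw [hZ (h.comm u hu l hlU) l]
        _ = _ := by group
    rw [e2] at e
    have e3 : cm u l * (l * l) = 1 := mul_eq_right.1 e
    rw [← cm_inv u l]
    exact eq_inv_of_mul_eq_one_right e3
  -- an element of order two modulo `K` centralising a non-central element of `U`
  obtain ⟨t, htK, ht2, x₀, hx₀, hx₀Z, htx⟩ :
      ∃ t : G, t ∉ K ∧ t * t ∈ K ∧ ∃ x ∈ U, x ∉ Z(G) ∧ t * x = x * t := by
    obtain ⟨u, hu, huZ⟩ : ∃ u ∈ U, cm g u ∉ Z(G) := by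
      by_contra hc
      push Not at hc
      exact hgK hc
    obtain ⟨hlU, hlz⟩ := hl hg2 u hu
    set l := cm g u with hldef
    set c := g * g with hc
    have hcl : c * l = l * c := by
      have h2 : cm g l * cm g l = 1 := by
        rw [← cm_mul_right hlz, cm_center_right (hsqU l hlU)]
      calc c * l = g * (g * l * g⁻¹) * g⁻¹ * c := by rw [hc]; group
        _ = (g * cm g l) * l * g⁻¹ * c := by rw [← cm_mul g l]; group
        _ = cm g l * (g * l * g⁻¹) * c := by rw [hZ hlz g]; group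
        _ = l * c := by rw [← cm_mul g l, ← mul_assoc (cm g l), h2, one_mul]
    by_cases hcZ : c ∈ Z(G)
    · refine ⟨u * g, fun hm => hgK ?_, ?_, l, hlU, huZ, ?_⟩
      · simpa using mul_mem (inv_mem (h.le_triv hu)) hm
      · rw [show u * g * (u * g) = u * (g * u * g⁻¹) * c by rw [hc]; group]
        exact mul_mem (h.le_triv (mul_mem hu (hconj hu))) hg2
      · have e : cm g l = cm (g * g) u * (l * l)⁻¹ := by rw [hldef]; simp only [cm]; group
        rw [cm_center_left hcZ, one_mul] at e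
        have hll : l * l = cm l u := hsq_l u hu
        refine cm_eq_one.1 ?_
        rw [cm_mul_left hlz, e, ← cm_inv l u, ← hll, ← mul_inv_rev, inv_eq_one]
        calc l * l * (l * l) = cm l (u * u) := by
              rw [cm_mul_right (h.comm l hlU u hu), ← hll]
          _ = 1 := cm_center_right (hsqU u hu)
    · refine ⟨g, hgK, hg2, l, hlU, huZ, ?_⟩
      exact commute_of_not_bad (h.not_bad_triv hG hg2) hcZ (by rw [hc, mul_assoc]) hcl.symm
  set L : Subgroup G := U ⊓ cen(x₀) with hL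
  have hLc : ∀ a ∈ L, ∀ b ∈ L, a * b = b * a := fun a ha b hb =>
    commute_of_not_bad (h.not_bad hG hx₀) hx₀Z (mem_cen.1 ha.2) (mem_cen.1 hb.2)
  have htL : ∀ a ∈ L, t * a = a * t := fun a ha =>
    commute_of_not_bad (h.not_bad hG hx₀) hx₀Z htx (mem_cen.1 ha.2)
  have hlL : ∀ u ∈ U, cm t u ∈ L := fun u hu =>
    ⟨(hl ht2 u hu).1, mem_cen.2 (cm_eq_one.1 (hfixl x₀ hx₀ (by
      rw [cm_eq_one.2 htx]; exact one_mem _) u hu)).symm⟩
  -- `[t, u]` is constant modulo the centre outside `L`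
  have hconst : ∀ u ∈ U, u ∉ L → (cm t u)⁻¹ * (t * t) ∈ Z(G) := by
    intro u hu huL
    set l := cm t u with hldef
    set k := l⁻¹ * (t * t) with hk
    have hlLu : l ∈ L := hlL u hu
    by_contra hkZ
    have hkK : k ∈ K := mul_mem (inv_mem (h.le_triv hlLu.1)) ht2
    have e1 : cm (t * t) u = l * l := by
      have e : cm t l = cm (t * t) u * (l * l)⁻¹ := by rw [hldef]; simp only [cm]; group
      rw [cm_eq_one.2 (htL l hlLu)] at e
      exact mul_inv_eq_one.1 e.symm
    have hku : k * u = u * k := by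
      refine cm_eq_one.1 ?_
      rw [hk, cm_mul_left (ht2 u hu), cm_inv_left (h.comm l hlLu.1 u hu), e1, hldef, hsq_l u hu,
        inv_mul_cancel]
    have hkx : k * x₀ = x₀ * k := by
      have h1 : t * t * x₀ = x₀ * (t * t) := by
        rw [mul_assoc, htx, ← mul_assoc, htx, mul_assoc]
      have h2 : l⁻¹ * x₀ = x₀ * l⁻¹ := mem_cen.1 (inv_mem hlLu.2)
      rw [hk, mul_assoc, h1, ← mul_assoc, h2, mul_assoc]
    exact huL ⟨hu, mem_cen.2 (commute_of_not_bad (h.not_bad_triv hG hkK) hkZ hku.symm hkx.symm)⟩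
  have hfix : ∀ u ∈ U, cm t u ∈ Z(G) → u ∈ L := by
    intro u hu hz
    by_contra huL
    -- then every `[t, v]` is central
    refine htK fun v hv => ?_
    by_cases hvL : v ∈ L
    · rw [cm_eq_one.2 (htL v hvL)]; exact one_mem _
    · have h1 := hconst v hv hvL
      have h2 := hconst u hu huL
      have h3 : t * t ∈ Z(G) := by simpa using mul_mem hz h2
      have := mul_mem h3 (inv_mem h1)
      simpa [mul_assoc] using this
  have hindex : ∀ u ∈ U, ∀ v ∈ U, u ∉ L → v ∉ L → u * v ∈ L := by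
    intro u hu v hv huL hvL
    by_contra huv
    refine huL (hfix u hu ?_)
    have h1 := hconst u hu huL
    have h2 := hconst v hv hvL
    have h3 := hconst _ (mul_mem hu hv) huv
    obtain ⟨hlU, -⟩ := hl ht2 v hv
    have e : cm t (u * v) = cm t u * (cm u (cm t v) * cm t v) := by simp only [cm]; group
    rw [e] at h3
    have hcu := h.comm u hu _ hlU
    set a := cm t u
    set b := cm t v
    set c := t * t
    set zz := cm u b
    -- `a ≡ c`, `b ≡ c`, `a b ≡ c`
    have hb : b ∈ Z(G) := by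
      have e2 : b = zz⁻¹ * ((a⁻¹ * c) * ((a * (zz * b))⁻¹ * c)⁻¹) := by group
      rw [e2]
      exact mul_mem (inv_mem hcu) (mul_mem h1 (inv_mem h3))
    have hcZ : c ∈ Z(G) := by simpa using mul_mem hb h2
    have := mul_mem hcZ (inv_mem h1)
    simpa using this
  -- `L` and a conjugate of `L`
  obtain ⟨a₁, ha₁, b₁, hb₁, hab⟩ := h.exists_noncomm hG
  obtain ⟨d, hd⟩ : ∃ d : G, ∃ y ∈ L, d * y * d⁻¹ ∉ L := by
    by_contra hc
    push Not at hc
    have : L.Normal := ⟨fun y hy d => hc d y hy⟩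
    exact hx₀Z (hG.abelian_le_center L hLc ⟨hx₀, self_mem_cen x₀⟩)
  obtain ⟨y₀, hy₀L, hy₀⟩ := hd
  set M : Subgroup G := L.map (MulAut.conj d).toMonoidHom with hM
  have hMU : M ≤ U := by
    rintro _ ⟨y, hy, rfl⟩
    exact hconj hy.1
  have hMc : ∀ a ∈ M, ∀ b ∈ M, a * b = b * a := by
    rintro _ ⟨a, ha, rfl⟩ _ ⟨b, hb, rfl⟩
    rw [← map_mul, ← map_mul, hLc a ha b hb]
  have hy : d * y₀ * d⁻¹ ∈ M := ⟨y₀, hy₀L, rfl⟩
  set y := d * y₀ * d⁻¹ with hydef
  have hmeet : ∀ w ∈ L, w ∈ M → w ∈ Z(G) := by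
    intro w hwL hwM
    by_contra hwZ
    exact hy₀ ⟨hMU hy, mem_cen.2 (commute_of_not_bad (h.not_bad hG hwL.1) hwZ (hMc y hy w hwM)
      (hLc x₀ ⟨hx₀, self_mem_cen x₀⟩ w hwL))⟩
  have hMidx : ∀ a ∈ U, ∀ b ∈ U, a ∉ M → b ∉ M → a * b ∈ M := by
    intro a ha b hb haM hbM
    have hmem : ∀ {x : G}, x ∈ M ↔ d⁻¹ * x * d ∈ L := fun {x} => by
      constructor
      · rintro ⟨w, hw, rfl⟩; simpa [mul_assoc] using hw
      · exact fun hw => ⟨_, hw, by simp [mul_assoc]⟩
    rw [hmem] at haM hbM ⊢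
    have := hindex _ (by simpa using hconj (i := d⁻¹) ha) _ (by simpa using hconj (i := d⁻¹) hb) haM hbM
    simpa [mul_assoc] using this
  -- at most four classes modulo the centre
  have hxL : x₀ ∈ L := ⟨hx₀, self_mem_cen x₀⟩
  have hLcls : ∀ w ∈ L, w ∈ Z(G) ∨ x₀⁻¹ * w ∈ Z(G) := by
    intro w hw
    by_cases hwM : w ∈ M
    · exact Or.inl (hmeet w hw hwM)
    · refine Or.inr (hmeet _ (mul_mem (inv_mem hxL) hw)
        (hMidx _ (inv_mem hx₀) _ hw.1 (fun hm => hx₀Z (hmeet x₀ hxL ?_)) hwM))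
      simpa using inv_mem hm
  have hcls : ∀ u ∈ U, u ∈ Z(G) ∨ x₀⁻¹ * u ∈ Z(G) ∨ y⁻¹ * u ∈ Z(G) ∨ (y * x₀)⁻¹ * u ∈ Z(G) := by
    intro u hu
    by_cases huL : u ∈ L
    · rcases hLcls u huL with h1 | h1 <;> simp [h1]
    · have hyL : y⁻¹ ∉ L := fun hm => hy₀ (by simpa using inv_mem hm)
      rcases hLcls _ (hindex _ (inv_mem (hMU hy)) u hu hyL huL) with h1 | h1
      · exact Or.inr (Or.inr (Or.inl h1))
      · exact Or.inr (Or.inr (Or.inr (by rwa [mul_inv_rev, mul_assoc])))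
  set π := QuotientGroup.mk' Z(G)
  have : (U.map π).Normal := h.normal.map π (QuotientGroup.mk'_surjective _)
  have hcard : Nat.card (U.map π) ≤ 4 := by
    let f : Fin 4 → (U.map π) := ![1, ⟨π x₀, Subgroup.mem_map_of_mem π hx₀⟩,
      ⟨π y, Subgroup.mem_map_of_mem π (hMU hy)⟩,
      ⟨π (y * x₀), Subgroup.mem_map_of_mem π (mul_mem (hMU hy) hx₀)⟩]
    have hf : Function.Surjective f := by
      rintro ⟨_, u, hu, rfl⟩
      rcases hcls u hu with h1 | h1 | h1 | h1
      · exact ⟨0, Subtype.ext ((QuotientGroup.eq_one_iff u).2 h1).symm⟩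
      · exact ⟨1, Subtype.ext (QuotientGroup.eq.2 h1)⟩
      · exact ⟨2, Subtype.ext (QuotientGroup.eq.2 h1)⟩
      · exact ⟨3, Subtype.ext (QuotientGroup.eq.2 h1)⟩
    simpa using Nat.card_le_card_of_surjective f hf
  let φ : G →* Equiv.Perm (U.map π) :=
    (MulAut.toPerm _).comp ((MulAut.conjNormal (H := U.map π)).comp π)
  have := isSolvable_perm_of_card_le_four hcard
  have := h.triv_solvable hG
  refine hG.ns (Group.isSolvable_of_ker_le_range (triv U).subtype φ fun g hg => ?_)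
  refine ⟨⟨g, fun a ha => ?_⟩, rfl⟩
  have h1 : φ g ⟨π a, Subgroup.mem_map_of_mem π ha⟩ = ⟨π a, Subgroup.mem_map_of_mem π ha⟩ := by
    rw [MonoidHom.mem_ker.1 hg]; rfl
  have h2 : π g * π a * (π g)⁻¹ = π a := by
    exact congrArg Subtype.val h1
  refine (QuotientGroup.eq_one_iff _).1 ?_
  rw [← QuotientGroup.mk'_apply, cm, map_mul, map_mul, map_mul, map_inv, map_inv, h2,
    mul_inv_cancel]

/-- **Solvable normal subgroups are central.** -/
theorem Hyp.solvable_le_center (hG : Hyp G) (N : Subgroup G) [N.Normal]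
    (hN : Group.IsSolvable N) : N ≤ Z(G) := by
  by_contra hne
  obtain ⟨U, p, h, -⟩ := hG.exists_minNil N hN hne
  rcases eq_or_ne p 2 with rfl | hp
  · exact h.false_two hG
  · exact h.false_odd hG hp

end CfsgLib.Recog.NonCA
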