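import Cfsg.Agent.Lib.Recog.NonCA.Fusion

/-!
A bad centraliser containing a Sylow 2-subgroup cannot be strongly embedded modulo the centre;
in particular bad elements centralise no non-abelian 2-subgroup.
-/

set_option autoImplicit false
set_option linter.unusedSectionVars false
set_option maxHeartbeats 1000000

namespace CfsgLib.Recog.NonCA

universe u

variable {G : Type u} [Group G] [Finite G]

local notation "Z(G)" => Subgroup.center G
local notation "cen(" x ")" => Subgroup.centralizer ({x} : Set G)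

theorem mem_normalizer_cen_of_mod {g v : G} (h : g * v * g⁻¹ * v⁻¹ ∈ Z(G)) :
    g ∈ Subgroup.normalizer (cen(v) : Set G) := by
  have hz := mem_center.1 h
  have key : ∀ c, g * c * g⁻¹ ∈ cen(g * v * g⁻¹) ↔ c ∈ cen(v) := fun c => by
    rw [mem_cen, mem_cen,
      show g * c * g⁻¹ * (g * v * g⁻¹) = g * (c * v) * g⁻¹ by group,
      show g * v * g⁻¹ * (g * c * g⁻¹) = g * (v * c) * g⁻¹ by group]
    exact ⟨fun e => mul_left_cancel (mul_right_cancel e), fun e => by rw [e]⟩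
  have he : cen(g * v * g⁻¹) = cen(v) := by
    set ζ := g * v * g⁻¹ * v⁻¹ with hζ
    have e : g * v * g⁻¹ = ζ * v := by rw [hζ]; group
    ext c
    rw [mem_cen, mem_cen, e, ← mul_assoc, hz c, mul_assoc ζ c v, mul_assoc ζ v c]
    exact ⟨fun e' => mul_left_cancel e', fun e' => by rw [e']⟩
  refine Subgroup.mem_normalizer_iff.2 fun c => ?_
  rw [← key c, he]

theorem exists_two_lift {t : G ⧸ Z(G)} (ht : t * t = 1) (ht1 : t ≠ 1) :
    ∃ v : G, (v : G ⧸ Z(G)) = t ∧ v ∉ Z(G) ∧ v * v ∈ Z(G) ∧ ∃ k, v ^ 2 ^ k = 1 := by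
  obtain ⟨g, rfl⟩ := QuotientGroup.mk_surjective t
  obtain ⟨k, m, hm, hkm⟩ := Nat.exists_eq_two_pow_mul_odd (orderOf_pos g).ne'
  obtain ⟨j, rfl⟩ := hm
  have e : ((g ^ (2 * j + 1) : G) : G ⧸ Z(G)) = g := by
    rw [QuotientGroup.mk_pow, pow_succ, pow_mul, pow_two, ht, one_pow, one_mul]
  refine ⟨g ^ (2 * j + 1), e, fun h => ht1 ?_, ?_, k, ?_⟩
  · rw [← e]; exact (QuotientGroup.eq_one_iff _).2 h
  · refine (QuotientGroup.eq_one_iff _).1 ?_
    rw [QuotientGroup.mk_mul, e, ht]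
  · rw [← pow_mul, mul_comm, ← hkm, pow_orderOf_eq_one]

theorem exists_conj_mem_sylow (P : Sylow 2 G) {v : G} {k : ℕ} (hk : v ^ 2 ^ k = 1) :
    ∃ h : G, h⁻¹ * v * h ∈ (P : Subgroup G) := by
  have : Fact (Nat.Prime 2) := ⟨Nat.prime_two⟩
  have hv : IsPGroup 2 (Subgroup.zpowers v) := by
    obtain ⟨n, -, hn⟩ := (Nat.dvd_prime_pow Nat.prime_two).1 (orderOf_dvd_of_pow_eq_one hk)
    exact IsPGroup.of_card (n := n) (by rw [Nat.card_zpowers, hn])
  obtain ⟨Q, hQ⟩ := hv.exists_le_sylow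
  obtain ⟨h, rfl⟩ := MulAction.exists_smul_eq G P Q
  have hm := hQ (Subgroup.mem_zpowers v)
  rw [Sylow.coe_subgroup_smul, Subgroup.pointwise_smul_def] at hm
  obtain ⟨p, hp, rfl⟩ := Subgroup.mem_map.1 hm
  exact ⟨h, by simpa [mul_assoc] using hp⟩

theorem Hyp.oddCore_quot (hG : Hyp G) : Cfsg.oddCore (G ⧸ Z(G)) = ⊥ := by
  have : (Cfsg.oddCore (G ⧸ Z(G))).Normal := CfsgLib.Solvable.pPrimeCore_normal 2 _
  exact hG.quot_solvable_eq_bot
    (CfsgLib.FT.odd_order_solvable (CfsgLib.Invol.odd_card_oddCore _))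

theorem Hyp.exists_involution (hG : Hyp G) : ∃ t : G ⧸ Z(G), t * t = 1 ∧ t ≠ 1 := by
  have : Fact (Nat.Prime 2) := ⟨Nat.prime_two⟩
  have hd : 2 ∣ Nat.card (G ⧸ Z(G)) := even_iff_two_dvd.1 (Nat.not_odd_iff_even.1 fun h =>
    hG.quot_not_solvable (CfsgLib.FT.odd_order_solvable h))
  obtain ⟨t, ht⟩ := exists_prime_orderOf_dvd_card' 2 hd
  exact ⟨t, by rw [← pow_two, ← ht, pow_orderOf_eq_one], fun e => by simp [e] at ht⟩

theorem Hyp.no_strong (hG : Hyp G) {x : G} (hx : Bad x) (P : Sylow 2 G)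
    (hP : (P : Subgroup G) ≤ cen(x)) (hno : ∀ y : G, Bad y → ∀ k : ℕ, y ^ 2 ^ k ≠ 1)
    (hkey : ∀ v ∈ cen(x), v ∉ Z(G) → v * v ∈ Z(G) → (∃ k, v ^ 2 ^ k = 1) →
      Subgroup.normalizer (cen(v) : Set G) ≤ cen(x) ∧
      ¬ IsMulCommutative (Subgroup.normalizer (cen(v) : Set G))) : False := by
  classical
  set M := cen(x) with hM
  -- the lifts of involutions behave as in a strongly embedded subgroup
  have hmod : ∀ v ∈ M, v ∉ Z(G) → v * v ∈ Z(G) → (∃ k, v ^ 2 ^ k = 1) → ∀ g : G,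
      g * v * g⁻¹ * v⁻¹ ∈ Z(G) → g ∈ M := fun v hv hvz hv2 hk g h =>
    (hkey v hv hvz hv2 hk).1 (mem_normalizer_cen_of_mod h)
  have hconj : ∀ v ∈ M, v ∉ Z(G) → v * v ∈ Z(G) → (∃ k, v ^ 2 ^ k = 1) → ∀ g : G,
      g * v * g⁻¹ ∈ M → g ∈ M := by
    intro v hv hvz hv2 hk g hg
    by_contra hgM
    obtain ⟨k, hk⟩ := hk
    set v' := g * v * g⁻¹ with hv'
    set x' := g * x * g⁻¹ with hx'
    have hv'2 : v' * v' = v * v := by
      rw [hv', show g * v * g⁻¹ * (g * v * g⁻¹) = g * (v * v) * g⁻¹ by group, mem_center.1 hv2 g,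
        mul_inv_cancel_right]
    obtain ⟨hle, hnc⟩ := hkey v' hg (conj_notMem_center hvz) (hv'2 ▸ hv2)
      ⟨k, by rw [hv', conj_pow, hk, mul_one, mul_inv_cancel]⟩
    have hx'v : x' ∈ cen(v') := by
      refine mem_cen.2 ?_
      rw [hx', hv', show g * x * g⁻¹ * (g * v * g⁻¹) = g * (x * v) * g⁻¹ by group,
        show g * v * g⁻¹ * (g * x * g⁻¹) = g * (v * x) * g⁻¹ by group, mem_cen.1 hv]
    have hx'M : x' ∈ M := hle (Subgroup.le_normalizer hx'v)
    have hne : cen(x) ≠ cen(x') := fun e => hgM (hx.mem_of_cen_conj_eq hG e.symm)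
    have hH' : Subgroup.normalizer (cen(v') : Set G) ≤ cen(x') := by
      have hle0 := (hkey v hv hvz hv2 ⟨k, hk⟩).1
      intro h hh
      rw [hx', cen_conj]
      refine Subgroup.mem_map.2 ⟨g⁻¹ * h * g, hle0 ?_, by simp [mul_assoc]⟩
      refine Subgroup.mem_normalizer_iff.2 fun c => ?_
      have h1 := Subgroup.mem_normalizer_iff.1 hh (g * c * g⁻¹)
      have h2 : ∀ c, g * c * g⁻¹ ∈ cen(v') ↔ c ∈ cen(v) := fun c => by
        rw [hv', cen_conj]
        exact ⟨fun hc => by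
          obtain ⟨d, hd, he⟩ := Subgroup.mem_map.1 hc
          simp only [MulEquiv.coe_toMonoidHom, MulAut.conj_apply] at he
          rwa [← mul_left_cancel (mul_right_cancel he)],
          fun hc => Subgroup.mem_map.2 ⟨c, hc, rfl⟩⟩
      rw [h2, show h * (g * c * g⁻¹) * h⁻¹ =
        g * ((g⁻¹ * h * g) * c * (g⁻¹ * h * g)⁻¹) * g⁻¹ by group, h2] at h1
      exact h1
    exact hnc (comm_iff.2 fun a ha b hb =>
      hx.inf_comm hG (hx.conj g) hx'M hne (hle ha) (hH' ha) (hle hb) (hH' hb))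
  set π := QuotientGroup.mk' Z(G)
  have hπ : ∀ g : G, π g = (g : G ⧸ Z(G)) := fun _ => rfl
  set Mb := M.map π with hMb
  have hZM : Z(G) ≤ M := Subgroup.center_le_centralizer _
  have hback : ∀ g : G, (g : G ⧸ Z(G)) ∈ Mb ↔ g ∈ M := fun g => by
    rw [← hπ, hMb, ← Subgroup.mem_comap, Subgroup.comap_map_eq, QuotientGroup.ker_mk',
      sup_of_le_left hZM]
  let I := {t : G ⧸ Z(G) // t * t = 1 ∧ t ≠ 1}
  let IM := {t : I // t.1 ∈ Mb}
  have hcen : ∀ t : G ⧸ Z(G), t * t = 1 → t ≠ 1 → t ∈ Mb → ∀ q, q * t = t * q → q ∈ Mb := by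
    intro t ht ht1 htM q hq
    obtain ⟨v, rfl, hvz, hv2, hk⟩ := exists_two_lift ht ht1
    obtain ⟨g, rfl⟩ := QuotientGroup.mk_surjective q
    refine (hback g).2 (hmod v ((hback v).1 htM) hvz hv2 hk g ((QuotientGroup.eq_one_iff _).1 ?_))
    simp only [QuotientGroup.mk_mul, QuotientGroup.mk_inv]
    rw [hq, mul_inv_cancel_right, mul_inv_cancel]
  have hsi : ∀ (t : G ⧸ Z(G)), t * t = 1 → ∀ h, h * t * h⁻¹ * (h * t * h⁻¹) = 1 :=
    fun t ht h => by
      rw [show h * t * h⁻¹ * (h * t * h⁻¹) = h * (t * t) * h⁻¹ by group, ht, mul_one,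
        mul_inv_cancel]
  have hne1 : ∀ (t : G ⧸ Z(G)), t ≠ 1 → ∀ h, h * t * h⁻¹ ≠ 1 := fun t ht h e =>
    ht (conj_eq_one_iff.1 e)
  -- every involution lies in exactly one conjugate of `Mb`
  let f : ((G ⧸ Z(G)) ⧸ Mb) × IM → I := fun p =>
    ⟨p.1.out * p.2.1.1 * p.1.out⁻¹, hsi _ p.2.1.2.1 _, hne1 _ p.2.1.2.2 _⟩
  have hf : Function.Bijective f := by
    constructor
    · rintro ⟨q, t⟩ ⟨q', t'⟩ e
      have e' : q.out * t.1.1 * q.out⁻¹ = q'.out * t'.1.1 * q'.out⁻¹ := congrArg Subtype.val e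
      set h := q'.out⁻¹ * q.out with hh
      have hh' : h * t.1.1 * h⁻¹ = t'.1.1 := by
        calc h * t.1.1 * h⁻¹ = q'.out⁻¹ * (q.out * t.1.1 * q.out⁻¹) * q'.out := by rw [hh]; group
          _ = t'.1.1 := by rw [e']; group
      have hhM : h ∈ Mb := by
        obtain ⟨v, hv, hvz, hv2, hk⟩ := exists_two_lift t.1.2.1 t.1.2.2
        obtain ⟨g, hg⟩ := QuotientGroup.mk_surjective h
        rw [← hg]
        refine (hback g).2 (hconj v ((hback v).1 (by rw [hv]; exact t.2)) hvz hv2 hk g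
          ((hback _).1 ?_))
        rw [QuotientGroup.mk_mul, QuotientGroup.mk_mul, QuotientGroup.mk_inv, hg, hv, hh']
        exact t'.2
      have hq : q = q' := by
        rw [← QuotientGroup.out_eq' q, ← QuotientGroup.out_eq' q']
        exact (QuotientGroup.eq.2 hhM).symm
      subst hq
      exact Prod.ext rfl (Subtype.ext (Subtype.ext (mul_left_cancel (mul_right_cancel e'))))
    · rintro ⟨t, ht, ht1⟩
      obtain ⟨v, rfl, hvz, hv2, k, hk⟩ := exists_two_lift ht ht1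
      obtain ⟨h, hh⟩ := exists_conj_mem_sylow P hk
      set hb : G ⧸ Z(G) := (h : G ⧸ Z(G)) with hhb
      set q : (G ⧸ Z(G)) ⧸ Mb := (hb : (G ⧸ Z(G)) ⧸ Mb) with hq
      obtain ⟨m, hm⟩ := QuotientGroup.mk_out_eq_mul Mb hb
      have h1 : hb⁻¹ * (v : G ⧸ Z(G)) * hb ∈ Mb := by
        rw [hhb, ← QuotientGroup.mk_inv, ← QuotientGroup.mk_mul, ← QuotientGroup.mk_mul]
        exact (hback _).2 (hP hh)
      have h2 : (m : G ⧸ Z(G))⁻¹ * (hb⁻¹ * (v : G ⧸ Z(G)) * hb) * m ∈ Mb :=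
        mul_mem (mul_mem (inv_mem m.2) h1) m.2
      refine ⟨⟨q, ⟨⟨q.out⁻¹ * (v : G ⧸ Z(G)) * q.out, ?_, ?_⟩, ?_⟩⟩,
        Subtype.ext (by simp only [f]; group)⟩
      · simpa using hsi _ ht q.out⁻¹
      · simpa using hne1 _ ht1 q.out⁻¹
      · rw [hq, hm]
        simpa [mul_assoc, mul_inv_rev] using h2
  -- the involutions of a coset
  have hJ : ∀ g : G, g ∉ M → g * g ∈ Z(G) → ∀ U : G, U ∈ M → U ∉ Z(G) →
      g * U * g⁻¹ * U ∈ Z(G) →
      (U * U ∉ Z(G)) ∧ g⁻¹ * x * g ∈ M ∧ U ∈ cen(g⁻¹ * x * g) := by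
    intro g hg hg2 U hU hUz hinv
    have hUU : U * U ∉ Z(G) := by
      intro h2
      obtain ⟨v, hv, hvz, hv2, hk⟩ := exists_two_lift (t := (U : G ⧸ Z(G)))
        (by rw [← QuotientGroup.mk_mul]; exact (QuotientGroup.eq_one_iff _).2 h2)
        (fun e => hUz ((QuotientGroup.eq_one_iff U).1 e))
      refine hg ((hback g).1 (hcen (U : G ⧸ Z(G)) ?_ ?_ ((hback U).2 hU) _ ?_))
      · rw [← QuotientGroup.mk_mul]; exact (QuotientGroup.eq_one_iff _).2 h2
      · exact fun e => hUz ((QuotientGroup.eq_one_iff U).1 e)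
      · have h1 : (g : G ⧸ Z(G)) * U * (g : G ⧸ Z(G))⁻¹ * U = 1 := by
          rw [← QuotientGroup.mk_inv, ← QuotientGroup.mk_mul, ← QuotientGroup.mk_mul,
            ← QuotientGroup.mk_mul]
          exact (QuotientGroup.eq_one_iff _).2 hinv
        have h3 : (U : G ⧸ Z(G))⁻¹ = U := inv_eq_of_mul_eq_one_right (by
          rw [← QuotientGroup.mk_mul]; exact (QuotientGroup.eq_one_iff _).2 h2)
        rw [mul_eq_one_iff_eq_inv, h3, mul_inv_eq_iff_eq_mul] at h1
        exact h1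
    have hgN : g ∈ Subgroup.normalizer (cen(U) : Set G) := by
      have he : cen(U⁻¹) = cen(U) := by
        ext c; rw [mem_cen, mem_cen]
        exact ⟨fun e => by simpa using (show Commute c U⁻¹ from e).inv_right.eq,
          fun e => (show Commute c U from e).inv_right.eq⟩
      have h' : g * U⁻¹ * g⁻¹ * U⁻¹ ∈ Z(G) := by
        have := inv_mem hinv
        rw [mul_inv_rev, mul_inv_rev, mul_inv_rev, inv_inv] at this
        have h4 := (inferInstance : (Z(G)).Normal).conj_mem _ this U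
        rw [show U * (U⁻¹ * (g * (U⁻¹ * g⁻¹))) * U⁻¹ = g * U⁻¹ * g⁻¹ * U⁻¹ by group] at h4
        exact h4
      have key : ∀ c, g * c * g⁻¹ ∈ cen(g * U⁻¹ * g⁻¹) ↔ c ∈ cen(U⁻¹) := fun c => by
        rw [mem_cen, mem_cen,
          show g * c * g⁻¹ * (g * U⁻¹ * g⁻¹) = g * (c * U⁻¹) * g⁻¹ by group,
          show g * U⁻¹ * g⁻¹ * (g * c * g⁻¹) = g * (U⁻¹ * c) * g⁻¹ by group]
        exact ⟨fun e => mul_left_cancel (mul_right_cancel e), fun e => by rw [e]⟩
      have he2 : cen(g * U⁻¹ * g⁻¹) = cen(U) := by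
        ext c
        rw [mem_cen, mem_cen,
          show g * U⁻¹ * g⁻¹ = (g * U⁻¹ * g⁻¹ * U⁻¹) * U by group, ← mul_assoc,
          mem_center.1 h' c, mul_assoc _ c U, mul_assoc _ U c]
        exact ⟨fun e => mul_left_cancel e, fun e => by rw [e]⟩
      refine Subgroup.mem_normalizer_iff.2 fun c => ?_
      rw [← he, ← key c, he2, he]
    have hgood : ¬ Bad U := by
      intro hb
      have hgU : g ∈ cen(U) := hb.normalizer_eq hG (by
        ext c
        rw [Subgroup.mem_map]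
        constructor
        · rintro ⟨d, hd, rfl⟩
          exact (Subgroup.mem_normalizer_iff.1 hgN d).1 hd
        · intro hc
          refine ⟨g⁻¹ * c * g, (Subgroup.mem_normalizer_iff.1 hgN _).2 ?_, by simp [mul_assoc]⟩
          rwa [show g * (g⁻¹ * c * g) * g⁻¹ = c by group])
      rw [mem_cen.1 hgU, mul_inv_cancel_right] at hinv
      exact hUU hinv
    have hxU : x ∈ cen(U) := mem_cen.2 (mem_cen.1 hU).symm
    have hx'U : g⁻¹ * x * g ∈ cen(U) := by
      refine (Subgroup.mem_normalizer_iff.1 hgN _).2 ?_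
      rwa [show g * (g⁻¹ * x * g) * g⁻¹ = x by group]
    exact ⟨hUU, mem_cen.2 (commute_of_not_bad hgood hUz (mem_cen.1 hx'U) (mem_cen.1 hxU)),
      mem_cen.2 (mem_cen.1 hx'U).symm⟩
  have hcount : ∀ q : (G ⧸ Z(G)) ⧸ Mb,
      Nat.card {t : I // (t.1 : (G ⧸ Z(G)) ⧸ Mb) = q} ≤ Nat.card IM := by
    intro q
    rcases isEmpty_or_nonempty {t : I // (t.1 : (G ⧸ Z(G)) ⧸ Mb) = q} with he | ⟨⟨i, hi2, hi1⟩, hiq⟩
    · simp
    by_cases hiM : i ∈ Mb
    · refine Nat.card_le_card_of_injective (fun t => (⟨t.1, ?_⟩ : IM))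
        fun a b e => Subtype.ext (congrArg (fun s : IM => s.1) e)
      have h := QuotientGroup.eq.1 (hiq.trans t.2.symm)
      simpa using mul_mem hiM h
    obtain ⟨g, hgi, hgz, hg2, hgk⟩ := exists_two_lift hi2 hi1
    have hgM : g ∉ M := fun h => hiM (hgi ▸ (hback g).2 h)
    obtain ⟨v, hv, hvz, hv2, kv, hkv⟩ : ∃ v, v ∈ M ∧ v ∉ Z(G) ∧ v * v ∈ Z(G) ∧
        ∃ k, v ^ 2 ^ k = 1 := by
      obtain ⟨t, ht, ht1⟩ := hG.exists_involution
      obtain ⟨⟨q', s⟩, -⟩ := hf.2 ⟨t, ht, ht1⟩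
      obtain ⟨v, hv, h1, h2, h3⟩ := exists_two_lift s.1.2.1 s.1.2.2
      exact ⟨v, (hback v).1 (hv ▸ s.2), h1, h2, h3⟩
    set vb : G ⧸ Z(G) := (v : G ⧸ Z(G)) with hvb
    have hvb2 : vb * vb = 1 := by
      rw [hvb, ← QuotientGroup.mk_mul]; exact (QuotientGroup.eq_one_iff _).2 hv2
    have hvb1 : vb ≠ 1 := fun e => hvz ((QuotientGroup.eq_one_iff v).1 e)
    have hii : i⁻¹ = i := inv_eq_of_mul_eq_one_right hi2
    have hu : ∀ t : {t : I // (t.1 : (G ⧸ Z(G)) ⧸ Mb) = q}, i * t.1.1 ∈ Mb := fun t => by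
      have := QuotientGroup.eq.1 (hiq.trans t.2.symm)
      rwa [hii] at this
    refine Nat.card_le_card_of_injective (fun t =>
      (⟨⟨i * t.1.1 * vb * (i * t.1.1)⁻¹, hsi _ hvb2 _, hne1 _ hvb1 _⟩,
        mul_mem (mul_mem (hu t) ((hback v).2 hv)) (inv_mem (hu t))⟩ : IM)) ?_
    intro a b e
    have e' : i * a.1.1 * vb * (i * a.1.1)⁻¹ = i * b.1.1 * vb * (i * b.1.1)⁻¹ :=
      congrArg (fun s : IM => s.1.1) e
    obtain ⟨A, hA⟩ := QuotientGroup.mk_surjective (i * a.1.1)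
    obtain ⟨B, hB⟩ := QuotientGroup.mk_surjective (i * b.1.1)
    have hAM : A ∈ M := (hback A).1 (hA ▸ hu a)
    have hBM : B ∈ M := (hback B).1 (hB ▸ hu b)
    have hinvert : ∀ (U : G) (t : I), (U : G ⧸ Z(G)) = i * t.1 → g * U * g⁻¹ * U ∈ Z(G) := by
      intro U t hU
      refine (QuotientGroup.eq_one_iff _).1 ?_
      simp only [QuotientGroup.mk_mul, QuotientGroup.mk_inv]
      rw [hgi, hU, hii]
      calc i * (i * t.1) * i * (i * t.1) = (i * i) * t.1 * (i * i) * t.1 := by group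
        _ = 1 := by rw [hi2, one_mul, mul_one, t.2.1]
    have hAB : (A : G ⧸ Z(G)) * B = (B : G ⧸ Z(G)) * A := by
      by_cases hAz : A ∈ Z(G)
      · rw [(QuotientGroup.eq_one_iff A).2 hAz, one_mul, mul_one]
      by_cases hBz : B ∈ Z(G)
      · rw [(QuotientGroup.eq_one_iff B).2 hBz, one_mul, mul_one]
      obtain ⟨-, hxM, hAx⟩ := hJ g hgM hg2 A hAM hAz (hinvert A a.1 hA)
      obtain ⟨-, -, hBx⟩ := hJ g hgM hg2 B hBM hBz (hinvert B b.1 hB)
      rw [← QuotientGroup.mk_mul, ← QuotientGroup.mk_mul]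
      refine congrArg _ (hx.inf_comm hG (w := g⁻¹ * x * g) ?_ hxM ?_ hAM hAx hBM hBx)
      · simpa using hx.conj g⁻¹
      · intro e'
        have := hx.mem_of_cen_conj_eq hG (g := g⁻¹) (by simpa using e'.symm)
        exact hgM (by simpa using inv_mem this)
    set W := B⁻¹ * A with hW
    have hWM : W ∈ M := mul_mem (inv_mem hBM) hAM
    by_contra hab
    have hWz : W ∉ Z(G) := fun h => hab (Subtype.ext (Subtype.ext (mul_left_cancel (a := i)
      (hA.symm.trans ((QuotientGroup.eq.2 (hW ▸ h)).symm.trans hB)))))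
    have hcomm : (W : G ⧸ Z(G)) * vb = vb * W := by
      rw [hW, QuotientGroup.mk_mul, QuotientGroup.mk_inv, hA, hB]
      rw [mul_inv_eq_iff_eq_mul, mul_assoc _ _ (i * a.1.1)] at e'
      rw [mul_assoc, e']; group
    have hWinv : g * W * g⁻¹ * W ∈ Z(G) := by
      refine (QuotientGroup.eq_one_iff _).1 ?_
      have hA' : (g : G ⧸ Z(G)) * A * (g : G ⧸ Z(G))⁻¹ * A = 1 := by
        have := (QuotientGroup.eq_one_iff _).2 (hinvert A a.1 hA)
        simpa only [QuotientGroup.mk_mul, QuotientGroup.mk_inv] using this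
      have hB' : (g : G ⧸ Z(G)) * B * (g : G ⧸ Z(G))⁻¹ * B = 1 := by
        have := (QuotientGroup.eq_one_iff _).2 (hinvert B b.1 hB)
        simpa only [QuotientGroup.mk_mul, QuotientGroup.mk_inv] using this
      rw [mul_eq_one_iff_eq_inv] at hA' hB'
      simp only [hW, QuotientGroup.mk_mul, QuotientGroup.mk_inv]
      calc _ = ((g : G ⧸ Z(G)) * B * (g : G ⧸ Z(G))⁻¹)⁻¹ *
            ((g : G ⧸ Z(G)) * A * (g : G ⧸ Z(G))⁻¹) * ((B : G ⧸ Z(G))⁻¹ * A) := by group
        _ = (B : G ⧸ Z(G)) * (A : G ⧸ Z(G))⁻¹ * ((B : G ⧸ Z(G))⁻¹ * A) := by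
            rw [hA', hB', inv_inv]
        _ = (B : G ⧸ Z(G)) * ((B : G ⧸ Z(G)) * A)⁻¹ * A := by group
        _ = (B : G ⧸ Z(G)) * ((A : G ⧸ Z(G)) * B)⁻¹ * A := by rw [hAB]
        _ = 1 := by group
    -- the element `W` has odd order modulo the centre
    have hWodd : Odd (orderOf (W : G ⧸ Z(G))) := by
      by_contra hev
      obtain ⟨n, hn⟩ := even_iff_two_dvd.1 (Nat.not_odd_iff_even.1 hev)
      have hpos := orderOf_pos (W : G ⧸ Z(G))
      have hnz : W ^ n ∉ Z(G) := fun h => by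
        have h' := orderOf_dvd_of_pow_eq_one
          ((QuotientGroup.mk_pow Z(G) W n).symm.trans ((QuotientGroup.eq_one_iff _).2 h))
        have := Nat.le_of_dvd (by omega) h'
        omega
      refine (hJ g hgM hg2 (W ^ n) (pow_mem hWM n) hnz ?_).1 ?_
      · refine (QuotientGroup.eq_one_iff _).1 ?_
        have h1 := (QuotientGroup.eq_one_iff _).2 hWinv
        simp only [QuotientGroup.mk_mul, QuotientGroup.mk_inv] at h1
        rw [mul_eq_one_iff_eq_inv] at h1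
        simp only [QuotientGroup.mk_mul, QuotientGroup.mk_inv, QuotientGroup.mk_pow]
        rw [← conj_pow, h1, inv_pow, inv_mul_cancel]
      · refine (QuotientGroup.eq_one_iff _).1 ?_
        rw [QuotientGroup.mk_mul, QuotientGroup.mk_pow, ← pow_add,
          show n + n = orderOf (W : G ⧸ Z(G)) by omega, pow_orderOf_eq_one]
    have hζ : W * v * W⁻¹ * v⁻¹ ∈ Z(G) := by
      refine (QuotientGroup.eq_one_iff _).1 ?_
      simp only [QuotientGroup.mk_mul, QuotientGroup.mk_inv]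
      rw [← hvb, hcomm, mul_inv_cancel_right, mul_inv_cancel]
    have hWv : W * v = v * W := by
      rw [← cm_eq_one]
      have hc : cm W v ∈ Z(G) := hζ
      have h1 : cm W v ^ orderOf (W : G ⧸ Z(G)) = 1 := by
        rw [← cm_pow_left hc]
        exact cm_center_left ((QuotientGroup.eq_one_iff _).1
          (by rw [QuotientGroup.mk_pow, pow_orderOf_eq_one]))
      have h2 : cm W v ^ 2 ^ kv = 1 := by
        rw [← cm_pow_right hc, hkv]
        exact cm_center_right (one_mem _)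
      have h3 := pow_gcd_eq_one.2 ⟨h1, h2⟩
      rwa [Nat.Coprime.pow_right kv (Nat.coprime_two_right.2 hWodd), pow_one] at h3
    have hWgood : ¬ Bad W := by
      intro hb
      obtain ⟨hUU, -, -⟩ := hJ g hgM hg2 W hWM hWz hWinv
      have hgW : g ∈ cen(W) := by
        refine hb.mem_of_cen_conj_eq hG ?_
        refine hb.eq_of_mem hG (conj_notMem_center hWz) fun c hc => ?_
        have hz := mem_center.1 hWinv
        calc c * (g * W * g⁻¹) = c * (g * W * g⁻¹ * W) * W⁻¹ := by group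
          _ = (g * W * g⁻¹ * W) * (c * W⁻¹) := by rw [hz c, mul_assoc]
          _ = (g * W * g⁻¹ * W) * (W⁻¹ * c) := by
            rw [((show Commute c W from mem_cen.1 hc).inv_right).eq]
          _ = g * W * g⁻¹ * c := by group
      rw [mem_cen.1 hgW, mul_inv_cancel_right] at hWinv
      exact hUU hWinv
    -- `g` fixes an involution of the centraliser of `W`
    set vb' := (g : G ⧸ Z(G)) * vb * (g : G ⧸ Z(G))⁻¹ with hvb'
    set V' := g * v * g⁻¹ with hV'
    have hV'W : V' * W = W * V' := by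
      have hz := mem_center.1 hWinv
      set ζ := g * W * g⁻¹ * W with hζ'
      have hWe : W = ζ * g * W⁻¹ * g⁻¹ := by
        have h5 : g * W * g⁻¹ = ζ * W⁻¹ := by rw [hζ']; group
        have h6 : g * W⁻¹ * g⁻¹ = W * ζ⁻¹ := by
          calc g * W⁻¹ * g⁻¹ = (g * W * g⁻¹)⁻¹ := by group
            _ = W * ζ⁻¹ := by rw [h5]; group
        calc W = W * ζ⁻¹ * ζ := by group
          _ = ζ * (W * ζ⁻¹) := by rw [hz]
          _ = ζ * g * W⁻¹ * g⁻¹ := by rw [← h6]; group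
      have hc' : (g * v * g⁻¹) * (g * W⁻¹ * g⁻¹) = (g * W⁻¹ * g⁻¹) * (g * v * g⁻¹) := by
        calc (g * v * g⁻¹) * (g * W⁻¹ * g⁻¹) = g * (v * W⁻¹) * g⁻¹ := by group
          _ = g * (W⁻¹ * v) * g⁻¹ := by
            rw [((show Commute v W from hWv.symm).inv_right).eq]
          _ = _ := by group
      rw [hWe, hV']
      calc g * v * g⁻¹ * (ζ * g * W⁻¹ * g⁻¹) = (g * v * g⁻¹ * ζ) * (g * W⁻¹ * g⁻¹) := by group
        _ = ζ * ((g * v * g⁻¹) * (g * W⁻¹ * g⁻¹)) := by rw [hz]; group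
        _ = ζ * g * W⁻¹ * g⁻¹ * (g * v * g⁻¹) := by rw [hc']; group
    have hVV : v * V' = V' * v := commute_of_not_bad hWgood hWz hWv.symm hV'W
    have hV'M : V' ∈ M := mem_cen.2
      (commute_of_not_bad hWgood hWz hV'W (mem_cen.1 hWM).symm)
    have hvbV : (V' : G ⧸ Z(G)) = vb' := by
      rw [hV', QuotientGroup.mk_mul, QuotientGroup.mk_mul, QuotientGroup.mk_inv]
    have hfixv : (vb * vb') * (vb * vb') = 1 := by
      have : vb * vb' = vb' * vb := by
        rw [← hvbV, hvb, ← QuotientGroup.mk_mul, ← QuotientGroup.mk_mul, hVV]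
      calc vb * vb' * (vb * vb') = vb * (vb' * vb) * vb' := by group
        _ = vb * (vb * vb') * vb' := by rw [← this]
        _ = (vb * vb) * (vb' * vb') := by group
        _ = 1 := by rw [hvb2, hsi _ hvb2, one_mul]
    have hii' : (g : G ⧸ Z(G)) * g = 1 := by
      rw [← QuotientGroup.mk_mul]; exact (QuotientGroup.eq_one_iff _).2 hg2
    by_cases hz : vb * vb' = 1
    · refine hiM (hgi ▸ hcen vb hvb2 hvb1 ((hback v).2 hv) _ ?_)
      have : vb' = vb := by
        rw [eq_comm, ← mul_inv_eq_one,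
          show vb'⁻¹ = vb' from inv_eq_of_mul_eq_one_right (hsi _ hvb2 _)]
        exact hz
      exact mul_inv_eq_iff_eq_mul.1 this
    · refine hiM (hgi ▸ hcen (vb * vb') hfixv hz
        (mul_mem ((hback v).2 hv) (hvbV ▸ (hback V').2 hV'M)) _ ?_)
      have hcm : vb * vb' = vb' * vb := by
        rw [← hvbV, hvb, ← QuotientGroup.mk_mul, ← QuotientGroup.mk_mul, hVV]
      have hginv : (g : G ⧸ Z(G))⁻¹ = g := inv_eq_of_mul_eq_one_right hii'
      calc (g : G ⧸ Z(G)) * (vb * vb')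
          = (g : G ⧸ Z(G)) * vb * (g : G ⧸ Z(G)) * vb * (g : G ⧸ Z(G))⁻¹ := by
            rw [hvb']; group
        _ = vb' * vb * (g : G ⧸ Z(G)) := by rw [hvb', hginv]
        _ = vb * vb' * (g : G ⧸ Z(G)) := by rw [hcm]
  -- some coset outside contains two involutions
  have hsum : Nat.card I = Nat.card ((G ⧸ Z(G)) ⧸ Mb) * Nat.card IM := by
    rw [← Nat.card_congr (Equiv.ofBijective f hf), Nat.card_prod]
  have hpos : Nonempty IM := by
    obtain ⟨t, ht, ht1⟩ := hG.exists_involution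
    obtain ⟨⟨-, s⟩, -⟩ := hf.2 ⟨t, ht, ht1⟩
    exact ⟨s⟩
  have heq : ∀ q : (G ⧸ Z(G)) ⧸ Mb,
      Nat.card {t : I // (t.1 : (G ⧸ Z(G)) ⧸ Mb) = q} = Nat.card IM := by
    have := Fintype.ofFinite ((G ⧸ Z(G)) ⧸ Mb)
    have h := Nat.card_congr (Equiv.sigmaFiberEquiv fun t : I => (t.1 : (G ⧸ Z(G)) ⧸ Mb))
    rw [Nat.card_sigma, hsum, Nat.card_eq_fintype_card (α := (G ⧸ Z(G)) ⧸ Mb)] at h
    intro q
    refine (Finset.sum_eq_sum_iff_of_le fun q _ => hcount q).1 ?_ q (Finset.mem_univ q)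
    rw [h, Finset.sum_const, Finset.card_univ, smul_eq_mul]
  rcases Nat.lt_or_ge 1 (Nat.card IM) with h2 | h1
  · -- all conjugates of `x` lie in `M`
    have hall : ∀ h : G, h * x * h⁻¹ ∈ M := by
      intro h
      by_cases hh : h ∈ M
      · rw [mem_cen.1 hh, mul_inv_cancel_right]; exact self_mem_cen x
      have : Finite {t : I // (t.1 : (G ⧸ Z(G)) ⧸ Mb) =
          ((((h⁻¹ : G) : G ⧸ Z(G))) : (G ⧸ Z(G)) ⧸ Mb)} := inferInstance
      obtain ⟨a, b, hab⟩ := (Finite.one_lt_card_iff_nontrivial.1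
        (h2.trans_eq (heq ((((h⁻¹ : G) : G ⧸ Z(G))) : (G ⧸ Z(G)) ⧸ Mb)).symm)).exists_pair_ne
      obtain ⟨g, hga, -, hg2, -⟩ := exists_two_lift a.1.2.1 a.1.2.2
      have hm : h * g ∈ M := by
        have := QuotientGroup.eq.1 a.2.symm
        rw [← hga, ← QuotientGroup.mk_inv, ← QuotientGroup.mk_mul, inv_inv] at this
        exact (hback _).1 this
      have hgM : g ∉ M := fun hgM => hh (by simpa using mul_mem hm (inv_mem hgM))
      obtain ⟨U, hU⟩ := QuotientGroup.mk_surjective (a.1.1 * b.1.1)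
      have hai : (a.1.1)⁻¹ = a.1.1 := inv_eq_of_mul_eq_one_right a.1.2.1
      have hUM : U ∈ M := by
        have := QuotientGroup.eq.1 (a.2.trans b.2.symm)
        rw [hai] at this
        exact (hback U).1 (hU ▸ this)
      have hUz : U ∉ Z(G) := fun hz => hab (Subtype.ext (Subtype.ext (by
        have h := hU.symm.trans ((QuotientGroup.eq_one_iff U).2 hz)
        rw [mul_eq_one_iff_inv_eq, hai] at h
        exact h)))
      obtain ⟨-, hxM, -⟩ := hJ g hgM hg2 U hUM hUz ((QuotientGroup.eq_one_iff _).1 (by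
        simp only [QuotientGroup.mk_mul, QuotientGroup.mk_inv]
        rw [hga, hU, hai]
        calc a.1.1 * (a.1.1 * b.1.1) * a.1.1 * (a.1.1 * b.1.1)
            = (a.1.1 * a.1.1) * b.1.1 * (a.1.1 * a.1.1) * b.1.1 := by group
          _ = 1 := by rw [a.1.2.1, one_mul, mul_one, b.1.2.1]))
      have := mul_mem (mul_mem hm hxM) (inv_mem hm)
      simpa [mul_assoc] using this
    have hN : Subgroup.normalClosure {x} ≤ M := by
      refine (Subgroup.closure_le M).2 ?_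
      intro c hc
      obtain ⟨a, ha, hac⟩ := Group.mem_conjugatesOfSet_iff.1 hc
      obtain ⟨d, rfl⟩ := isConj_iff.1 hac
      rw [Set.mem_singleton_iff.1 ha]
      exact hall d
    set A := Subgroup.normalClosure ({x} : Set G) ⊓
      Subgroup.centralizer (Subgroup.normalClosure ({x} : Set G) : Set G) with hA
    have hxA : x ∈ A := ⟨Subgroup.subset_normalClosure rfl,
      Subgroup.mem_centralizer_iff.2 fun c hc => mem_cen.1 (hN hc)⟩
    exact hx.1 (hG.abelian_le_center A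
      (fun a ha b hb => (Subgroup.mem_centralizer_iff.1 hb.2 a ha.1)) hxA)
  · -- a single involution is isolated
    have : Finite IM := inferInstance
    obtain ⟨⟨⟨t, ht, ht1⟩, htM⟩⟩ := hpos
    have hsub : Subsingleton IM := Finite.card_le_one_iff_subsingleton.1 h1
    have hiso : Cfsg.IsIsolatedInvolution t := by
      refine ⟨orderOf_eq_prime (by rw [pow_two, ht]) ht1, fun q hq => ?_⟩
      have hm := hcen t ht ht1 htM (q * t * q⁻¹) hq.eq.symm
      exact congrArg (fun s : IM => s.1.1)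
        (hsub.elim ⟨⟨q * t * q⁻¹, hsi t ht q, hne1 t ht1 q⟩, hm⟩ ⟨⟨t, ht, ht1⟩, htM⟩)
    refine ht1 (Subgroup.mem_bot.1 (hG.quot_center ▸ Subgroup.mem_center_iff.2 fun q => ?_))
    have := CfsgLib.Invol.zstar _ hiso q
    rw [hG.oddCore_quot, Subgroup.mem_bot, mul_inv_eq_one, mul_inv_eq_iff_eq_mul] at this
    exact this.symm

theorem Bad.two_group_comm (hG : Hyp G) {x : G} (hx : Bad x) (Q : Subgroup G) (hQ : IsPGroup 2 Q)
    (hle : Q ≤ cen(x)) : ∀ a ∈ Q, ∀ b ∈ Q, a * b = b * a := by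
  have : Fact (Nat.Prime 2) := ⟨Nat.prime_two⟩
  intro a ha b hb
  by_contra hab
  obtain ⟨T, hT, hTn⟩ := hx.exists_sylow_le hG Q hQ hle ha hb hab
  have hno : ∀ y : G, Bad y → ∀ k : ℕ, y ^ 2 ^ k ≠ 1 := fun y hy k hk =>
    hTn (hG.sylow_two_comm hy hk T)
  refine hG.no_strong hx T hT hno ?_
  intro v hv hvz hv2 hvk
  obtain ⟨k, hk⟩ := hvk
  have hvgood : ¬ Bad v := fun h => hno v h k hk
  have hvp : IsPGroup 2 (Subgroup.zpowers (⟨v, hv⟩ : cen(x))) := by
    obtain ⟨n, -, hn⟩ := (Nat.dvd_prime_pow Nat.prime_two).1 (orderOf_dvd_of_pow_eq_one hk)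
    exact IsPGroup.of_card (n := n) (by rw [Nat.card_zpowers, Subgroup.orderOf_mk, hn])
  obtain ⟨R, hR⟩ := hvp.exists_le_sylow
  set R1 := (R : Subgroup (cen(x))).map (cen(x)).subtype
  have hvR : v ∈ R1 := ⟨_, hR (Subgroup.mem_zpowers _), rfl⟩
  have hR1M : R1 ≤ cen(x) := Subgroup.map_subtype_le _
  obtain ⟨c, hc, d, hd, hcd⟩ : ∃ c ∈ R1, ∃ d ∈ R1, c * d ≠ d * c := by
    by_contra h
    push Not at h
    refine hTn ⟨⟨fun s t => ?_⟩⟩
    let e := Sylow.equiv (T.subtype hT) R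
    have h' : ∀ s t : (T.subtype hT : Subgroup (cen(x))), s * t = t * s := fun s t => by
      apply e.injective
      rw [map_mul, map_mul]
      exact Subtype.ext (Subtype.ext (h _ (Subgroup.mem_map_of_mem _ (e s).2) _
        (Subgroup.mem_map_of_mem _ (e t).2)))
    exact Subtype.ext (congrArg (fun r : (T.subtype hT : Subgroup (cen(x))) => ((r : cen(x)) : G))
      (h' ⟨⟨s, hT s.2⟩, s.2⟩ ⟨⟨t, hT t.2⟩, t.2⟩))
  obtain ⟨w, hw, hwz, hw2, hwc⟩ := exists_central_invol_mod (R.2.map (cen(x)).subtype) hvR hvz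
  set H := Subgroup.normalizer (cen(v) : Set G)
  have hH : H ≠ ⊤ := hG.normalizer_ne_top (self_mem_cen v) hvz (Group.isSolvable_of_comm
    fun s t => Subtype.ext (commute_of_not_bad hvgood hvz (mem_cen.1 s.2) (mem_cen.1 t.2)))
  have hxH : x ∈ H := Subgroup.le_normalizer (mem_cen.2 (mem_cen.1 hv).symm)
  by_cases hcom : v * w = w * v
  · have hwgood : ¬ Bad w := fun h => by
      obtain ⟨j, hj⟩ := (R.2.map (cen(x)).subtype) ⟨w, hw⟩
      exact hno w h j (congrArg Subtype.val hj)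
    have he : cen(v) = cen(w) := le_antisymm
      (fun s hs => mem_cen.2 (commute_of_not_bad hvgood hvz (mem_cen.1 hs) hcom.symm))
      (fun s hs => mem_cen.2 (commute_of_not_bad hwgood hwz (mem_cen.1 hs) hcom))
    have hR1H : R1 ≤ H := fun r hr => by
      show r ∈ Subgroup.normalizer (cen(v) : Set G)
      rw [he]
      exact mem_normalizer_cen_of_mod (hwc r hr)
    exact ⟨hx.le_of_two hG hH hxH (hR1H hc) (hR1H hd) (hR1M hc) (hR1M hd) hcd,
      fun h => hcd (comm_iff.1 h c (hR1H hc) d (hR1H hd))⟩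
  · have hvH : v ∈ H := Subgroup.le_normalizer (self_mem_cen v)
    have hwH : w ∈ H := by
      refine mem_normalizer_cen_of_mod ?_
      have := inv_mem (hwc v hvR)
      rwa [show (v * w * v⁻¹ * w⁻¹)⁻¹ = w * v * w⁻¹ * v⁻¹ by group] at this
    exact ⟨hx.le_of_two hG hH hxH hvH hwH hv (hR1M hw) hcom,
      fun h => hcom (comm_iff.1 h v hvH w hwH)⟩

end CfsgLib.Recog.NonCA
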