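import Cfsg.Agent.Lib.Recog.NonCA.TIGroup
import Cfsg.Agent.Lib.Char.TI
import Cfsg.Agent.Lib.Block.PairTrick
import Cfsg.Agent.Lib.Block.CentralDefect

/-!
The exceptional characters of a family of linear characters of `B` that agree on the elements of
odd order, and the count of pairs of involutions against them: there is no family with
`|B : Z|`-many conjugates and as many members as involutions in `B`.
-/

set_option autoImplicit false
set_option linter.unusedSectionVars false

namespace CfsgLib.Recog.NonCA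

open CfsgLib.Invol CfsgLib.Char Cfsg
open scoped Classical ComplexConjugate

universe u

variable {G : Type u} [Group G] [Fintype G]

theorem char_invol_int {χ : G → ℂ} (hχ : IsCharacter G χ) {t : G} (ht : orderOf t = 2) :
    ∃ m : ℤ, χ t = m := by
  have := Fintype.ofFinite (Subgroup.zpowers t)
  obtain ⟨a, ha⟩ := classInner_isCharacter_nat (isCharacter_restrict hχ (Subgroup.zpowers t))
    (isCharacter_one (G := Subgroup.zpowers t))
  obtain ⟨f, hf⟩ := char_apply_one_eq_nat hχ
  refine ⟨2 * (a : ℤ) - f, ?_⟩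
  rw [classInner_def, Nat.card_zpowers, ht] at ha
  have hne : (1 : Subgroup.zpowers t) ≠ ⟨t, Subgroup.mem_zpowers t⟩ := fun h =>
    invol_ne_one ht (congrArg Subtype.val h).symm
  have huniv : (Finset.univ : Finset (Subgroup.zpowers t)) = {1, ⟨t, Subgroup.mem_zpowers t⟩} := by
    symm
    refine Finset.eq_univ_of_card _ ?_
    rw [Finset.card_pair hne, ← Nat.card_eq_fintype_card, Nat.card_zpowers, ht]
  rw [huniv, Finset.sum_pair hne] at ha
  simp only [map_one, mul_one, OneMemClass.coe_one, hf] at ha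
  push_cast at ha ⊢
  linear_combination 2 * ha

/-- A family of linear characters of `B`, equal on odd order elements and not conjugate to each
other. -/
structure TIFam (B : Subgroup G) (k : ℕ) (ψ : Fin k → (B →* ℂˣ)) : Prop where
  agree : ∀ i j (b : B), Odd (orderOf (b : G)) → ψ i b = ψ j b
  sep : ∀ i j (h : G), h ∈ Subgroup.normalizer (B : Set G) →
    (∀ b b' : B, (b' : G) = h * b * h⁻¹ → ψ i b' = ψ j b) → i = j ∧ h ∈ B

namespace TIData

variable {P : Sylow 2 G} {B Z : Subgroup G} (d : TIData P B Z)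
include d

local notation "NB" => Subgroup.normalizer (B : Set G)

/-- Induced functions supported on the elements of even order. -/
theorem ind_apply {f : B → ℂ} (hf : ∀ b : B, Odd (orderOf (b : G)) → f b = 0) (b : B)
    (hb : 2 ∣ orderOf (b : G)) :
    indFun B f (b : G) = (Nat.card B : ℂ)⁻¹ *
      ∑ x ∈ Finset.univ.filter (fun x : G => x ∈ NB), extendByZero B f (x * (b : G) * x⁻¹) := by
  rw [indFun_def]
  congr 1
  rw [← Finset.sum_filter_of_ne (p := fun x : G => x ∈ NB) (fun x _ hx => ?_)]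
  · refine Finset.sum_nbij' (fun x => x⁻¹) (fun x => x⁻¹) (fun x hx => ?_) (fun x hx => ?_)
      (fun x _ => inv_inv x) (fun x _ => inv_inv x) (fun x _ => by rw [inv_inv])
    · simpa using hx
    · simpa using hx
  · by_cases hm : x⁻¹ * (b : G) * x ∈ B
    · refine inv_mem_iff.1 (d.mem_of_two b.2 hb ?_)
      rwa [inv_inv]
    · exact absurd (extendByZero_of_not_mem _ hm) hx

/-- The conjugate of a linear character. -/
theorem exists_conj_char (ψ : B →* ℂˣ) {h : G} (hh : h ∈ NB) :
    ∃ ψ' : B →* ℂˣ, ∀ b b' : B, (b' : G) = h * b * h⁻¹ → ψ' b = ψ b' :=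
  ⟨ψ.comp { toFun := fun b => ⟨h * b * h⁻¹, d.conj_mem hh b.2⟩
            map_one' := Subtype.ext (by simp)
            map_mul' := fun x y => Subtype.ext (by simp [mul_assoc]) },
    fun b b' e => congrArg ψ (Subtype.ext e.symm)⟩

theorem inner_conj {k : ℕ} {ψ : Fin k → (B →* ℂˣ)} (hψ : TIFam B k ψ) (i j : Fin k) {x : G}
    (hx : x ∈ NB) :
    classInner (fun b : B => (ψ i b : ℂ))
      (fun b : B => extendByZero B (fun b => (ψ j b : ℂ)) (x * (b : G) * x⁻¹)) =
      if i = j ∧ x ∈ B then 1 else 0 := by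
  obtain ⟨ψ', hψ'⟩ := d.exists_conj_char (ψ j) hx
  have e : (fun b : B => extendByZero B (fun b => (ψ j b : ℂ)) (x * (b : G) * x⁻¹)) =
      fun b : B => (ψ' b : ℂ) := funext fun b => by
    rw [extendByZero_of_mem _ (d.conj_mem hx b.2), hψ' b ⟨_, d.conj_mem hx b.2⟩ rfl]
  rw [e, irr_classInner (isIrrCharacter_linear _) (isIrrCharacter_linear _)]
  refine if_congr ⟨fun h => ?_, fun ⟨hij, hxB⟩ => ?_⟩ rfl rfl
  · have h' : ∀ b, ψ i b = ψ' b := fun b => Units.ext (congrFun h b)
    obtain ⟨hji, hxB⟩ := hψ.sep j i x hx fun b b' eb => by rw [← hψ' b b' eb, h']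
    exact ⟨hji.symm, hxB⟩
  · funext b
    rw [hψ' b b (by rw [d.comm x hxB b b.2, mul_inv_cancel_right]), hij]

theorem inner_ind {k : ℕ} {ψ : Fin k → (B →* ℂˣ)} (hψ : TIFam B k ψ) (i j i' j' : Fin k) :
    classInner (indFun B fun b => (ψ i b : ℂ) - (ψ j b : ℂ))
      (indFun B fun b => (ψ i' b : ℂ) - (ψ j' b : ℂ)) =
      (if i = i' then 1 else 0) - (if i = j' then 1 else 0) -
        ((if j = i' then 1 else 0) - (if j = j' then 1 else 0)) := by
  set f : B → ℂ := fun b => (ψ i b : ℂ) - (ψ j b : ℂ)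
  set f' : B → ℂ := fun b => (ψ i' b : ℂ) - (ψ j' b : ℂ)
  have hf' : ∀ b : B, Odd (orderOf (b : G)) → f' b = 0 := fun b hb =>
    sub_eq_zero.2 (by rw [hψ.agree i' j' b hb])
  rw [frobenius_reciprocity _ f _ (indFun_isClassFunction _ f')]
  have hval : ∀ b : B, f b * conj (indFun B f' (b : G)) = f b * conj ((Nat.card B : ℂ)⁻¹ *
      ∑ x ∈ Finset.univ.filter (fun x : G => x ∈ NB), extendByZero B f' (x * (b : G) * x⁻¹)) := by
    intro b
    by_cases hb : 2 ∣ orderOf (b : G)
    · rw [d.ind_apply hf' b hb]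
    · have : f b = 0 := sub_eq_zero.2 (by
        rw [hψ.agree i j b (Nat.odd_iff.2 (Nat.two_dvd_ne_zero.1 hb))])
      rw [this, zero_mul, zero_mul]
  rw [classInner_def, Finset.sum_congr rfl fun b _ => hval b]
  simp only [map_mul, map_inv₀, map_natCast, map_sum, Finset.mul_sum]
  rw [Finset.sum_comm]
  have hterm : ∀ x ∈ Finset.univ.filter (fun x : G => x ∈ NB),
      ∑ b : B, (Nat.card B : ℂ)⁻¹ * (f b * ((Nat.card B : ℂ)⁻¹ *
        conj (extendByZero B f' (x * (b : G) * x⁻¹)))) =
      (Nat.card B : ℂ)⁻¹ * (if x ∈ B then ((if i = i' then 1 else 0) - (if i = j' then 1 else 0) -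
        ((if j = i' then 1 else 0) - (if j = j' then 1 else 0))) else 0) := by
    intro x hx
    have hxN := (Finset.mem_filter.1 hx).2
    have e1 : (fun b : B => extendByZero B f' (x * (b : G) * x⁻¹)) =
        (fun b : B => extendByZero B (fun b => (ψ i' b : ℂ)) (x * (b : G) * x⁻¹)) -
          (fun b : B => extendByZero B (fun b => (ψ j' b : ℂ)) (x * (b : G) * x⁻¹)) :=
      funext fun b => by
        simp only [Pi.sub_apply, extendByZero_of_mem _ (d.conj_mem hxN b.2), f']
    have e2 : f = (fun b : B => (ψ i b : ℂ)) - (fun b : B => (ψ j b : ℂ)) := rfl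
    have h := congrArg (fun z => (Nat.card B : ℂ)⁻¹ * z)
      (show classInner f (fun b : B => extendByZero B f' (x * (b : G) * x⁻¹)) =
        (if x ∈ B then ((if i = i' then 1 else 0) - (if i = j' then 1 else 0) -
          ((if j = i' then 1 else 0) - (if j = j' then 1 else 0))) else 0) by
        rw [e1, e2]
        simp only [classInner_sub_left, classInner_sub_right, d.inner_conj hψ _ _ hxN]
        by_cases hxB : x ∈ B <;> simp [hxB] <;> ring)
    rw [← h, classInner_def]
    simp only [Finset.mul_sum]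
    exact Finset.sum_congr rfl fun b _ => by ring
  rw [Finset.sum_congr rfl hterm, ← Finset.mul_sum, ← Finset.sum_filter, Finset.filter_filter,
    Finset.sum_const, nsmul_eq_mul,
    show (Finset.univ.filter fun x : G => x ∈ NB ∧ x ∈ B) = Finset.univ.filter fun x : G => x ∈ B
      from Finset.filter_congr fun x _ => ⟨fun h => h.2, fun h => ⟨d.B_le h, h⟩⟩,
    ← Fintype.card_subtype, ← Nat.card_eq_fintype_card, inv_mul_cancel_left₀ natCard_ne_zero]

/-- The value at an involution. -/
theorem ind_apply_invol {f : B → ℂ} (hf : ∀ b : B, Odd (orderOf (b : G)) → f b = 0) {v : G}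
    (hv : v ∈ invB B) : indFun B f v = ∑ w ∈ invB B, extendByZero B f w := by
  rw [show v = ((⟨v, (mem_invB.1 hv).1⟩ : B) : G) from rfl,
    d.ind_apply hf _ (d.two_dvd_of_mem hv), d.sum_normalizer hv (extendByZero B f), nsmul_eq_mul,
    inv_mul_cancel_left₀ natCard_ne_zero]

/-- A linear character nontrivial on the involutions sums to `-1` over them. -/
theorem sum_invB (ψ : B →* ℂˣ) (hne : ∃ (b : B), (b : G) ∈ invB B ∧ ψ b ≠ 1) :
    ∑ w ∈ invB B, extendByZero B (fun b => (ψ b : ℂ)) w = -1 := by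
  obtain ⟨w₀, hw₀, hne⟩ := hne
  have h1 : (1 : G) ∉ invB B := fun h => by
    have := (mem_invB.1 h).2; rw [orderOf_one] at this; omega
  set S := insert (1 : G) (invB B) with hS
  have hmem : ∀ x, x ∈ S ↔ x ∈ d.omega := by
    intro x
    rw [hS, Finset.mem_insert, mem_invB]
    constructor
    · rintro (rfl | ⟨hx, h2⟩)
      · exact one_mem _
      · exact ⟨hx, invol_mul_self h2⟩
    · intro hx
      by_cases hx1 : x = 1
      · exact Or.inl hx1
      · exact Or.inr ⟨hx.1, invol_of_mul_self hx.2 hx1⟩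
  have hw : (w₀ : G) ∈ d.omega := (hmem _).1 (Finset.mem_insert_of_mem hw₀)
  have hzero : ∑ x ∈ S, extendByZero B (fun b => (ψ b : ℂ)) x = 0 := by
    refine eq_zero_of_mul_eq_self_left (b := (ψ w₀ : ℂ)) (fun h => hne (Units.ext h)) ?_
    rw [Finset.mul_sum]
    refine Finset.sum_nbij' (fun x => (w₀ : G) * x) (fun x => (w₀ : G) * x)
      (fun x hx => (hmem _).2 (mul_mem hw ((hmem x).1 hx)))
      (fun x hx => (hmem _).2 (mul_mem hw ((hmem x).1 hx)))
      (fun x _ => by rw [← mul_assoc, hw.2, one_mul]) (fun x _ => by rw [← mul_assoc, hw.2, one_mul])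
      (fun x hx => ?_)
    have hxB : x ∈ B := ((hmem x).1 hx).1
    rw [extendByZero_of_mem _ hxB, extendByZero_of_mem _ (mul_mem w₀.2 hxB), ← Units.val_mul,
      ← map_mul]
    rfl
  rw [hS, Finset.sum_insert h1, show (1 : G) = ((1 : B) : G) from rfl, extendByZero_coe,
    map_one, Units.val_one] at hzero
  linear_combination hzero

/-- The contribution of the pairs of involutions. -/
theorem pairs_ind {f : B → ℂ} (hf : ∀ b : B, Odd (orderOf (b : G)) → f b = 0) :
    CfsgLib.Block.PairTrick.pairSum (indFun B f) = (Nat.card G : ℂ) / (Nat.card B : ℂ) *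
      (((invB B).card : ℂ) - 1) * ∑ w ∈ invB B, extendByZero B f w := by
  open CfsgLib.Block.PairTrick in
  rw [pairSum_indFun B f ?hloc]
  case hloc =>
    intro s hs t ht hst hne
    obtain ⟨hs1, hs2⟩ := mem_invol.1 hs
    obtain ⟨ht1, ht2⟩ := mem_invol.1 ht
    have hso := invol_of_mul_self hs2 hs1
    have heven : 2 ∣ orderOf (s * t) := by
      by_contra h
      exact hne (hf _ (Nat.odd_iff.2 (Nat.two_dvd_ne_zero.1 h)))
    refine d.invol_mem_B (d.mem_of_two hst heven ?_) hso
    rw [conj_left_mul hso (invol_of_mul_self ht2 ht1)]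
    exact inv_mem hst
  rw [mul_assoc (_ / _)]
  congr 1
  set F : G → ℂ := extendByZero B f
  have hmapI : (invol B).map ⟨Subtype.val, Subtype.val_injective⟩ = invB B := by
    ext x
    simp only [Finset.mem_map, Function.Embedding.coeFn_mk, mem_invol, mem_invB]
    refine ⟨fun ⟨a, ⟨ha1, ha2⟩, e⟩ => e ▸ ⟨a.2, invol_of_mul_self (congrArg Subtype.val ha2)
      (fun h => ha1 (Subtype.ext h))⟩, fun ⟨hxB, hx⟩ => ⟨⟨x, hxB⟩, ⟨fun h => invol_ne_one hx
        (congrArg Subtype.val h), Subtype.ext (invol_mul_self hx)⟩, rfl⟩⟩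
  have hF : ∑ s ∈ invol B, ∑ t ∈ invol B, f (s * t) =
      ∑ s ∈ invB B, ∑ t ∈ invB B, F (s * t) := by
    rw [← hmapI]
    simp only [Finset.sum_map, Function.Embedding.coeFn_mk]
    exact Finset.sum_congr rfl fun s _ => Finset.sum_congr rfl fun t _ =>
      (extendByZero_coe B f (s * t)).symm
  have hrow : ∀ s ∈ invB B, ∑ t ∈ invB B, F (s * t) = (∑ w ∈ invB B, F w) - F s := by
    intro s hs
    obtain ⟨hsB, hs2⟩ := mem_invB.1 hs
    have hss := invol_mul_self hs2
    have hF1 : F 1 = 0 := by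
      show extendByZero B f ((1 : B) : G) = 0
      rw [extendByZero_coe]
      exact hf 1 (by simp)
    have h1 : (1 : G) ∉ invB B := fun h => by
      have := (mem_invB.1 h).2; rw [orderOf_one] at this; omega
    have hmem : ∀ x ∈ insert (1 : G) (invB B), s * x ∈ insert (1 : G) (invB B) := by
      intro x hx
      by_cases hsx : s * x = 1
      · rw [hsx]; exact Finset.mem_insert_self _ _
      · refine Finset.mem_insert_of_mem (mem_invB.2 ?_)
        rcases Finset.mem_insert.1 hx with rfl | hx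
        · rw [mul_one]; exact ⟨hsB, hs2⟩
        · obtain ⟨hxB, hx2⟩ := mem_invB.1 hx
          exact ⟨mul_mem hsB hxB, invol_of_mul_self
            (mul_mem (show s ∈ d.omega from ⟨hsB, hss⟩)
              (show x ∈ d.omega from ⟨hxB, invol_mul_self hx2⟩)).2 hsx⟩
    have hshift : ∑ x ∈ insert (1 : G) (invB B), F (s * x) = ∑ x ∈ insert (1 : G) (invB B), F x :=
      Finset.sum_nbij' (fun x => s * x) (fun x => s * x) hmem hmem
        (fun x _ => by rw [← mul_assoc, hss, one_mul])
        (fun x _ => by rw [← mul_assoc, hss, one_mul]) (fun x _ => rfl)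
    rw [Finset.sum_insert h1, Finset.sum_insert h1, mul_one, hF1, zero_add] at hshift
    linear_combination hshift
  rw [hF, Finset.sum_congr rfl hrow, Finset.sum_sub_distrib, Finset.sum_const, nsmul_eq_mul]
  ring

/-- **No large family.** -/
theorem no_family {k : ℕ} {ψ : Fin k → (B →* ℂˣ)} (hψ : TIFam B k ψ) (hk : (invB B).card ≤ k)
    {i₁ i₂ : Fin k} (h1 : ∀ b : B, (b : G) ∈ invB B → ψ i₁ b = 1)
    (h2 : ∃ b : B, (b : G) ∈ invB B ∧ ψ i₂ b ≠ 1) : False := by
  have := Fintype.ofFinite (IrrCharacter G)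
  obtain ⟨v, hv⟩ := d.exists_inv
  obtain ⟨e, he⟩ : ∃ e, e = (invB B).card := ⟨_, rfl⟩
  have he3 := d.three_le
  have hv2 := (mem_invB.1 hv).2
  let f : Fin k → B → ℂ := fun i b => (ψ i b : ℂ) - (ψ i₁ b : ℂ)
  have hf : ∀ i, ∀ b : B, Odd (orderOf (b : G)) → f i b = 0 := fun i b hb =>
    sub_eq_zero.2 (by rw [hψ.agree i i₁ b hb])
  have hone : ∀ i, indFun B (f i) 1 = 0 := fun i => by
    rw [indFun_apply_one, show f i 1 = 0 by simp [f], mul_zero]
  have hgen : ∀ i, IsGeneralizedCharacter G (indFun B (f i)) := fun i =>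
    isGeneralized_indFun _ (isGeneralized_sub
      (isGeneralized_of_isCharacter (irr_isCharacter (isIrrCharacter_linear (ψ i))))
      (isGeneralized_of_isCharacter (irr_isCharacter (isIrrCharacter_linear (ψ i₁)))))
  obtain ⟨ε, hε, μ, hμ, hμinj, hτ⟩ := coherent_family k i₁ (fun i => indFun B (f i))
    (by rw [show f i₁ = 0 from funext fun b => sub_self _]; exact indFun_zero B) hgen hone
    (fun i j hi hj => by
      show classInner (indFun B fun b => (ψ i b : ℂ) - (ψ i₁ b : ℂ))
        (indFun B fun b => (ψ j b : ℂ) - (ψ i₁ b : ℂ)) = _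
      rw [d.inner_ind hψ]
      simp [hi, Ne.symm hj]
      split_ifs <;> norm_num)
  have hε0 : ε ≠ 0 := by rcases hε with rfl | rfl <;> norm_num
  -- equal degrees
  obtain ⟨x, hx0, hx⟩ := irr_apply_one_pos (hμ i₁)
  have hdeg : ∀ i, μ i 1 = x := fun i => by
    have h := congrFun (hτ i) 1
    simp only [hone, Pi.smul_apply, Pi.sub_apply, smul_eq_mul, hx] at h
    exact sub_eq_zero.1 ((mul_eq_zero.1 h.symm).resolve_left hε0)
  -- the central character
  have hcen : ∀ (i : Fin k) (z : G), z ∈ Z → μ i z = x * extendByZero B (fun b => (ψ i₁ b : ℂ)) z := by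
    intro i z hz
    have hzB := d.zB hz
    have hzodd : Odd (orderOf z) :=
      d.zodd.of_dvd_nat (Subgroup.orderOf_dvd_natCard Z hz)
    obtain ⟨ζ, hζ⟩ : ∃ ζ : ℂ, ζ = extendByZero B (fun b => (ψ i₁ b : ℂ)) z := ⟨_, rfl⟩
    rw [← hζ]
    choose ω hω using fun i : Fin k => (CfsgLib.Block.exists_isIntegral_apply_central_mul
      (⟨μ i, hμ i⟩ : IrrCharacter G) (z := z) fun w => (d.z_comm hz w).symm)
    have hshift : ∀ (j : Fin k) (g : G), indFun B (f j) (z * g) = ζ * indFun B (f j) g := by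
      intro j g
      rw [indFun_def, indFun_def, ← mul_assoc ζ, mul_comm ζ, mul_assoc]
      congr 1
      rw [Finset.mul_sum]
      refine Finset.sum_congr rfl fun y _ => ?_
      rw [show y⁻¹ * (z * g) * y = (y⁻¹ * z) * (g * y) by group, d.z_comm hz y⁻¹,
        show z * y⁻¹ * (g * y) = z * (y⁻¹ * g * y) by group]
      by_cases hm : y⁻¹ * g * y ∈ B
      · rw [extendByZero_of_mem _ (mul_mem hzB hm), extendByZero_of_mem _ hm, hζ,
          extendByZero_of_mem _ hzB,
          show (⟨z * (y⁻¹ * g * y), mul_mem hzB hm⟩ : B) = ⟨z, hzB⟩ * ⟨_, hm⟩ from rfl]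
        simp only [f, map_mul, Units.val_mul]
        rw [hψ.agree j i₁ ⟨z, hzB⟩ hzodd]
        ring
      · rw [extendByZero_of_not_mem _ hm, extendByZero_of_not_mem _ fun h => hm (by
          simpa using mul_mem (inv_mem hzB) h), mul_zero]
    have hall : ∀ j, j ≠ i₁ → ω j = ζ ∧ ω i₁ = ζ := by
      intro j hj
      have e1 : ω j • μ j - ω i₁ • μ i₁ = ζ • μ j - ζ • μ i₁ := by
        funext g
        have h := hshift j g
        rw [hτ j] at h
        simp only [Pi.smul_apply, Pi.sub_apply, smul_eq_mul] at h ⊢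
        rw [show μ j (z * g) = ω j * μ j g from (hω j).2 g,
          show μ i₁ (z * g) = ω i₁ * μ i₁ g from (hω i₁).2 g] at h
        refine mul_left_cancel₀ hε0 ?_
        linear_combination h
      have hne : μ j ≠ μ i₁ := fun h => hj (hμinj h)
      have a1 := congrArg (fun φ => classInner φ (μ j)) e1
      have a2 := congrArg (fun φ => classInner φ (μ i₁)) e1
      simp only [classInner_sub_left, classInner_smul_left, irr_classInner_self (hμ _),
        irr_classInner_ne (hμ i₁) (hμ j) hne.symm, irr_classInner_ne (hμ j) (hμ i₁) hne,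
        mul_one, mul_zero, sub_zero, zero_sub, neg_inj] at a1 a2
      exact ⟨a1, a2⟩
    have hω' : ω i = ζ := by
      by_cases hi : i = i₁
      · rw [hi]
        obtain ⟨j, hj⟩ : ∃ j, j ≠ i₁ := ⟨i₂, fun e => by
          obtain ⟨b, hb, hne⟩ := h2; rw [e] at hne; exact hne (h1 b hb)⟩
        exact (hall j hj).2
      · exact (hall i hi).1
    have h := (hω i).2 1
    rw [mul_one] at h
    rw [show μ i z = _ from h, hω', show ((⟨μ i, hμ i⟩ : IrrCharacter G) : G → ℂ) 1 = μ i 1 from rfl,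
      hdeg, mul_comm]
  -- Bessel
  have hbessel : k * Nat.card Z * x ^ 2 ≤ Nat.card G := by
    let ζ : Z → ℂ := fun z => (ψ i₁ ⟨(z : G), d.zB z.2⟩ : ℂ)
    let F : G → ℂ := extendByZero Z ζ
    have hFcl : IsClassFunction G F := by
      intro g y
      by_cases hg : g ∈ Z
      · rw [d.z_conj hg]
      · show extendByZero Z ζ _ = extendByZero Z ζ _
        rw [extendByZero_of_not_mem _ hg, extendByZero_of_not_mem _ (d.conj_notMem_Z hg y)]
    have hnorm : ∀ z : Z, ζ z * conj (ζ z) = 1 := fun z => by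
      have hu : ‖ζ z‖ = 1 := by
        refine Complex.norm_eq_one_of_pow_eq_one (n := Nat.card B) ?_ Nat.card_pos.ne'
        show ((ψ i₁ ⟨(z : G), d.zB z.2⟩ : ℂˣ) : ℂ) ^ Nat.card B = 1
        rw [← Units.val_pow_eq_pow_val, ← map_pow, pow_card_eq_one', map_one, Units.val_one]
      rw [Complex.mul_conj, Complex.normSq_eq_norm_sq, hu]; simp
    have hFF : classInner F F = (Nat.card Z : ℂ) / Nat.card G := by
      rw [classInner_def, sum_extendByZero_mul Z ζ (fun g => conj (F g))]
      simp only [F, extendByZero_coe, hnorm, Finset.sum_const, Finset.card_univ, nsmul_eq_mul,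
        mul_one]
      rw [Nat.card_eq_fintype_card (α := Z)]; ring
    have hFμ : ∀ i, classInner F (μ i) = (((Nat.card Z * x : ℕ) : ℝ) / Nat.card G : ℝ) := by
      intro i
      rw [classInner_def, sum_extendByZero_mul Z ζ (fun g => conj (μ i g))]
      have : ∀ z : Z, ζ z * conj (μ i z) = (x : ℂ) := fun z => by
        rw [hcen i z z.2, extendByZero_of_mem _ (d.zB z.2), map_mul, map_natCast]
        linear_combination (x : ℂ) * hnorm z
      simp only [this, Finset.sum_const, Finset.card_univ, nsmul_eq_mul]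
      push_cast
      rw [Nat.card_eq_fintype_card (α := Z)]; ring
    have hsum := classInner_eq_sum_mul hFcl F
    rw [hFF] at hsum
    have hre := congrArg Complex.re hsum
    rw [Complex.re_sum] at hre
    simp only [Complex.mul_conj, Complex.ofReal_re] at hre
    have hsub : ∑ χ ∈ Finset.univ.image (fun i => (⟨μ i, hμ i⟩ : IrrCharacter G)),
        Complex.normSq (classInner F (χ : G → ℂ)) ≤ ((Nat.card Z : ℂ) / Nat.card G).re := by
      rw [hre]
      exact Finset.sum_le_sum_of_subset_of_nonneg (Finset.subset_univ _)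
        fun _ _ _ => Complex.normSq_nonneg _
    rw [Finset.sum_image (fun a _ b _ h => hμinj (congrArg Subtype.val h))] at hsub
    simp only [hFμ, Complex.normSq_ofReal, Finset.sum_const, Finset.card_univ, Fintype.card_fin,
      nsmul_eq_mul] at hsub
    rw [← Complex.ofReal_natCast, ← Complex.ofReal_natCast, ← Complex.ofReal_div,
      Complex.ofReal_re] at hsub
    have hG : (0 : ℝ) < Nat.card G := by exact_mod_cast Nat.card_pos
    have hZ : (0 : ℝ) < Nat.card Z := by exact_mod_cast Nat.card_pos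
    push_cast at hsub
    have h3 : (k : ℝ) * Nat.card Z * (x : ℝ) ^ 2 ≤ Nat.card G := by
      have h4 := mul_le_mul_of_nonneg_right hsub (sq_nonneg (Nat.card G : ℝ))
      rw [show (k : ℝ) * ((Nat.card Z * x) / Nat.card G * ((Nat.card Z * x) / Nat.card G)) *
        (Nat.card G : ℝ) ^ 2 = Nat.card Z * ((k : ℝ) * Nat.card Z * (x : ℝ) ^ 2) by
          field_simp,
        show (Nat.card Z : ℝ) / Nat.card G * (Nat.card G : ℝ) ^ 2 = Nat.card Z * Nat.card G by
          field_simp] at h4
      exact le_of_mul_le_mul_left h4 hZ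
    exact_mod_cast h3
  -- involutions
  obtain ⟨m₁, hm₁⟩ := char_invol_int (irr_isCharacter (hμ i₁)) hv2
  obtain ⟨m₂, hm₂⟩ := char_invol_int (irr_isCharacter (hμ i₂)) hv2
  have hFsum : ∑ w ∈ invB B, extendByZero B (f i₂) w = -((e : ℂ) + 1) := by
    have h3 : ∀ w ∈ invB B, extendByZero B (f i₂) w =
        extendByZero B (fun b => (ψ i₂ b : ℂ)) w - 1 := fun w hw => by
      rw [extendByZero_of_mem _ (mem_invB.1 hw).1, extendByZero_of_mem _ (mem_invB.1 hw).1]
      simp only [f]
      rw [h1 ⟨w, (mem_invB.1 hw).1⟩ hw, Units.val_one]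
    rw [Finset.sum_congr rfl h3, Finset.sum_sub_distrib, d.sum_invB _ h2, Finset.sum_const,
      nsmul_eq_mul, mul_one, he]
    ring
  have hval : ε * ((m₂ : ℂ) - m₁) = -((e : ℂ) + 1) := by
    rw [← hFsum, ← d.ind_apply_invol (hf i₂) hv, hτ i₂]
    simp [hm₁, hm₂]
  have hS : ((Nat.card G : ℤ) * (m₁ + m₂) = ((e : ℤ) - 1) * Nat.card B * x) := by
    have hpair := d.pairs_ind (hf i₂)
    rw [hFsum, hτ i₂, ← he] at hpair
    have hIv : ∀ i, CfsgLib.Block.PairTrick.invSum (μ i) * (Nat.card B : ℂ) =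
        (Nat.card G : ℂ) * μ i v := by
      intro i
      have hI : CfsgLib.Block.PairTrick.invol G = Finset.univ.filter fun s : G => orderOf s = 2 := by
        ext s
        simp only [CfsgLib.Block.PairTrick.mem_invol, Finset.mem_filter, Finset.mem_univ, true_and]
        exact ⟨fun h => invol_of_mul_self h.2 h.1, fun h => ⟨invol_ne_one h, invol_mul_self h⟩⟩
      have hc : ∀ s ∈ Finset.univ.filter (fun s : G => orderOf s = 2), μ i s = μ i v := by
        intro s hs
        obtain ⟨g, rfl⟩ := d.exists_conj_eq hv (Finset.mem_filter.1 hs).2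
        exact irr_isClassFunction (hμ i) v g
      rw [CfsgLib.Block.PairTrick.invSum, hI, Finset.sum_congr rfl hc, Finset.sum_const,
        nsmul_eq_mul, ← d.card_invol_mul]
      push_cast; ring
    have hlin : CfsgLib.Block.PairTrick.pairSum (ε • (μ i₂ - μ i₁)) =
        ε * (CfsgLib.Block.PairTrick.invSum (μ i₂) ^ 2 / μ i₂ 1 -
          CfsgLib.Block.PairTrick.invSum (μ i₁) ^ 2 / μ i₁ 1) := by
      rw [← CfsgLib.Block.PairTrick.pairSum_irr ⟨μ i₂, hμ i₂⟩,
        ← CfsgLib.Block.PairTrick.pairSum_irr ⟨μ i₁, hμ i₁⟩]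
      simp only [CfsgLib.Block.PairTrick.pairSum, Pi.smul_apply, Pi.sub_apply, smul_eq_mul,
        ← Finset.mul_sum, Finset.sum_sub_distrib]
    rw [hlin, hdeg, hdeg] at hpair
    have hB0 : (Nat.card B : ℂ) ≠ 0 := natCard_ne_zero
    have hG0 : (Nat.card G : ℂ) ≠ 0 := natCard_ne_zero
    have hxC : (x : ℂ) ≠ 0 := by exact_mod_cast hx0.ne'
    have h2' := hIv i₂
    have h1' := hIv i₁
    rw [hm₂] at h2'
    rw [hm₁] at h1'
    rw [eq_div_iff hB0 |>.2 h2', eq_div_iff hB0 |>.2 h1'] at hpair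
    field_simp at hpair
    have key : ((Nat.card G : ℂ) * ((m₁ : ℂ) + m₂) - ((e : ℂ) - 1) * Nat.card B * x) *
        ((e : ℂ) + 1) = 0 := by
      have hε2 : ε * ε = 1 := by rcases hε with rfl | rfl <;> norm_num
      have hd : (m₂ : ℂ) - m₁ = -(ε * ((e : ℂ) + 1)) := by
        linear_combination ε * hval - ((m₂ : ℂ) - m₁) * hε2
      linear_combination -hpair + (Nat.card G : ℂ) * ((m₁ : ℂ) + m₂) * hval
    have he1 : (e : ℂ) + 1 ≠ 0 := by
      exact_mod_cast (Nat.succ_ne_zero e)
    have h := (mul_eq_zero.1 key).resolve_right he1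
    have h' := sub_eq_zero.1 h
    exact_mod_cast h'
  have hpar : (m₁ + m₂) % 2 = 0 := by
    have h : (m₂ - m₁ = -((e : ℤ) + 1)) ∨ (m₁ - m₂ = -((e : ℤ) + 1)) := by
      rcases hε with rfl | rfl
      · left
        rw [one_mul] at hval
        exact_mod_cast hval
      · right
        rw [neg_one_mul, neg_sub] at hval
        exact_mod_cast hval
    obtain ⟨t, ht⟩ := d.odd_e
    rw [← he] at ht
    omega
  -- contradiction
  have hn : Nat.card G = Subgroup.index NB * (e * Nat.card B) := by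
    rw [← Subgroup.card_mul_index NB, d.card_normalizer, ← he, mul_comm]
  have hB := d.card_B_le
  have hBpos : 0 < Nat.card B := Nat.card_pos
  have hGpos : 0 < Nat.card G := Nat.card_pos
  have hm2 : 2 * (Nat.card G : ℤ) ≤ ((e : ℤ) - 1) * Nat.card B * x := by
    have hpos : 0 < ((e : ℤ) - 1) * Nat.card B * x := by
      rw [← he] at he3
      have : (0 : ℤ) < (e : ℤ) - 1 := by omega
      positivity
    have hS2 : 0 < m₁ + m₂ := by
      by_contra hle
      push Not at hle
      rw [← hS] at hpos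
      nlinarith
    have hS3 : 2 ≤ m₁ + m₂ := by omega
    rw [← hS]
    have hG' : (0 : ℤ) ≤ (Nat.card G : ℤ) := Int.natCast_nonneg _
    nlinarith [mul_le_mul_of_nonneg_left hS3 hG']
  have hk' : (e : ℤ) ≤ k := by rw [he]; exact_mod_cast hk
  have hb' : (k : ℤ) * Nat.card Z * (x : ℤ) ^ 2 ≤ Nat.card G := by exact_mod_cast hbessel
  have hn' : (Nat.card G : ℤ) = Subgroup.index NB * (e * Nat.card B) := by exact_mod_cast hn
  have hB' : (Nat.card B : ℤ) ≤ Subgroup.index NB * Nat.card Z := by exact_mod_cast hB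
  rw [← he] at he3
  have he3' : (3 : ℤ) ≤ e := by exact_mod_cast he3
  have hBp : (0 : ℤ) < Nat.card B := by exact_mod_cast hBpos
  have hGp : (0 : ℤ) < Nat.card G := by exact_mod_cast hGpos
  have s1 : 4 * (Nat.card G : ℤ) ^ 2 ≤ ((e : ℤ) - 1) ^ 2 * (Nat.card B : ℤ) ^ 2 * (x : ℤ) ^ 2 := by
    have := pow_le_pow_left₀ (by positivity) hm2 2
    linarith [this]
  have hkz : (0 : ℤ) ≤ (k : ℤ) * Nat.card Z := by positivity
  have s2 : 4 * (Nat.card G : ℤ) ^ 2 * ((k : ℤ) * Nat.card Z) ≤
      ((e : ℤ) - 1) ^ 2 * (Nat.card B : ℤ) ^ 2 * Nat.card G := by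
    calc _ ≤ ((e : ℤ) - 1) ^ 2 * (Nat.card B : ℤ) ^ 2 * (x : ℤ) ^ 2 * ((k : ℤ) * Nat.card Z) :=
          mul_le_mul_of_nonneg_right s1 hkz
      _ = ((e : ℤ) - 1) ^ 2 * (Nat.card B : ℤ) ^ 2 * ((k : ℤ) * Nat.card Z * (x : ℤ) ^ 2) := by ring
      _ ≤ _ := mul_le_mul_of_nonneg_left hb' (by positivity)
  have s3 : 4 * (Nat.card G : ℤ) * ((k : ℤ) * Nat.card Z) ≤
      ((e : ℤ) - 1) ^ 2 * (Nat.card B : ℤ) ^ 2 := by
    refine le_of_mul_le_mul_right ?_ hGp
    linarith [s2]
  have s4 : 4 * (e : ℤ) * k * (Nat.card B : ℤ) ^ 2 ≤ ((e : ℤ) - 1) ^ 2 * (Nat.card B : ℤ) ^ 2 := by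
    refine le_trans ?_ s3
    rw [hn']
    calc 4 * (e : ℤ) * k * (Nat.card B : ℤ) ^ 2
        = 4 * (e : ℤ) * k * Nat.card B * Nat.card B := by ring
      _ ≤ 4 * (e : ℤ) * k * Nat.card B * (Subgroup.index NB * Nat.card Z) :=
          mul_le_mul_of_nonneg_left hB' (by positivity)
      _ = _ := by ring
  have s5 := le_of_mul_le_mul_right s4 (by positivity)
  nlinarith

end TIData

end CfsgLib.Recog.NonCA
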