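import Cfsg.Agent.Lib.Invol.Basic
import Cfsg.Agent.Lib.Coprime.Abelian
import Mathlib.GroupTheory.PGroup
import Mathlib.Combinatorics.Enumerative.DoubleCounting
import Mathlib.GroupTheory.QuotientGroup.Basic

/-!
An abelian subgroup `B` containing a Sylow 2-subgroup which is the centraliser of each of its
elements of even order: the involutions form one class, the conjugates of `B` meet in `Z`, there
are at least `|B : Z| + 1` of them, and the automiser of `B` is abelian or small.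
-/

set_option autoImplicit false
set_option linter.unusedSectionVars false

namespace CfsgLib.Recog.NonCA

open CfsgLib.Invol
open scoped Classical

universe u

variable {G : Type u} [Group G] [Fintype G]

/-- The hypotheses of the trivial intersection lemma. -/
structure TIData (P : Sylow 2 G) (B Z : Subgroup G) : Prop where
  ncyc : ¬ IsCyclic (P : Subgroup G)
  zc : Z ≤ Subgroup.center G
  zodd : Odd (Nat.card Z)
  zB : Z ≤ B
  pB : (P : Subgroup G) ≤ B
  comm : ∀ a ∈ B, ∀ b ∈ B, a * b = b * a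
  cen : ∀ b ∈ B, 2 ∣ orderOf b → Subgroup.centralizer ({b} : Set G) = B
  free : ∀ b ∈ B, b ∉ Z → ∀ h ∈ Subgroup.normalizer (B : Set G), h * b = b * h → h ∈ B
  nn : Subgroup.normalizer (B : Set G) ≠ ⊤

/-- The involutions of `B`. -/
noncomputable def invB (B : Subgroup G) : Finset G :=
  Finset.univ.filter fun x => x ∈ B ∧ orderOf x = 2

theorem mem_invB {B : Subgroup G} {x : G} : x ∈ invB B ↔ x ∈ B ∧ orderOf x = 2 := by
  simp [invB]

/-- The elements of odd order of an abelian subgroup. -/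
def oddPart (B : Subgroup G) : Set G := {x | x ∈ B ∧ Odd (orderOf x)}

namespace TIData

variable {P : Sylow 2 G} {B Z : Subgroup G} (d : TIData P B Z)
include d

local notation "NB" => Subgroup.normalizer (B : Set G)

theorem B_le : B ≤ NB := Subgroup.le_normalizer

theorem z_comm {z : G} (hz : z ∈ Z) (g : G) : g * z = z * g :=
  Subgroup.mem_center_iff.1 (d.zc hz) g

theorem z_conj {z : G} (hz : z ∈ Z) (g : G) : g * z * g⁻¹ = z := by
  rw [d.z_comm hz, mul_inv_cancel_right]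

theorem conj_notMem_Z {b : G} (hb : b ∉ Z) (g : G) : g * b * g⁻¹ ∉ Z := fun h => hb (by
  have h1 := d.z_conj h g⁻¹
  rw [inv_inv] at h1
  rw [← h1] at h
  simpa [mul_assoc] using h)

theorem notMem_Z_of_two {b : G} (h2 : 2 ∣ orderOf b) : b ∉ Z := fun h => by
  have h1 : orderOf b ∣ Nat.card Z := Subgroup.orderOf_dvd_natCard Z h
  exact d.zodd.not_two_dvd_nat (h2.trans h1)

theorem cen_le_of_two {b c : G} (hb : b ∈ B) (h2 : 2 ∣ orderOf b) (hc : c * b = b * c) : c ∈ B := by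
  rw [← d.cen b hb h2]
  exact Subgroup.mem_centralizer_singleton_iff.2 hc

/-- A conjugation keeping an element of even order in `B` normalises `B`. -/
theorem mem_of_two {b g : G} (hb : b ∈ B) (h2 : 2 ∣ orderOf b) (hg : g * b * g⁻¹ ∈ B) :
    g ∈ NB := by
  have h2' : 2 ∣ orderOf (g * b * g⁻¹) := by rwa [orderOf_conj_eq]
  rw [Subgroup.mem_normalizer_iff]
  intro x
  constructor
  · intro hx
    refine d.cen_le_of_two hg h2' ?_
    calc g * x * g⁻¹ * (g * b * g⁻¹) = g * (x * b) * g⁻¹ := by group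
      _ = g * (b * x) * g⁻¹ := by rw [d.comm x hx b hb]
      _ = _ := by group
  · intro hx
    refine d.cen_le_of_two hb h2 ?_
    have h := d.comm _ hx _ hg
    calc x * b = g⁻¹ * (g * x * g⁻¹ * (g * b * g⁻¹)) * g := by group
      _ = g⁻¹ * (g * b * g⁻¹ * (g * x * g⁻¹)) * g := by rw [h]
      _ = _ := by group

theorem conj_mem {h b : G} (hh : h ∈ NB) (hb : b ∈ B) : h * b * h⁻¹ ∈ B :=
  (Subgroup.mem_normalizer_iff.1 hh b).1 hb

theorem conj_mem' {h b : G} (hh : h ∈ NB) (hb : b ∈ B) : h⁻¹ * b * h ∈ B :=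
  (Subgroup.mem_normalizer_iff''.1 hh b).1 hb

theorem mem_P_of_isPGroup {b : G} (hb : b ∈ B) (hp : IsPGroup 2 (Subgroup.zpowers b)) :
    b ∈ (P : Subgroup G) := by
  have hle : Subgroup.zpowers b ≤ Subgroup.normalizer ((P : Subgroup G) : Set G) := by
    rw [Subgroup.zpowers_le, Subgroup.mem_normalizer_iff]
    intro x
    constructor
    · intro hx
      rwa [d.comm b hb x (d.pB hx), mul_inv_cancel_right]
    · intro hx
      have h := d.comm b hb _ (d.pB hx)
      have hxe : b * x * b⁻¹ = x := by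
        calc b * x * b⁻¹ = b⁻¹ * (b * (b * x * b⁻¹)) := by group
          _ = b⁻¹ * (b * x * b⁻¹ * b) := by rw [h]
          _ = x := by group
      rwa [hxe] at hx
  have hsup := P.isPGroup'.to_sup_of_normal_left' hp hle
  have := P.is_maximal' hsup le_sup_left
  rw [← this]
  exact Subgroup.mem_sup_right (Subgroup.mem_zpowers b)

theorem P_conj {h x : G} (hh : h ∈ NB) (hx : x ∈ (P : Subgroup G)) :
    h * x * h⁻¹ ∈ (P : Subgroup G) := by
  refine d.mem_P_of_isPGroup (d.conj_mem hh (d.pB hx)) ?_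
  obtain ⟨m, hm⟩ := P.isPGroup' ⟨x, hx⟩
  intro ⟨y, hy⟩
  obtain ⟨i, rfl⟩ := Subgroup.mem_zpowers_iff.1 hy
  refine ⟨m, Subtype.ext ?_⟩
  have hx1 : x ^ 2 ^ m = 1 := by simpa using congrArg Subtype.val hm
  have hc : (h * x * h⁻¹) ^ 2 ^ m = 1 := by rw [conj_pow, hx1, mul_one, mul_inv_cancel]
  show ((h * x * h⁻¹) ^ i) ^ 2 ^ m = 1
  rw [← zpow_natCast, ← zpow_mul, mul_comm, zpow_mul, zpow_natCast, hc, one_zpow]

/-- The 2-elements of the normaliser lie in `P`. -/
theorem mem_P_of_normalizer {h : G} (hh : h ∈ NB) (hp : IsPGroup 2 (Subgroup.zpowers h)) :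
    h ∈ (P : Subgroup G) := by
  have hle : Subgroup.zpowers h ≤ Subgroup.normalizer ((P : Subgroup G) : Set G) := by
    rw [Subgroup.zpowers_le, Subgroup.mem_normalizer_iff]
    refine fun x => ⟨fun hx => d.P_conj hh hx, fun hx => ?_⟩
    simpa [mul_assoc] using d.P_conj (inv_mem hh) hx
  have hsup := P.isPGroup'.to_sup_of_normal_left' hp hle
  have := P.is_maximal' hsup le_sup_left
  rw [← this]
  exact Subgroup.mem_sup_right (Subgroup.mem_zpowers h)

theorem invol_mem_B {h : G} (hh : h ∈ NB) (h2 : orderOf h = 2) : h ∈ B :=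
  d.pB (d.mem_P_of_normalizer hh (isPGroup_zpowers_of_invol h2))

theorem two_dvd_orderOf {p : G} (hp : p ∈ (P : Subgroup G)) (h1 : p ≠ 1) : 2 ∣ orderOf p := by
  obtain ⟨m, hm⟩ := P.isPGroup' ⟨p, hp⟩
  have hd : orderOf p ∣ 2 ^ m := orderOf_dvd_of_pow_eq_one (by simpa using congrArg Subtype.val hm)
  obtain ⟨j, -, hj⟩ := (Nat.dvd_prime_pow Nat.prime_two).1 hd
  rcases j with _ | j
  · exact absurd (orderOf_eq_one_iff.1 (by rw [hj, pow_zero])) h1
  · exact ⟨2 ^ j, by rw [hj, pow_succ']⟩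

/-- The elements of square one of `B`. -/
def omega : Subgroup G where
  carrier := {x | x ∈ B ∧ x * x = 1}
  mul_mem' := fun {a b} ha hb => ⟨mul_mem ha.1 hb.1, by
    rw [mul_assoc, ← mul_assoc b a b, d.comm b hb.1 a ha.1, mul_assoc, hb.2, mul_one, ha.2]⟩
  one_mem' := ⟨one_mem B, mul_one 1⟩
  inv_mem' := fun {a} ha => ⟨inv_mem ha.1, by rw [← mul_inv_rev, ha.2, inv_one]⟩

theorem omega_le : d.omega ≤ (P : Subgroup G) := by
  intro x hx
  refine d.mem_P_of_isPGroup hx.1 ?_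
  by_cases h1 : x = 1
  · subst h1; rw [Subgroup.zpowers_one_eq_bot]; exact IsPGroup.of_bot
  · exact isPGroup_zpowers_of_invol (invol_of_mul_self hx.2 h1)

theorem card_omega : Nat.card d.omega = (invB B).card + 1 := by
  rw [Nat.card_eq_fintype_card, Fintype.card_subtype]
  have he : (Finset.univ.filter fun x => x ∈ d.omega) = insert (1 : G) (invB B) := by
    ext x
    simp only [Finset.mem_filter, Finset.mem_univ, true_and, Finset.mem_insert, mem_invB]
    constructor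
    · intro hx
      by_cases h1 : x = 1
      · exact Or.inl h1
      · exact Or.inr ⟨hx.1, invol_of_mul_self hx.2 h1⟩
    · rintro (rfl | ⟨hx, h2⟩)
      · exact one_mem _
      · exact ⟨hx, invol_mul_self h2⟩
  rw [he, Finset.card_insert_of_notMem]
  rw [mem_invB, orderOf_one]
  omega

theorem three_le : 3 ≤ (invB B).card := by
  obtain ⟨m, hm⟩ := IsPGroup.iff_card.1 (P.isPGroup'.to_le d.omega_le)
  rw [d.card_omega] at hm
  by_contra hlt
  refine d.ncyc ?_
  have : IsMulCommutative (P : Subgroup G) :=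
    ⟨⟨fun a b => Subtype.ext (d.comm a (d.pB a.2) b (d.pB b.2))⟩⟩
  open scoped IsMulCommutative in
  refine CfsgLib.Coprime.isCyclic_of_card_prime_roots fun q hq => ?_
  open scoped IsMulCommutative in
  by_cases hq2 : q = 2
  · subst hq2
    have hsmall : Nat.card d.omega ≤ 2 := by
      rw [d.card_omega, hm]
      rcases m with _ | _ | m
      · simp
      · simp
      · rw [pow_succ, pow_succ] at hm
        have := Nat.one_le_two_pow (n := m)
        omega
    refine le_trans (Nat.card_le_card_of_injective (fun x => (⟨((x.1 : (P : Subgroup G)) : G),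
      d.pB x.1.2, by
        have h := congrArg Subtype.val (MonoidHom.mem_ker.1 x.2)
        simpa [pow_two] using h⟩ : d.omega)) ?_) hsmall
    intro a b h
    exact Subtype.ext (Subtype.ext (congrArg (fun y : d.omega => (y : G)) h :))
  · refine le_trans ?_ hq.one_le
    refine Finite.card_le_one_iff_subsingleton.2 ⟨fun a b => ?_⟩
    have key : ∀ a : (powMonoidHom q : (P : Subgroup G) →* (P : Subgroup G)).ker, a = 1 := by
      intro a
      by_contra ha
      have h1 : ((a.1 : (P : Subgroup G)) : G) ≠ 1 := fun h => ha (Subtype.ext (Subtype.ext h))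
      have h2 := d.two_dvd_orderOf a.1.2 h1
      have h3 : orderOf ((a.1 : (P : Subgroup G)) : G) ∣ q := orderOf_dvd_of_pow_eq_one (by
        simpa using congrArg Subtype.val (MonoidHom.mem_ker.1 a.2))
      exact hq2 ((Nat.prime_dvd_prime_iff_eq Nat.prime_two hq).1 (h2.trans h3)).symm
    rw [key a, key b]

theorem odd_e : Odd (invB B).card := by
  obtain ⟨m, hm⟩ := IsPGroup.iff_card.1 (P.isPGroup'.to_le d.omega_le)
  rw [d.card_omega] at hm
  have := d.three_le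
  rcases m with _ | m
  · rw [pow_zero] at hm; omega
  · rw [pow_succ'] at hm
    refine Nat.not_even_iff_odd.1 fun h => ?_
    have h' : Even ((invB B).card + 1) := hm ▸ even_two_mul _
    exact (Nat.even_add_one.1 h') h

theorem exists_inv : ∃ v, v ∈ invB B :=
  Finset.card_pos.1 (by have := d.three_le; omega)

theorem exists_notMem : ∃ g : G, g ∉ NB := by
  by_contra h
  push Not at h
  exact d.nn (eq_top_iff.2 fun x _ => h x)

theorem two_dvd_of_mem {v : G} (hv : v ∈ invB B) : 2 ∣ orderOf v := (mem_invB.1 hv).2.symm ▸ dvd_rfl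

/-- An involution conjugate out of `B` is conjugate to every involution of `B` by a power of
their product. -/
theorem exists_zpow_conj {g v w : G} (hv : v ∈ invB B) (hw : w ∈ invB B)
    (hg : g * v * g⁻¹ ∉ B) :
    ∃ y ∈ Subgroup.zpowers (g * v * g⁻¹ * w), y * (g * v * g⁻¹) * y⁻¹ = w := by
  obtain ⟨hvB, hv2⟩ := mem_invB.1 hv
  obtain ⟨hwB, hw2⟩ := mem_invB.1 hw
  have hx2 : orderOf (g * v * g⁻¹) = 2 := by rw [orderOf_conj_eq, hv2]
  refine exists_conj_of_odd hx2 hw2 (Nat.not_even_iff_odd.1 fun hev => hg ?_)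
  obtain ⟨z, hz2, hzx, hzw⟩ := exists_commute_both hx2 hw2 hev
  obtain ⟨k, hk⟩ := exists_conj_invol_mem_sylow P hz2
  have hu2 : 2 ∣ orderOf (k * z * k⁻¹) := by rw [orderOf_conj_eq, hz2]
  have hcomm : ∀ t : G, Commute z t → k * t * k⁻¹ ∈ B := fun t ht =>
    d.cen_le_of_two (d.pB hk) hu2 (by
      calc k * t * k⁻¹ * (k * z * k⁻¹) = k * (t * z) * k⁻¹ := by group
        _ = k * (z * t) * k⁻¹ := by rw [ht.eq]
        _ = _ := by group)
  exact (Subgroup.mem_normalizer_iff.1 (d.mem_of_two hwB (d.two_dvd_of_mem hw)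
    (hcomm w hzw)) _).2 (hcomm _ hzx)

/-- One class of involutions. -/
theorem exists_normalizer_conj {v w : G} (hv : v ∈ invB B) (hw : w ∈ invB B) :
    ∃ h ∈ NB, h * v * h⁻¹ = w := by
  obtain ⟨g, hg⟩ := d.exists_notMem
  have hgv : g * v * g⁻¹ ∉ B := fun h => hg (d.mem_of_two (mem_invB.1 hv).1 (d.two_dvd_of_mem hv) h)
  obtain ⟨y, -, hy⟩ := d.exists_zpow_conj hv hw hgv
  have e : (y * g) * v * (y * g)⁻¹ = w := by rw [← hy]; group
  exact ⟨y * g, d.mem_of_two (mem_invB.1 hv).1 (d.two_dvd_of_mem hv)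
    (e.symm ▸ (mem_invB.1 hw).1), e⟩

theorem exists_conj_eq {v s : G} (hv : v ∈ invB B) (hs : orderOf s = 2) :
    ∃ g : G, g * v * g⁻¹ = s := by
  obtain ⟨k, hk⟩ := exists_conj_invol_mem_sylow P hs
  obtain ⟨h, -, e⟩ := d.exists_normalizer_conj hv
    (mem_invB.2 ⟨d.pB hk, by rw [orderOf_conj_eq, hs]⟩)
  exact ⟨k⁻¹ * h, by rw [show k⁻¹ * h * v * (k⁻¹ * h)⁻¹ = k⁻¹ * (h * v * h⁻¹) * k by group, e]; group⟩

/-- `B` is the centraliser of each of its elements outside `Z`. -/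
theorem cen_eq {x : G} (hx : x ∈ B) (hxZ : x ∉ Z) : Subgroup.centralizer ({x} : Set G) = B := by
  refine le_antisymm (fun c hc => ?_) fun b hb =>
    Subgroup.mem_centralizer_singleton_iff.2 (d.comm b hb x hx)
  rw [Subgroup.mem_centralizer_singleton_iff] at hc
  by_contra hcB
  have hcN : c ∉ NB := fun h => hcB (d.free x hx hxZ c h hc)
  obtain ⟨v, hv, w, hw, hvw⟩ := Finset.one_lt_card.1 (by have := d.three_le; omega : 1 < (invB B).card)
  obtain ⟨hvB, hv2⟩ := mem_invB.1 hv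
  have hcv : c * v * c⁻¹ ∉ B := fun h => hcN (d.mem_of_two hvB (d.two_dvd_of_mem hv) h)
  obtain ⟨y, hy, e⟩ := d.exists_zpow_conj hv hw hcv
  have hyx : y * x = x * y := by
    obtain ⟨i, rfl⟩ := Subgroup.mem_zpowers_iff.1 hy
    have hcc : Commute x c := hc.symm
    exact ((((hcc.mul_right (show Commute x v from d.comm x hx v hvB)).mul_right
      hcc.inv_right).mul_right (show Commute x w from d.comm x hx w (mem_invB.1 hw).1)).zpow_right
        i).eq.symm
  have hN : y * c ∈ NB := d.mem_of_two hvB (d.two_dvd_of_mem hv) (by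
    rw [show y * c * v * (y * c)⁻¹ = y * (c * v * c⁻¹) * y⁻¹ by group, e]
    exact (mem_invB.1 hw).1)
  have hycB : y * c ∈ B := d.free x hx hxZ _ hN (by rw [mul_assoc, hc, ← mul_assoc, hyx, mul_assoc])
  refine hvw ?_
  rw [← e, show y * (c * v * c⁻¹) * y⁻¹ = (y * c) * v * (y * c)⁻¹ by group,
    d.comm _ hycB v hvB, mul_inv_cancel_right]

theorem mem_of_notZ {b g : G} (hb : b ∈ B) (hbZ : b ∉ Z) (hg : g * b * g⁻¹ ∈ B) : g ∈ NB := by
  have h1 := d.cen_eq hg (d.conj_notMem_Z hbZ g)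
  have h2 := d.cen_eq hb hbZ
  rw [Subgroup.mem_normalizer_iff]
  intro x
  have l1 : x ∈ B ↔ x * b = b * x := by
    rw [← Subgroup.mem_centralizer_singleton_iff, h2]
  have l2 : g * x * g⁻¹ ∈ B ↔ g * x * g⁻¹ * (g * b * g⁻¹) = g * b * g⁻¹ * (g * x * g⁻¹) := by
    rw [← Subgroup.mem_centralizer_singleton_iff, h1]
  rw [l1, l2, show g * x * g⁻¹ * (g * b * g⁻¹) = g * (x * b) * g⁻¹ by group,
    show g * b * g⁻¹ * (g * x * g⁻¹) = g * (b * x) * g⁻¹ by group, mul_left_inj, mul_right_inj]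

theorem conj_invB {h v : G} (hh : h ∈ NB) (hv : v ∈ invB B) : h * v * h⁻¹ ∈ invB B :=
  mem_invB.2 ⟨d.conj_mem hh (mem_invB.1 hv).1, by rw [orderOf_conj_eq, (mem_invB.1 hv).2]⟩

theorem card_fibre {v : G} (hv : v ∈ invB B) (g : G) :
    (Finset.univ.filter fun x : G => x * v * x⁻¹ = g * v * g⁻¹).card = Nat.card B := by
  rw [Nat.card_eq_fintype_card, ← Finset.card_univ]
  symm
  refine Finset.card_bij (fun b _ => g * (b : G)) (fun b _ => ?_)
    (fun a _ b _ h => Subtype.ext (mul_left_cancel h)) fun x hx => ?_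
  · simp only [Finset.mem_filter, Finset.mem_univ, true_and]
    rw [show g * (b : G) * v * (g * (b : G))⁻¹ = g * ((b : G) * v * (b : G)⁻¹) * g⁻¹ by group,
      d.comm _ b.2 v (mem_invB.1 hv).1, mul_inv_cancel_right]
  · simp only [Finset.mem_filter, Finset.mem_univ, true_and] at hx
    refine ⟨⟨g⁻¹ * x, d.cen_le_of_two (mem_invB.1 hv).1 (d.two_dvd_of_mem hv) ?_⟩,
      Finset.mem_univ _, mul_inv_cancel_left g x⟩
    calc g⁻¹ * x * v = g⁻¹ * (x * v * x⁻¹) * x := by group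
      _ = v * (g⁻¹ * x) := by rw [hx]; group

/-- Sums over the normaliser of functions of the conjugate of an involution. -/
theorem sum_normalizer {M : Type*} [AddCommMonoid M] {v : G} (hv : v ∈ invB B) (f : G → M) :
    ∑ g ∈ Finset.univ.filter (fun g : G => g ∈ NB), f (g * v * g⁻¹) =
      Nat.card B • ∑ w ∈ invB B, f w := by
  rw [← Finset.sum_fiberwise_of_maps_to (g := fun g : G => g * v * g⁻¹) (t := invB B)
    (fun g hg => d.conj_invB (Finset.mem_filter.1 hg).2 hv), Finset.smul_sum]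
  refine Finset.sum_congr rfl fun w hw => ?_
  obtain ⟨g₀, hg₀, e⟩ := d.exists_normalizer_conj hv hw
  rw [Finset.sum_congr rfl (fun x hx => by rw [(Finset.mem_filter.1 hx).2]), Finset.sum_const,
    Finset.filter_filter]
  congr 1
  rw [← d.card_fibre hv g₀, e]
  refine congrArg Finset.card (Finset.filter_congr fun x _ => ⟨fun h => h.2, fun h => ⟨?_, h⟩⟩)
  exact d.mem_of_two (mem_invB.1 hv).1 (d.two_dvd_of_mem hv) (h.symm ▸ (mem_invB.1 hw).1)

theorem card_normalizer : Nat.card NB = (invB B).card * Nat.card B := by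
  obtain ⟨v, hv⟩ := d.exists_inv
  have h := d.sum_normalizer hv (fun _ => (1 : ℕ))
  simp only [Finset.sum_const, smul_eq_mul, mul_one] at h
  rw [Nat.card_eq_fintype_card, Fintype.card_subtype, h, mul_comm]

/-- The number of involutions. -/
theorem card_invol_mul :
    (Finset.univ.filter fun s : G => orderOf s = 2).card * Nat.card B = Nat.card G := by
  obtain ⟨v, hv⟩ := d.exists_inv
  rw [Nat.card_eq_fintype_card (α := G), ← Finset.card_univ,
    Finset.card_eq_sum_card_fiberwise (s := (Finset.univ : Finset G)) (f := fun g : G => g * v * g⁻¹)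
      (t := Finset.univ.filter fun s : G => orderOf s = 2)
      (fun g _ => Finset.mem_filter.2 ⟨Finset.mem_univ _, by rw [orderOf_conj_eq, (mem_invB.1 hv).2]⟩)]
  refine (Finset.sum_const_nat (m := Nat.card B) ?_).symm
  intro s hs
  obtain ⟨g, rfl⟩ := d.exists_conj_eq hv (Finset.mem_filter.1 hs).2
  exact d.card_fibre hv g

/-- The involutions of a coset of `NB` other than `NB` are separated modulo `B`. -/
theorem eq_of_coset {i j j' : G} (hi : orderOf i = 2) (hj : orderOf j = 2) (hj' : orderOf j' = 2)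
    (hjN : j ∉ NB) (hB : (i * j)⁻¹ * (i * j') ∈ B) : j' = j := by
  have hb : j * j' ∈ B := by
    rwa [show (i * j)⁻¹ * (i * j') = j⁻¹ * j' by group, invol_inv hj] at hB
  by_cases hZ : j * j' ∈ Z
  · have h1 : j * (j * j') * j⁻¹ = (j * j')⁻¹ := conj_left_mul hj hj'
    rw [d.z_conj hZ j] at h1
    by_contra hne
    refine d.notMem_Z_of_two ?_ hZ
    rw [invol_of_inv h1.symm fun e => hne ?_]
    rw [← invol_inv hj]; exact (inv_eq_of_mul_eq_one_right e).symm
  · refine absurd (d.mem_of_notZ hb hZ ?_) hjN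
    rw [conj_left_mul hj hj']
    exact inv_mem hb

theorem odd_of_fix {x g : G} (hx : x ∈ B) (hg : g ∉ NB) (hfix : g⁻¹ * x * g ∈ NB) :
    Odd (orderOf x) := by
  rw [← Nat.not_even_iff_odd]
  intro hev
  obtain ⟨m, hm⟩ := hev
  have hm0 : m ≠ 0 := by have := orderOf_pos x; omega
  have h2 : orderOf (x ^ m) = 2 := by
    rw [orderOf_pow' _ hm0, hm, Nat.gcd_eq_right ⟨2, by omega⟩, ← two_mul,
      Nat.mul_div_cancel _ (by omega)]
  have hmN : g⁻¹ * x ^ m * g ∈ NB := by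
    have h := pow_mem hfix m
    rw [show (g⁻¹ * x * g) ^ m = g⁻¹ * x ^ m * g by
      simpa using conj_pow (a := g⁻¹) (b := x) (i := m)] at h
    exact h
  have hmB : g⁻¹ * x ^ m * g ∈ B :=
    d.invol_mem_B hmN (by rw [orderOf_conj_inv_eq, h2])
  refine hg (inv_mem_iff.1 ?_)
  exact d.mem_of_two (pow_mem hx m) (h2.symm ▸ dvd_rfl) (by rwa [inv_inv])

theorem smul_coe_eq_iff (x g : G) :
    x • (g : G ⧸ NB) = (g : G ⧸ NB) ↔ g⁻¹ * x * g ∈ NB := by
  rw [MulAction.Quotient.smul_coe, smul_eq_mul, eq_comm, QuotientGroup.eq, ← mul_assoc]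

/-- A nontrivial element of the Sylow subgroup of a conjugate of `B` fixes only that conjugate. -/
theorem eq_of_P_fix {g g' p : G} (hp : p ∈ (P : Subgroup G)) (h1 : p ≠ 1)
    (hfix : (g * p * g⁻¹) • (g' : G ⧸ NB) = (g' : G ⧸ NB)) :
    (g' : G ⧸ NB) = (g : G ⧸ NB) := by
  rw [d.smul_coe_eq_iff] at hfix
  rw [show g'⁻¹ * (g * p * g⁻¹) * g' = (g'⁻¹ * g) * p * (g'⁻¹ * g)⁻¹ by group] at hfix
  have hq : (g'⁻¹ * g) * p * (g'⁻¹ * g)⁻¹ ∈ (P : Subgroup G) := by
    refine d.mem_P_of_normalizer hfix ?_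
    obtain ⟨m, hm⟩ := P.isPGroup' ⟨p, hp⟩
    have hp1 : p ^ 2 ^ m = 1 := by simpa using congrArg Subtype.val hm
    intro ⟨y, hy⟩
    obtain ⟨i, rfl⟩ := Subgroup.mem_zpowers_iff.1 hy
    refine ⟨m, Subtype.ext ?_⟩
    show (((g'⁻¹ * g) * p * (g'⁻¹ * g)⁻¹) ^ i) ^ 2 ^ m = 1
    rw [← zpow_natCast, ← zpow_mul, mul_comm, zpow_mul, zpow_natCast, conj_pow, hp1, mul_one,
      mul_inv_cancel, one_zpow]
  exact QuotientGroup.eq.2 (d.mem_of_two (d.pB hp) (d.two_dvd_orderOf hp h1) (d.pB hq))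

/-- An element of `B` outside `Z` fixing a second coset has few fixed cosets. -/
theorem fix_bound {x g : G} (hx : x ∈ B) (hxZ : x ∉ Z) (hg : g ∉ NB)
    (hfix : g⁻¹ * x * g ∈ NB) :
    Nat.card (P : Subgroup G) * Nat.card {w : G ⧸ NB // w ≠ (g : G ⧸ NB) ∧ x • w = w} + 1 ≤
      Subgroup.index NB := by
  rw [Subgroup.index_eq_card, ← Nat.card_prod, Nat.card_eq_fintype_card (α := G ⧸ NB),
    Nat.card_eq_fintype_card]
  refine Fintype.card_lt_of_injective_of_notMem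
    (fun q : ↥(P : Subgroup G) × {w : G ⧸ NB // w ≠ (g : G ⧸ NB) ∧ x • w = w} =>
      (g * (q.1 : G) * g⁻¹) • (q.2 : G ⧸ NB)) ?_ (b := (g : G ⧸ NB)) ?_
  · rintro ⟨p, w, hwg, hw⟩ ⟨p', w', hwg', hw'⟩ h
    simp only at h
    have hr : w' = (g * (((p'⁻¹ * p : (P : Subgroup G))) : G) * g⁻¹) • w := by
      rw [show g * (((p'⁻¹ * p : (P : Subgroup G))) : G) * g⁻¹ =
          (g * (p' : G) * g⁻¹)⁻¹ * (g * (p : G) * g⁻¹) by
        rw [Subgroup.coe_mul, Subgroup.coe_inv]; group, mul_smul, h, inv_smul_smul]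
    obtain ⟨r, hrdef⟩ : ∃ r, r = p'⁻¹ * p := ⟨_, rfl⟩
    rw [← hrdef] at hr
    by_cases hr1 : r = 1
    · rw [hr1] at hrdef hr
      simp only [OneMemClass.coe_one, mul_one, mul_inv_cancel, one_smul] at hr
      subst hr
      rw [inv_mul_eq_one.1 hrdef.symm]
    exfalso
    have hr1' : (r : G) ≠ 1 := fun e => hr1 (Subtype.ext e)
    have hyr : g⁻¹ * x * g * (r : G) * (g⁻¹ * x * g)⁻¹ * (r : G)⁻¹ ∈ (P : Subgroup G) :=
      mul_mem (d.P_conj hfix r.2) (inv_mem r.2)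
    by_cases hc : g⁻¹ * x * g * (r : G) * (g⁻¹ * x * g)⁻¹ * (r : G)⁻¹ = 1
    · rw [mul_inv_eq_one, mul_inv_eq_iff_eq_mul] at hc
      have hyB : g⁻¹ * x * g ∈ B := d.cen_le_of_two (d.pB r.2) (d.two_dvd_orderOf r.2 hr1') hc
      exact hg (inv_mem_iff.1 (d.mem_of_notZ hx hxZ (by rwa [inv_inv])))
    · refine hwg' ?_
      obtain ⟨k, rfl⟩ := QuotientGroup.mk_surjective w'
      refine d.eq_of_P_fix hyr hc ?_
      have e1 : g * (g⁻¹ * x * g * (r : G) * (g⁻¹ * x * g)⁻¹ * (r : G)⁻¹) * g⁻¹ =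
          x * (g * (r : G) * g⁻¹) * x⁻¹ * (g * (r : G) * g⁻¹)⁻¹ := by group
      rw [e1, mul_smul, mul_smul, mul_smul]
      have e2 : (g * (r : G) * g⁻¹)⁻¹ • (k : G ⧸ NB) = w := by rw [hr, inv_smul_smul]
      have e3 : x⁻¹ • w = w := by rw [inv_smul_eq_iff, hw]
      rw [e2, e3, ← hr, hw']
  · rintro ⟨⟨p, w, hwg, hwx⟩, h'⟩
    refine hwg ?_
    have h : (g * (p : G) * g⁻¹) • w = (g : G ⧸ NB) := h'
    rw [← inv_smul_eq_iff.2 h.symm, d.smul_coe_eq_iff]
    rw [show g⁻¹ * (g * (p : G) * g⁻¹)⁻¹ * g = (p : G)⁻¹ by group]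
    exact inv_mem (d.B_le (d.pB p.2))

/-- Replacing the fixed coset `g NB` by `NB`. -/
theorem card_fix_swap {x g : G} (hx : x ∈ B) (hg : g ∉ NB) (hfix : g⁻¹ * x * g ∈ NB) :
    Nat.card {w : G ⧸ NB // w ≠ ((1 : G) : G ⧸ NB) ∧ x • w = w} =
      Nat.card {w : G ⧸ NB // w ≠ (g : G ⧸ NB) ∧ x • w = w} := by
  refine Nat.card_congr ((Equiv.swap ((1 : G) : G ⧸ NB) (g : G ⧸ NB)).subtypeEquiv fun w => ?_)
  have h1 : x • ((1 : G) : G ⧸ NB) = ((1 : G) : G ⧸ NB) := by
    rw [d.smul_coe_eq_iff]; simpa using d.B_le hx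
  have h2 := (d.smul_coe_eq_iff x g).2 hfix
  have hne : ((1 : G) : G ⧸ NB) ≠ (g : G ⧸ NB) := fun e => hg (by simpa using QuotientGroup.eq.1 e)
  by_cases e1 : w = ((1 : G) : G ⧸ NB)
  · subst e1; simp [h1, h2]
  by_cases e2 : w = (g : G ⧸ NB)
  · subst e2; simp [h1, h2, hne, hne.symm]
  rw [Equiv.swap_apply_of_ne_of_ne e1 e2]
  simp [e1, e2]

/-- There are many conjugates of `B`. -/
theorem card_B_le : Nat.card B ≤ Subgroup.index NB * Nat.card Z := by
  obtain ⟨g, hg⟩ := d.exists_notMem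
  let S : Finset G := Finset.univ.filter fun s => s ∈ B ∧ g⁻¹ * s * g ∈ NB
  let Φ : G → G ⧸ NB := fun b => b • (g : G ⧸ NB)
  have hB : Nat.card B = (Finset.univ.filter fun b => b ∈ B).card := by
    rw [Nat.card_eq_fintype_card, Fintype.card_subtype]
  have hS : ∀ b b', b ∈ B → b' ∈ B → Φ b' = Φ b → b⁻¹ * b' ∈ S := by
    intro b b' hb hb' h
    refine Finset.mem_filter.2 ⟨Finset.mem_univ _, mul_mem (inv_mem hb) hb', ?_⟩
    rw [← d.smul_coe_eq_iff, mul_smul, show b' • (g : G ⧸ NB) = b • (g : G ⧸ NB) from h,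
      inv_smul_smul]
  have hZc : (Finset.univ.filter fun z => z ∈ Z).card = Nat.card Z := by
    rw [Nat.card_eq_fintype_card, Fintype.card_subtype]
  by_cases hSZ : ∀ s ∈ S, s ∈ Z
  · rw [hB, Subgroup.index_eq_card, Nat.card_eq_fintype_card (α := G ⧸ NB), mul_comm,
      ← Finset.card_univ (α := G ⧸ NB)]
    refine le_trans ?_ (Nat.mul_le_mul_left _ (Finset.card_le_univ
      ((Finset.univ.filter fun b => b ∈ B).image Φ)))
    refine Finset.card_le_mul_card_image _ _ fun w hw => ?_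
    obtain ⟨b, hb, rfl⟩ := Finset.mem_image.1 hw
    rw [← hZc]
    refine Finset.card_le_card_of_injOn (fun b' => b⁻¹ * b') (fun b' hb' => ?_)
      (fun _ _ _ _ h => mul_left_cancel h)
    rw [Finset.mem_coe, Finset.mem_filter] at hb'
    exact Finset.mem_filter.2 ⟨Finset.mem_univ _, hSZ _ (hS b b' (Finset.mem_filter.1 hb).2
      (Finset.mem_filter.1 hb'.1).2 hb'.2)⟩
  push Not at hSZ
  obtain ⟨x, hxS, hxZ⟩ := hSZ
  obtain ⟨-, hxB, hxfix⟩ := Finset.mem_filter.1 hxS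
  let F : Finset (G ⧸ NB) := Finset.univ.filter fun w => w ≠ (g : G ⧸ NB) ∧ x • w = w
  have hF : Nat.card (P : Subgroup G) * F.card + 1 ≤ Subgroup.index NB := by
    have h := d.fix_bound hxB hxZ hg hxfix
    rwa [Nat.card_eq_fintype_card (α := {w : G ⧸ NB // _}), Fintype.card_subtype] at h
  -- `|B| ≤ |F| |S|`
  have h1 : Nat.card B ≤ S.card * F.card := by
    rw [hB]
    let Ψ : G → G ⧸ NB := fun b =>
      if g⁻¹ * b * g ∈ NB then ((1 : G) : G ⧸ NB) else Φ b
    refine le_trans (Finset.card_le_mul_card_image (f := Ψ) _ S.card fun w hw => ?_)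
      (Nat.mul_le_mul_left _ (Finset.card_le_card fun w hw => ?_))
    · obtain ⟨b, hb, rfl⟩ := Finset.mem_image.1 hw
      obtain ⟨-, hbB⟩ := Finset.mem_filter.1 hb
      have hne : ∀ c, c ∈ B → g⁻¹ * c * g ∉ NB → Φ c ≠ ((1 : G) : G ⧸ NB) := by
        intro c hc _ e
        have e' : (g : G ⧸ NB) = c⁻¹ • ((1 : G) : G ⧸ NB) := by rw [← e, inv_smul_smul]
        rw [MulAction.Quotient.smul_coe, smul_eq_mul, mul_one, QuotientGroup.eq] at e'
        exact hg (inv_mem_iff.1 (by simpa using mul_mem e' (d.B_le hc)))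
      refine Finset.card_le_card_of_injOn (fun b' => b⁻¹ * b') (fun b' hb' => ?_)
        (fun _ _ _ _ h => mul_left_cancel h)
      rw [Finset.mem_coe, Finset.mem_filter] at hb'
      obtain ⟨hb', e⟩ := hb'
      obtain ⟨-, hb'B⟩ := Finset.mem_filter.1 hb'
      simp only [Ψ] at e
      by_cases h : g⁻¹ * b * g ∈ NB <;> by_cases h' : g⁻¹ * b' * g ∈ NB
      · refine Finset.mem_filter.2 ⟨Finset.mem_univ _, mul_mem (inv_mem hbB) hb'B, ?_⟩
        rw [show g⁻¹ * (b⁻¹ * b') * g = (g⁻¹ * b * g)⁻¹ * (g⁻¹ * b' * g) by group]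
        exact mul_mem (inv_mem h) h'
      · rw [if_pos h, if_neg h'] at e; exact absurd e (hne _ hb'B h')
      · rw [if_neg h, if_pos h'] at e; exact absurd e.symm (hne _ hbB h)
      · rw [if_neg h, if_neg h'] at e; exact hS b b' hbB hb'B e
    · obtain ⟨b, hb, rfl⟩ := Finset.mem_image.1 hw
      obtain ⟨-, hbB⟩ := Finset.mem_filter.1 hb
      refine Finset.mem_filter.2 ⟨Finset.mem_univ _, ?_⟩
      simp only [Ψ]
      by_cases h : g⁻¹ * b * g ∈ NB
      · rw [if_pos h]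
        refine ⟨fun e => hg (by simpa using QuotientGroup.eq.1 e), ?_⟩
        rw [d.smul_coe_eq_iff]; simpa using d.B_le hxB
      · rw [if_neg h]
        refine ⟨fun e => h ((d.smul_coe_eq_iff b g).1 e), ?_⟩
        show x • b • (g : G ⧸ NB) = b • (g : G ⧸ NB)
        rw [← mul_smul, d.comm x hxB b hbB, mul_smul, (d.smul_coe_eq_iff x g).2 hxfix]
  -- `|S| ≤ e |Z|`
  have h2 : S.card ≤ Nat.card Z * (invB B).card := by
    obtain ⟨v, hv⟩ := d.exists_inv
    refine le_trans (Finset.card_le_mul_card_image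
      (f := fun s => (g⁻¹ * s * g) * v * (g⁻¹ * s * g)⁻¹) S (Nat.card Z) fun w hw => ?_)
      (Nat.mul_le_mul_left _ (Finset.card_le_card fun w hw => ?_))
    · obtain ⟨s, hs, rfl⟩ := Finset.mem_image.1 hw
      rw [← hZc]
      refine Finset.card_le_card_of_injOn (fun s' => s⁻¹ * s') (fun s' hs' => ?_)
        (fun _ _ _ _ h => mul_left_cancel h)
      rw [Finset.mem_coe, Finset.mem_filter] at hs'
      obtain ⟨hs', e⟩ := hs'
      refine Finset.mem_filter.2 ⟨Finset.mem_univ _, ?_⟩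
      obtain ⟨-, hsB, -⟩ := Finset.mem_filter.1 hs
      obtain ⟨-, hs'B, -⟩ := Finset.mem_filter.1 hs'
      have hkB : g⁻¹ * (s⁻¹ * s') * g ∈ B := d.cen_le_of_two (mem_invB.1 hv).1
        (d.two_dvd_of_mem hv) (by
          calc g⁻¹ * (s⁻¹ * s') * g * v
              = (g⁻¹ * s * g)⁻¹ * ((g⁻¹ * s' * g) * v * (g⁻¹ * s' * g)⁻¹) * (g⁻¹ * s' * g) := by
                group
            _ = v * (g⁻¹ * (s⁻¹ * s') * g) := by rw [e]; group)
      by_contra hZ
      exact hg (inv_mem_iff.1 (d.mem_of_notZ (mul_mem (inv_mem hsB) hs'B) hZ (by rwa [inv_inv])))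
    · obtain ⟨s, hs, rfl⟩ := Finset.mem_image.1 hw
      exact d.conj_invB (Finset.mem_filter.1 hs).2.2 hv
  have he : (invB B).card + 1 ≤ Nat.card (P : Subgroup G) :=
    d.card_omega ▸ Subgroup.card_le_of_le d.omega_le
  calc Nat.card B ≤ S.card * F.card := h1
    _ ≤ Nat.card Z * (invB B).card * F.card := Nat.mul_le_mul_right _ h2
    _ ≤ Nat.card Z * (Nat.card (P : Subgroup G) * F.card) := by
        rw [mul_assoc]; exact Nat.mul_le_mul_left _ (Nat.mul_le_mul_right _ (by omega))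
    _ ≤ _ := by rw [mul_comm]; exact Nat.mul_le_mul_right _ (by omega)

/-- With a small odd part, some coset of `NB` has trivial stabiliser in `B` modulo `Z`. -/
theorem exists_regular (hsmall : Nat.card (oddPart B) < (invB B).card * Nat.card Z) :
    ∃ g : G, g ∉ NB ∧ ∀ s ∈ B, g⁻¹ * s * g ∈ NB → s ∈ Z := by
  by_contra hcon
  push Not at hcon
  let o : G ⧸ NB := ((1 : G) : G ⧸ NB)
  let R : G → G ⧸ NB → Prop := fun x w => x • w = w
  let D : Finset G := Finset.univ.filter fun x => x ∈ B ∧ Odd (orderOf x) ∧ x ∉ Z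
  let W : Finset (G ⧸ NB) := Finset.univ.filter fun w => w ≠ o
  have hDc : D.card ≤ Nat.card (oddPart B) := by
    rw [Nat.card_coe_set_eq, ← Set.ncard_coe_finset]
    exact Set.ncard_le_ncard (fun x hx => by
      have := (Finset.mem_filter.1 hx).2; exact ⟨this.1, this.2.1⟩) (Set.toFinite _)
  -- every coset is fixed by at least `|Z|` elements
  have hlow : ∀ w ∈ W, Nat.card Z ≤ (D.bipartiteBelow R w).card := by
    intro w hw
    obtain ⟨g, rfl⟩ := QuotientGroup.mk_surjective w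
    have hgN : g ∉ NB := fun h => (Finset.mem_filter.1 hw).2
      (QuotientGroup.eq.2 (by simpa using inv_mem h))
    obtain ⟨s, hsB, hsfix, hsZ⟩ := hcon g hgN
    rw [Nat.card_eq_fintype_card, ← Finset.card_univ]
    refine Finset.card_le_card_of_injOn (fun z : Z => s * (z : G)) (fun z _ => ?_)
      (fun _ _ _ _ h => Subtype.ext (mul_left_cancel h))
    have hfix : g⁻¹ * (s * (z : G)) * g ∈ NB := by
      rw [show g⁻¹ * (s * (z : G)) * g = g⁻¹ * s * g * (g⁻¹ * (z : G) * g) by group]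
      refine mul_mem hsfix (d.B_le (d.zB ?_))
      have := d.z_conj z.2 g⁻¹
      rw [inv_inv] at this
      rw [this]; exact z.2
    refine Finset.mem_coe.2 (Finset.mem_bipartiteBelow _ |>.2 ⟨Finset.mem_filter.2
      ⟨Finset.mem_univ _, mul_mem hsB (d.zB z.2), d.odd_of_fix (mul_mem hsB (d.zB z.2)) hgN hfix,
        fun h => hsZ ?_⟩, (d.smul_coe_eq_iff _ g).2 hfix⟩)
    simpa using mul_mem h (inv_mem z.2)
  -- every element fixes few cosets
  have hup : ∀ x ∈ D, Nat.card (P : Subgroup G) * (W.bipartiteAbove R x).card ≤ W.card := by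
    intro x hx
    obtain ⟨-, hxB, -, hxZ⟩ := Finset.mem_filter.1 hx
    rcases (W.bipartiteAbove R x).eq_empty_or_nonempty with h | ⟨w, hw⟩
    · simp [h]
    rw [Finset.mem_bipartiteAbove] at hw
    obtain ⟨g, rfl⟩ := QuotientGroup.mk_surjective w
    have hgN : g ∉ NB := fun h => (Finset.mem_filter.1 hw.1).2
      (QuotientGroup.eq.2 (by simpa using inv_mem h))
    have hfix := (d.smul_coe_eq_iff x g).1 hw.2
    have h := d.fix_bound hxB hxZ hgN hfix
    rw [← d.card_fix_swap hxB hgN hfix, Nat.card_eq_fintype_card (α := {w : G ⧸ NB // _}),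
      Fintype.card_subtype] at h
    have e : W.bipartiteAbove R x =
        Finset.univ.filter fun w : G ⧸ NB => w ≠ ((1 : G) : G ⧸ NB) ∧ x • w = w := by
      ext w; simp [W, R, o, Finset.bipartiteAbove]
    have hW : W.card + 1 = Subgroup.index NB := by
      rw [Subgroup.index_eq_card, Nat.card_eq_fintype_card,
        show W = Finset.univ.erase o by ext w; simp [W],
        Finset.card_erase_add_one (Finset.mem_univ _), Finset.card_univ]
    rw [e]
    omega
  have hWpos : 0 < W.card := by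
    obtain ⟨g, hg⟩ := d.exists_notMem
    exact Finset.card_pos.2 ⟨(g : G ⧸ NB), Finset.mem_filter.2 ⟨Finset.mem_univ _,
      fun e => hg (by simpa using QuotientGroup.eq.1 e.symm)⟩⟩
  have h1 : Nat.card Z * W.card ≤ ∑ w ∈ W, (D.bipartiteBelow R w).card := by
    rw [mul_comm, ← smul_eq_mul, ← Finset.sum_const]
    exact Finset.sum_le_sum hlow
  have h2 : Nat.card (P : Subgroup G) * ∑ x ∈ D, (W.bipartiteAbove R x).card ≤ D.card * W.card := by
    rw [Finset.mul_sum, ← smul_eq_mul, ← Finset.sum_const]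
    exact Finset.sum_le_sum hup
  rw [Finset.sum_card_bipartiteAbove_eq_sum_card_bipartiteBelow] at h2
  have h3 : Nat.card (P : Subgroup G) * Nat.card Z * W.card ≤ D.card * W.card := by
    rw [mul_assoc]; exact le_trans (Nat.mul_le_mul_left _ h1) h2
  have h4 := Nat.le_of_mul_le_mul_right h3 hWpos
  have he : (invB B).card + 1 ≤ Nat.card (P : Subgroup G) :=
    d.card_omega ▸ Subgroup.card_le_of_le d.omega_le
  nlinarith [Nat.zero_le (Nat.card Z)]

/-- A trivial stabiliser makes the automiser abelian: an involution outside inverts it. -/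
theorem comm_mem_B (hsmall : Nat.card (oddPart B) < (invB B).card * Nat.card Z) :
    ∀ h₁ ∈ NB, ∀ h₂ ∈ NB, h₁ * h₂ * h₁⁻¹ * h₂⁻¹ ∈ B := by
  obtain ⟨g, hg, hreg⟩ := d.exists_regular hsmall
  obtain ⟨v, hv⟩ := d.exists_inv
  let I : Finset G := Finset.univ.filter fun s => orderOf s = 2
  let o : G ⧸ NB := ((1 : G) : G ⧸ NB)
  let fib : G ⧸ NB → Finset G := fun w => I.filter fun s => (s : G ⧸ NB) = w
  have hbase : (fib o) = invB B := by
    ext s
    simp only [fib, I, o, Finset.mem_filter, Finset.mem_univ, true_and, mem_invB]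
    refine ⟨fun ⟨h2, e⟩ => ⟨d.invol_mem_B ?_ h2, h2⟩, fun ⟨hB, h2⟩ => ⟨h2, ?_⟩⟩
    · simpa using QuotientGroup.eq.1 e.symm
    · rw [QuotientGroup.eq, mul_one]; exact inv_mem (d.B_le hB)
  have hout : ∀ w : G ⧸ NB, w ≠ o → ∀ i ∈ fib w, i ∉ NB := fun w hw i hi h => hw (by
    rw [← (Finset.mem_filter.1 hi).2, QuotientGroup.eq, mul_one]; exact inv_mem h)
  have himg : ∀ w : G ⧸ NB, ∀ i ∈ fib w, ∀ j ∈ fib w,
      (i * j) * v * (i * j)⁻¹ ∈ invB B := by
    intro w i hi j hj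
    refine d.conj_invB ?_ hv
    have e := QuotientGroup.eq.1 ((Finset.mem_filter.1 hi).2.trans (Finset.mem_filter.1 hj).2.symm)
    rwa [invol_inv (Finset.mem_filter.1 (Finset.mem_filter.1 hi).1).2] at e
  have hinj : ∀ w : G ⧸ NB, w ≠ o → ∀ i ∈ fib w, ∀ j ∈ fib w, ∀ j' ∈ fib w,
      (i * j) * v * (i * j)⁻¹ = (i * j') * v * (i * j')⁻¹ → j = j' := by
    intro w hw i hi j hj j' hj' e
    refine (d.eq_of_coset (Finset.mem_filter.1 (Finset.mem_filter.1 hi).1).2
      (Finset.mem_filter.1 (Finset.mem_filter.1 hj).1).2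
      (Finset.mem_filter.1 (Finset.mem_filter.1 hj').1).2 (hout w hw j hj) ?_).symm
    refine d.cen_le_of_two (mem_invB.1 hv).1 (d.two_dvd_of_mem hv) ?_
    calc (i * j)⁻¹ * (i * j') * v = (i * j)⁻¹ * ((i * j') * v * (i * j')⁻¹) * (i * j') := by group
      _ = v * ((i * j)⁻¹ * (i * j')) := by rw [← e]; group
  have hle : ∀ w ∈ (Finset.univ : Finset (G ⧸ NB)), (fib w).card ≤ (invB B).card := by
    intro w _
    by_cases hw : w = o
    · rw [hw, hbase]
    rcases (fib w).eq_empty_or_nonempty with h | ⟨i, hi⟩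
    · simp [h]
    · exact Finset.card_le_card_of_injOn (fun j => (i * j) * v * (i * j)⁻¹)
        (fun j hj => himg w i hi j hj) (fun j hj j' hj' e => hinj w hw i hi j hj j' hj' e)
  have hsum : ∑ w : G ⧸ NB, (fib w).card = ∑ _w : G ⧸ NB, (invB B).card := by
    rw [← Finset.card_eq_sum_card_fiberwise (fun _ _ => Finset.mem_univ _), Finset.sum_const,
      Finset.card_univ, smul_eq_mul, ← Nat.card_eq_fintype_card, ← Subgroup.index_eq_card]
    refine Nat.eq_of_mul_eq_mul_right (Nat.card_pos (α := B)) ?_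
    rw [mul_assoc, ← d.card_normalizer, d.card_invol_mul, mul_comm, Subgroup.card_mul_index]
  have heq := (Finset.sum_eq_sum_iff_of_le hle).1 hsum
  have hwne : (g : G ⧸ NB) ≠ o := fun e => hg (by simpa using QuotientGroup.eq.1 e.symm)
  obtain ⟨i, hi⟩ : (fib (g : G ⧸ NB)).Nonempty := Finset.card_pos.1 (by
    rw [heq _ (Finset.mem_univ _)]; have := d.three_le; omega)
  obtain ⟨hiI, hiw⟩ := Finset.mem_filter.1 hi
  have hi2 := (Finset.mem_filter.1 hiI).2
  have hii := invol_inv hi2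
  -- lifts inverted by `i`
  have hlift : ∀ h ∈ NB, ∃ k ∈ NB, i * k * i = k⁻¹ ∧ h⁻¹ * k ∈ B := by
    intro h hh
    obtain ⟨j, hj, e⟩ := Finset.surj_on_of_inj_on_of_card_le
      (fun j (_ : j ∈ fib (g : G ⧸ NB)) => (i * j) * v * (i * j)⁻¹)
      (fun j hj => himg _ i hi j hj)
      (fun a b ha hb e => hinj _ hwne i hi a ha b hb e)
      (le_of_eq (heq _ (Finset.mem_univ _)).symm) _ (d.conj_invB hh hv)
    have hj2 := (Finset.mem_filter.1 (Finset.mem_filter.1 hj).1).2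
    have hk : i * j ∈ NB := by
      have e' := QuotientGroup.eq.1 (hiw.trans (Finset.mem_filter.1 hj).2.symm)
      rwa [hii] at e'
    refine ⟨i * j, hk, ?_, ?_⟩
    · rw [mul_inv_rev, hii, invol_inv hj2, ← mul_assoc, invol_mul_self hi2, one_mul]
    · refine d.cen_le_of_two (mem_invB.1 hv).1 (d.two_dvd_of_mem hv) ?_
      calc h⁻¹ * (i * j) * v = h⁻¹ * ((i * j) * v * (i * j)⁻¹) * (i * j) := by group
        _ = v * (h⁻¹ * (i * j)) := by rw [← e]; group
  have hBc : ∀ h ∈ NB, ∀ b ∈ B, h * b * h⁻¹ ∈ B := fun h hh b hb => d.conj_mem hh hb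
  have key : ∀ k₁ ∈ NB, i * k₁ * i = k₁⁻¹ → ∀ k₂ ∈ NB, i * k₂ * i = k₂⁻¹ →
      k₁ * k₂ * k₁⁻¹ * k₂⁻¹ ∈ B := by
    intro k₁ hk₁ e₁ k₂ hk₂ e₂
    obtain ⟨k₃, hk₃, e₃, hb⟩ := hlift (k₁ * k₂) (mul_mem hk₁ hk₂)
    have ii := invol_mul_self hi2
    have hiN : i * ((k₁ * k₂)⁻¹ * k₃) * i ∈ NB := by
      have e12 : i * (k₁ * k₂)⁻¹ * i = k₂ * k₁ := by
        have h1 : i * (k₁ * k₂) * i = k₁⁻¹ * k₂⁻¹ := by
          rw [show i * (k₁ * k₂) * i = (i * k₁ * i⁻¹) * (i * k₂ * i) by group, hii, e₁, e₂]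
        calc i * (k₁ * k₂)⁻¹ * i = i⁻¹ * (k₁ * k₂)⁻¹ * i⁻¹ := by rw [hii]
          _ = (i * (k₁ * k₂) * i)⁻¹ := by group
          _ = k₂ * k₁ := by rw [h1]; group
      rw [show i * ((k₁ * k₂)⁻¹ * k₃) * i = (i * (k₁ * k₂)⁻¹ * i⁻¹) * (i * k₃ * i) by group,
        hii, e12, e₃]
      exact mul_mem (mul_mem hk₂ hk₁) (inv_mem hk₃)
    have hz : (k₁ * k₂)⁻¹ * k₃ ∈ Z := by
      have e := QuotientGroup.eq.1 hiw.symm
      refine hreg _ hb ?_
      have h1 := mul_mem (mul_mem e hiN) (inv_mem e)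
      rw [show g⁻¹ * i * (i * ((k₁ * k₂)⁻¹ * k₃) * i) * (g⁻¹ * i)⁻¹ =
        g⁻¹ * (i * i) * ((k₁ * k₂)⁻¹ * k₃) * (i * i⁻¹) * g by group, ii, mul_inv_cancel] at h1
      simpa using h1
    obtain ⟨z, hzdef⟩ : ∃ z, z = (k₁ * k₂)⁻¹ * k₃ := ⟨_, rfl⟩
    rw [← hzdef] at hz
    have hk3 : k₃ = k₁ * k₂ * z := by rw [hzdef]; group
    -- conjugating by `i` gives the commutator as a power of `z`
    have e4 : k₁⁻¹ * k₂⁻¹ * z = z⁻¹ * k₂⁻¹ * k₁⁻¹ := by
      have hzi : i * z * i = z := by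
        have := d.z_conj hz i
        rwa [hii] at this
      calc k₁⁻¹ * k₂⁻¹ * z = (i * k₁ * i) * (i * k₂ * i) * (i * z * i) := by rw [e₁, e₂, hzi]
        _ = i * (k₁ * (i * i) * k₂ * (i * i) * z) * i := by group
        _ = i * k₃ * i := by rw [ii, mul_one, mul_one, hk3]
        _ = z⁻¹ * k₂⁻¹ * k₁⁻¹ := by rw [e₃, hk3]; group
    have e5 : k₁⁻¹ * k₂⁻¹ = z⁻¹ * k₂⁻¹ * k₁⁻¹ * z⁻¹ := by rw [← e4]; group
    rw [show k₁ * k₂ * k₁⁻¹ * k₂⁻¹ = k₁ * k₂ * (k₁⁻¹ * k₂⁻¹) by group, e5,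
      show k₁ * k₂ * (z⁻¹ * k₂⁻¹ * k₁⁻¹ * z⁻¹) = (k₁ * k₂) * z⁻¹ * (k₁ * k₂)⁻¹ * z⁻¹ by group,
      d.z_conj (inv_mem hz)]
    exact d.zB (mul_mem (inv_mem hz) (inv_mem hz))
  intro h₁ hh₁ h₂ hh₂
  obtain ⟨k₁, hk₁, e₁, hb₁⟩ := hlift h₁ hh₁
  obtain ⟨k₂, hk₂, e₂, hb₂⟩ := hlift h₂ hh₂
  have hc := key k₁ hk₁ e₁ k₂ hk₂ e₂
  let N := B.subgroupOf NB
  let q := QuotientGroup.mk' N
  have hq : ∀ (a : G) (ha : a ∈ NB) (b : G) (hb : b ∈ NB), a⁻¹ * b ∈ B → q ⟨a, ha⟩ = q ⟨b, hb⟩ :=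
    fun a ha b hb h => QuotientGroup.eq.2 (Subgroup.mem_subgroupOf.2 h)
  have h0 : q (⟨k₁, hk₁⟩ * ⟨k₂, hk₂⟩ * ⟨k₁, hk₁⟩⁻¹ * ⟨k₂, hk₂⟩⁻¹) = 1 :=
    (QuotientGroup.eq_one_iff _).2 (Subgroup.mem_subgroupOf.2 hc)
  have h1 : q (⟨h₁, hh₁⟩ * ⟨h₂, hh₂⟩ * ⟨h₁, hh₁⟩⁻¹ * ⟨h₂, hh₂⟩⁻¹) = 1 := by
    simp only [map_mul, map_inv] at h0 ⊢
    rw [hq h₁ hh₁ k₁ hk₁ hb₁, hq h₂ hh₂ k₂ hk₂ hb₂]
    exact h0
  exact Subgroup.mem_subgroupOf.1 ((QuotientGroup.eq_one_iff _).1 h1)

end TIData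

end CfsgLib.Recog.NonCA
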